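import Mathlib

/-!
# Tensoring a locally bijective morphism of presheaves of modules
-/

set_option autoImplicit false
universe u v₁ u₁
open CategoryTheory MonoidalCategory Opposite

namespace Groth.Agent.Lib.Helper30.ModTensor

variable {C : Type u₁} [Category.{v₁} C] (J : GrothendieckTopology C) {R : Cᵒᵖ ⥤ CommRingCat.{u}}


section General

variable {R₀ : Cᵒᵖ ⥤ RingCat.{u}} {M₁ M₂ : PresheafOfModules.{u} R₀} (ψ : M₁ ⟶ M₂)

lemma imageSieve_iff {U V : C} (s : M₂.obj (op U)) (g : V ⟶ U) :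
    Presheaf.imageSieve ((PresheafOfModules.toPresheaf R₀).map ψ) (U := U) s g ↔
      ∃ t : M₁.obj (op V), ψ.app (op V) t = M₂.map g.op s := Iff.rfl

lemma equalizerSieve_iff {U V : C} (x y : M₁.obj (op U)) (g : V ⟶ U) :
    Presheaf.equalizerSieve (F := M₁.presheaf) (X := op U) x y g ↔
      M₁.map g.op x = M₁.map g.op y := Iff.rfl

end General


section Algebra
open TensorProduct

variable {A B : Type u} [CommRing A] [CommRing B] (σ : A →+* B)
  {X N : Type u} [AddCommGroup X] [Module A X] [AddCommGroup N] [Module A N]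
  {Y NV : Type u} [AddCommGroup Y] [Module B Y] [AddCommGroup NV] [Module B NV]

/-- the tensor product of two semilinear maps, as an additive map. -/
noncomputable def tmap (ρ : X →+ Y) (hρ : ∀ a x, ρ (a • x) = σ a • ρ x)
    (ν : N →+ NV) (hν : ∀ a n, ν (a • n) = σ a • ν n) : X ⊗[A] N →+ Y ⊗[B] NV :=
  TensorProduct.liftAddHom
    (AddMonoidHom.mk' (fun x => AddMonoidHom.mk' (fun n => ρ x ⊗ₜ[B] ν n)
      (fun n n' => by rw [map_add, tmul_add]))
      (fun x x' => by
        ext n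
        simp only [AddMonoidHom.mk'_apply, AddMonoidHom.add_apply]
        rw [map_add, add_tmul]))
    (fun a x n => by
      simp only [AddMonoidHom.mk'_apply]
      rw [hρ, hν, smul_tmul])

@[simp]
lemma tmap_tmul (ρ : X →+ Y) (hρ : ∀ a x, ρ (a • x) = σ a • ρ x)
    (ν : N →+ NV) (hν : ∀ a n, ν (a • n) = σ a • ν n) (x : X) (n : N) :
    tmap σ ρ hρ ν hν (x ⊗ₜ[A] n) = ρ x ⊗ₜ[B] ν n := rfl

end Algebra

variable {P P' : PresheafOfModules.{u} (R ⋙ forget₂ CommRingCat.{u} RingCat.{u})} (φ : P ⟶ P')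
  (N : PresheafOfModules.{u} (R ⋙ forget₂ CommRingCat.{u} RingCat.{u}))

lemma whiskerRight_app_tmul {V : Cᵒᵖ} (q : P.obj V) (n : N.obj V) :
    (φ ▷ N).app V (q ⊗ₜ[R.obj V] n) = (φ.app V q) ⊗ₜ[R.obj V] n := rfl

lemma tensor_map_tmul {U V : Cᵒᵖ} (g : U ⟶ V) (p : P.obj U) (n : N.obj U) :
    (P ⊗ N).map g (p ⊗ₜ[R.obj U] n) = (P.map g p) ⊗ₜ[R.obj V] (N.map g n) := rfl

lemma imageSieve_whiskerRight_mem [PresheafOfModules.IsLocallySurjective J φ] (U : C)
    (s : TensorProduct (R.obj (op U)) (P'.obj (op U)) (N.obj (op U))) :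
    Presheaf.imageSieve ((PresheafOfModules.toPresheaf _).map (φ ▷ N)) (U := U) s ∈ J U := by
  induction s using TensorProduct.induction_on with
  | zero =>
    convert J.top_mem U
    ext V g
    simp only [Sieve.top_apply, iff_true]
    exact (imageSieve_iff (φ ▷ N) _ g).mpr
      ⟨0, (map_zero ((φ ▷ N).app (op V)).hom).trans (map_zero ((P' ⊗ N).map g.op).hom).symm⟩
  | tmul p n =>
    apply J.superset_covering _
      (Presheaf.imageSieve_mem J ((PresheafOfModules.toPresheaf _).map φ) (U := op U) p)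
    intro V g hg
    obtain ⟨q, hq⟩ := (imageSieve_iff φ p g).mp hg
    refine (imageSieve_iff (φ ▷ N) _ g).mpr ⟨q ⊗ₜ[R.obj (op V)] N.map g.op n, ?_⟩
    rw [whiskerRight_app_tmul, hq]
    rfl
  | add x y hx hy =>
    apply J.superset_covering _ (J.intersection_covering hx hy)
    rintro V g ⟨h1, h2⟩
    obtain ⟨t1, ht1⟩ := (imageSieve_iff (φ ▷ N) _ g).mp h1
    obtain ⟨t2, ht2⟩ := (imageSieve_iff (φ ▷ N) _ g).mp h2
    exact (imageSieve_iff (φ ▷ N) _ g).mpr ⟨t1 + t2,
      (map_add ((φ ▷ N).app (op V)).hom t1 t2).trans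
        ((congrArg₂ (· + ·) ht1 ht2).trans (map_add ((P' ⊗ N).map g.op).hom x y).symm)⟩

theorem isLocallySurjective_whiskerRight [PresheafOfModules.IsLocallySurjective J φ] :
    PresheafOfModules.IsLocallySurjective J (φ ▷ N) :=
  ⟨fun {U} s => imageSieve_whiskerRight_mem J φ N U s⟩

section Restriction

variable (M : PresheafOfModules.{u} (R ⋙ forget₂ CommRingCat.{u} RingCat.{u}))

/-- restriction maps as additive maps. -/
noncomputable def resAdd {U V : C} (g : V ⟶ U) : M.obj (op U) →+ M.obj (op V) :=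
  AddMonoidHom.mk' (fun x => M.map g.op x) (fun x y => map_add (M.map g.op).hom x y)

lemma resAdd_apply {U V : C} (g : V ⟶ U) (x : M.obj (op U)) : resAdd M g x = M.map g.op x := rfl

lemma resAdd_smul {U V : C} (g : V ⟶ U) (a : R.obj (op U)) (x : M.obj (op U)) :
    resAdd M g (a • x) = (R.map g.op).hom a • resAdd M g x :=
  M.map_smul g.op a x

end Restriction

lemma tensor_map_eq_tmap {U V : C} (g : V ⟶ U)
    (z : TensorProduct (R.obj (op U)) (P.obj (op U)) (N.obj (op U))) :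
    (P ⊗ N).map g.op z =
      tmap (R.map g.op).hom (resAdd P g) (resAdd_smul P g) (resAdd N g) (resAdd_smul N g) z := by
  induction z using TensorProduct.induction_on with
  | zero => exact (map_zero ((P ⊗ N).map g.op).hom).trans (map_zero _).symm
  | tmul p n => rfl
  | add x y hx hy =>
    exact (map_add ((P ⊗ N).map g.op).hom x y).trans
      ((congrArg₂ (· + ·) hx hy).trans (map_add _ x y).symm)

section LocallyZero

/-- a section of `P ⊗ N` is locally zero. -/
def LZ {V : C} (x : TensorProduct (R.obj (op V)) (P.obj (op V)) (N.obj (op V))) : Prop :=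
  ∃ S ∈ J V, ∀ ⦃W : C⦄ (h : W ⟶ V), S h → (P ⊗ N).map h.op x = 0

variable {J N}

lemma LZ_zero {V : C} : LZ J (P := P) N (V := V) 0 :=
  ⟨⊤, J.top_mem V, fun _ h _ => map_zero ((P ⊗ N).map h.op).hom⟩

lemma LZ_add {V : C} {x y : TensorProduct (R.obj (op V)) (P.obj (op V)) (N.obj (op V))}
    (hx : LZ J N x) (hy : LZ J N y) : LZ J N (x + y) := by
  obtain ⟨S, hS, h1⟩ := hx
  obtain ⟨S', hS', h2⟩ := hy
  refine ⟨S ⊓ S', J.intersection_covering hS hS', fun W h hh => ?_⟩
  exact (map_add ((P ⊗ N).map h.op).hom x y).trans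
    ((congrArg₂ (· + ·) (h1 h hh.1) (h2 h hh.2)).trans (add_zero _))

lemma LZ_tmul {V : C} (κ : P.obj (op V)) (n : N.obj (op V))
    (hκ : ∃ S ∈ J V, ∀ ⦃W : C⦄ (h : W ⟶ V), S h → P.map h.op κ = 0) :
    LZ J N (κ ⊗ₜ[R.obj (op V)] n) := by
  obtain ⟨S, hS, h1⟩ := hκ
  refine ⟨S, hS, fun W h hh => ?_⟩
  have : (P ⊗ N).map h.op (κ ⊗ₜ[R.obj (op V)] n) =
      (P.map h.op κ) ⊗ₜ[R.obj (op W)] (N.map h.op n) := rfl
  rw [this, h1 h hh]
  exact TensorProduct.zero_tmul _ _

end LocallyZero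

section Kernel

lemma locallyZero_of_mem_ker [PresheafOfModules.IsLocallyInjective J φ] {V : C} (κ : P.obj (op V))
    (hκ : φ.app (op V) κ = 0) :
    ∃ S ∈ J V, ∀ ⦃W : C⦄ (h : W ⟶ V), S h → P.map h.op κ = 0 := by
  have h0 : φ.app (op V) κ = φ.app (op V) 0 := hκ.trans (map_zero (φ.app (op V)).hom).symm
  refine ⟨_, Presheaf.equalizerSieve_mem J ((PresheafOfModules.toPresheaf _).map φ)
    (X := op V) κ 0 h0, fun W h hh => ?_⟩
  exact ((equalizerSieve_iff κ 0 h).mp hh).trans (map_zero (P.map h.op).hom)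

lemma LZ_rTensor_ker [PresheafOfModules.IsLocallyInjective J φ] {V : C}
    (K : Submodule (R.obj (op V)) (P.obj (op V))) (hK : ∀ κ ∈ K, φ.app (op V) κ = 0)
    (w : TensorProduct (R.obj (op V)) K (N.obj (op V))) :
    LZ J N (LinearMap.rTensor (N.obj (op V)) K.subtype w) := by
  induction w using TensorProduct.induction_on with
  | zero => rw [map_zero]; exact LZ_zero
  | tmul κ n =>
    exact LZ_tmul κ.1 n (locallyZero_of_mem_ker J φ κ.1 (hK κ.1 κ.2))
  | add x y hx hy => rw [map_add]; exact LZ_add hx hy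

end Kernel

section FG

lemma exists_sieve_of_fg [PresheafOfModules.IsLocallySurjective J φ] {U : C}
    (Q : Submodule (R.obj (op U)) (P'.obj (op U))) (hQ : Q.FG) :
    ∃ S ∈ J U, ∀ ⦃V : C⦄ (g : V ⟶ U), S g → ∀ y ∈ Q,
      ∃ q : P.obj (op V), φ.app (op V) q = P'.map g.op y := by
  refine Submodule.fg_induction
    (motive := fun (Q : Submodule (R.obj (op U)) (P'.obj (op U))) _ =>
      ∃ S ∈ J U, ∀ ⦃V : C⦄ (g : V ⟶ U), S g → ∀ y ∈ Q,
      ∃ q : P.obj (op V), φ.app (op V) q = P'.map g.op y) ?_ ?_ Q hQ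
  · intro x
    refine ⟨_, Presheaf.imageSieve_mem J ((PresheafOfModules.toPresheaf _).map φ) (U := op U) x,
      fun V g hg y hy => ?_⟩
    obtain ⟨q₀, hq₀⟩ := (imageSieve_iff φ x g).mp hg
    obtain ⟨a, rfl⟩ := Submodule.mem_span_singleton.mp hy
    refine ⟨(R.map g.op).hom a • q₀, ?_⟩
    have h1 : φ.app (op V) ((R.map g.op).hom a • q₀) = (R.map g.op).hom a • φ.app (op V) q₀ :=
      map_smul (φ.app (op V)).hom _ _
    have h2 : P'.map g.op (a • x) = (R.map g.op).hom a • P'.map g.op x := P'.map_smul g.op a x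
    exact h1.trans ((congrArg (fun z => (R.map g.op).hom a • z) hq₀).trans h2.symm)
  · rintro M₁ M₂ - - ⟨S₁, hS₁, h₁⟩ ⟨S₂, hS₂, h₂⟩
    refine ⟨S₁ ⊓ S₂, J.intersection_covering hS₁ hS₂, fun V g hg y hy => ?_⟩
    obtain ⟨y₁, hy₁, y₂, hy₂, rfl⟩ := Submodule.mem_sup.mp hy
    obtain ⟨q₁, hq₁⟩ := h₁ g hg.1 y₁ hy₁
    obtain ⟨q₂, hq₂⟩ := h₂ g hg.2 y₂ hy₂
    refine ⟨q₁ + q₂, ?_⟩
    have h1 : φ.app (op V) (q₁ + q₂) = φ.app (op V) q₁ + φ.app (op V) q₂ :=
      map_add (φ.app (op V)).hom _ _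
    have h2 : P'.map g.op (y₁ + y₂) = P'.map g.op y₁ + P'.map g.op y₂ :=
      map_add (P'.map g.op).hom _ _
    exact h1.trans ((congrArg₂ (· + ·) hq₁ hq₂).trans h2.symm)

end FG

section Main

variable {J N}

lemma LZ_of_forall_LZ_restrict {U : C}
    (z : TensorProduct (R.obj (op U)) (P.obj (op U)) (N.obj (op U))) (S : Sieve U) (hS : S ∈ J U)
    (h : ∀ ⦃V : C⦄ (g : V ⟶ U), S g → LZ J N ((P ⊗ N).map g.op z)) : LZ J N z := by
  choose T hT hT0 using h
  refine ⟨Sieve.bind S (fun V g hg => T g hg), J.bind_covering hS (fun V g hg => hT g hg), ?_⟩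
  rintro W k ⟨V, h, g, hg, hh, rfl⟩
  have e : (P ⊗ N).map (h ≫ g).op z = (P ⊗ N).map h.op ((P ⊗ N).map g.op z) := by
    have := PresheafOfModules.map_comp_apply (P ⊗ N) g.op h.op z
    exact (PresheafOfModules.congr_map_apply (P ⊗ N) (op_comp (f := h) (g := g)) z).trans this
  exact e.trans (hT0 g hg h hh)

lemma LZ_restrict_of_data [PresheafOfModules.IsLocallyInjective J φ] {U V : C} (g : V ⟶ U)
    (P₁ : Submodule (R.obj (op U)) (P.obj (op U)))
    (Q : Submodule (R.obj (op U)) (P'.obj (op U)))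
    (hP₁Q : ∀ x ∈ P₁, (φ.app (op U)).hom x ∈ Q)
    (hQ : ∀ y ∈ Q, ∃ q : P.obj (op V), φ.app (op V) q = P'.map g.op y)
    (t₁ : TensorProduct (R.obj (op U)) P₁ (N.obj (op U)))
    (h0 : LinearMap.rTensor (N.obj (op U)) ((φ.app (op U)).hom.restrict hP₁Q) t₁ = 0) :
    LZ J N ((P ⊗ N).map g.op (LinearMap.rTensor (N.obj (op U)) P₁.subtype t₁)) := by
  let φV : P.obj (op V) →ₗ[R.obj (op V)] P'.obj (op V) := (φ.app (op V)).hom
  let ρQ : Q →+ LinearMap.range φV :=
    AddMonoidHom.mk' (fun y => ⟨P'.map g.op y.1, by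
      obtain ⟨q, hq⟩ := hQ y.1 y.2
      exact ⟨q, hq⟩⟩)
      (fun y y' => Subtype.ext (map_add (P'.map g.op).hom y.1 y'.1))
  have hρQ : ∀ (a : R.obj (op U)) (y : Q), ρQ (a • y) = (R.map g.op).hom a • ρQ y :=
    fun a y => Subtype.ext (P'.map_smul g.op a y.1)
  let β := tmap (R.map g.op).hom ρQ hρQ (resAdd N g) (resAdd_smul N g)
  have key : ∀ t' : TensorProduct (R.obj (op U)) P₁ (N.obj (op U)),
      β (LinearMap.rTensor (N.obj (op U)) ((φ.app (op U)).hom.restrict hP₁Q) t') =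
        LinearMap.rTensor (N.obj (op V)) φV.rangeRestrict
          ((P ⊗ N).map g.op (LinearMap.rTensor (N.obj (op U)) P₁.subtype t')) := by
    intro t'
    induction t' using TensorProduct.induction_on with
    | zero =>
      rw [map_zero, map_zero, map_zero]
      exact ((congrArg _ (map_zero ((P ⊗ N).map g.op).hom)).trans (map_zero _)).symm
    | tmul x n =>
      show (ρQ ⟨φ.app (op U) x.1, hP₁Q x.1 x.2⟩) ⊗ₜ[R.obj (op V)] (N.map g.op n) =
        (φV.rangeRestrict (P.map g.op x.1)) ⊗ₜ[R.obj (op V)] (N.map g.op n)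
      congr 1
      exact Subtype.ext (PresheafOfModules.naturality_apply φ g.op x.1).symm
    | add a b ha hb =>
      rw [map_add, map_add, ha, hb, map_add]
      exact ((congrArg _ (map_add ((P ⊗ N).map g.op).hom _ _)).trans (map_add _ _ _)).symm
  have h1 : LinearMap.rTensor (N.obj (op V)) φV.rangeRestrict
      ((P ⊗ N).map g.op (LinearMap.rTensor (N.obj (op U)) P₁.subtype t₁)) = 0 := by
    rw [← key, h0, map_zero]
  have hex := rTensor_exact (N.obj (op V)) (LinearMap.exact_subtype_ker_map φV.rangeRestrict)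
    φV.surjective_rangeRestrict
  obtain ⟨w, hw⟩ := (hex _).mp h1
  have hLZ := LZ_rTensor_ker J φ N (LinearMap.ker φV.rangeRestrict) (fun κ hκ => by
    have h2 : φV.rangeRestrict κ = 0 := hκ
    exact congrArg Subtype.val h2) w
  rw [hw] at hLZ
  exact hLZ

lemma LZ_of_whiskerRight_eq_zero [PresheafOfModules.IsLocallySurjective J φ]
    [PresheafOfModules.IsLocallyInjective J φ] {U : C}
    (z : TensorProduct (R.obj (op U)) (P.obj (op U)) (N.obj (op U)))
    (hz : (φ ▷ N).app (op U) z = 0) : LZ J N z := by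
  let φU : P.obj (op U) →ₗ[R.obj (op U)] P'.obj (op U) := (φ.app (op U)).hom
  have hz' : LinearMap.rTensor (N.obj (op U)) φU z = 0 := hz
  obtain ⟨P₁, hP₁, t₁, ht₁⟩ := TensorProduct.exists_of_fg z
  have hP₀ : (P₁.map φU).FG := hP₁.map _
  have hmem : ∀ x ∈ P₁, φU x ∈ P₁.map φU :=
    fun x hx => Submodule.mem_map_of_mem hx
  have ht : LinearMap.rTensor (N.obj (op U)) (P₁.map φU).subtype
      (LinearMap.rTensor (N.obj (op U)) (φU.restrict hmem) t₁) = 0 := by
    rw [← LinearMap.rTensor_comp_apply]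
    have e : (P₁.map φU).subtype ∘ₗ (φU.restrict hmem) = φU ∘ₗ P₁.subtype := by
      ext x; rfl
    rw [e, LinearMap.rTensor_comp_apply, ht₁]
    exact hz'
  obtain ⟨Q, hPQ, hQ, hQ0⟩ := TensorProduct.eq_zero_of_fg_of_subtype_eq_zero hP₀ ht
  obtain ⟨S, hS, hSQ⟩ := exists_sieve_of_fg J φ Q hQ
  have hP₁Q : ∀ x ∈ P₁, φU x ∈ Q := fun x hx => hPQ (hmem x hx)
  have h0 : LinearMap.rTensor (N.obj (op U)) (φU.restrict hP₁Q) t₁ = 0 := by
    rw [← LinearMap.rTensor_comp_apply] at hQ0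
    exact hQ0
  rw [← ht₁]
  exact LZ_of_forall_LZ_restrict _ S hS
    (fun V g hg => LZ_restrict_of_data φ g P₁ Q hP₁Q (hSQ g hg) t₁ h0)

end Main

section Final

theorem isLocallyInjective_whiskerRight [PresheafOfModules.IsLocallySurjective J φ]
    [PresheafOfModules.IsLocallyInjective J φ] :
    PresheafOfModules.IsLocallyInjective J (φ ▷ N) := by
  constructor
  intro X x y h
  obtain ⟨U⟩ := X
  have hsub : (φ ▷ N).app (op U) (x - y) = 0 :=
    (map_sub ((φ ▷ N).app (op U)).hom x y).trans (sub_eq_zero.mpr h)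
  obtain ⟨S, hS, hS0⟩ := LZ_of_whiskerRight_eq_zero φ (J := J) (N := N) (x - y) hsub
  refine J.superset_covering ?_ hS
  intro V g hg
  have h1 : (P ⊗ N).map g.op (x - y) = 0 := hS0 g hg
  have h2 : (P ⊗ N).map g.op (x - y) = (P ⊗ N).map g.op x - (P ⊗ N).map g.op y :=
    map_sub ((P ⊗ N).map g.op).hom x y
  exact (equalizerSieve_iff (M₁ := P ⊗ N) x y g).mpr (sub_eq_zero.mp (h2.symm.trans h1))

end Final

section Sheafify

variable {C : Type u} [SmallCategory C] {J : GrothendieckTopology C} (O : Sheaf J CommRingCat.{u})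

/-- presheaves of modules over (the underlying presheaf of rings of) `O`. -/
abbrev PM := PresheafOfModules.{u} (O.obj ⋙ forget₂ CommRingCat.{u} RingCat.{u})

/-- the underlying sheaf of rings. -/
abbrev RS : Sheaf J RingCat.{u} := (sheafCompose J (forget₂ CommRingCat.{u} RingCat.{u})).obj O

/-- sheafification of presheaves of modules. -/
noncomputable abbrev shf : PM O ⥤ SheafOfModules.{u} (RS O) :=
  (PresheafOfModules.sheafification.{u} (𝟙 (RS O).obj) :
    PresheafOfModules.{u} (RS O).obj ⥤ SheafOfModules.{u} (RS O))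

variable {O}

lemma isIso_shf_map_iff {M M' : PM O} (f : M ⟶ M') :
    IsIso ((shf O).map f) ↔
      PresheafOfModules.IsLocallyInjective J f ∧ PresheafOfModules.IsLocallySurjective J f := by
  have h := PresheafOfModules.inverseImage_W_toPresheaf_eq_inverseImage_isomorphisms.{u}
    (J := J) (R := RS O) (𝟙 (RS O).obj)
  have h1 : (J.W.inverseImage (PresheafOfModules.toPresheaf (RS O).obj)) f ↔
      ((MorphismProperty.isomorphisms _).inverseImage
        (PresheafOfModules.sheafification.{u} (𝟙 (RS O).obj))) f := by rw [h]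
  have h' : J.W ((PresheafOfModules.toPresheaf _).map f) ↔ IsIso ((shf O).map f) := h1
  rw [← h', J.W_iff_isLocallyBijective]

lemma isIso_shf_map_whiskerRight {M M' : PM O} (f : M ⟶ M') (N : PM O)
    (hf : IsIso ((shf O).map f)) : IsIso ((shf O).map (f ▷ N)) := by
  rw [isIso_shf_map_iff] at hf ⊢
  obtain ⟨h1, h2⟩ := hf
  exact ⟨isLocallyInjective_whiskerRight J f N, isLocallySurjective_whiskerRight J f N⟩

lemma isIso_shf_map_whiskerLeft {M M' : PM O} (f : M ⟶ M') (N : PM O)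
    (hf : IsIso ((shf O).map f)) : IsIso ((shf O).map (N ◁ f)) := by
  have h := isIso_shf_map_whiskerRight f N hf
  have e : N ◁ f = (β_ N M).hom ≫ (f ▷ N) ≫ (β_ M' N).hom := by
    rw [BraidedCategory.braiding_naturality_left, ← Category.assoc]
    simp
  rw [e, Functor.map_comp, Functor.map_comp]
  infer_instance

lemma isIso_shf_map_tensorHom {M M' N N' : PM O} (f : M ⟶ M') (g : N ⟶ N')
    (hf : IsIso ((shf O).map f)) (hg : IsIso ((shf O).map g)) :
    IsIso ((shf O).map (f ⊗ₘ g)) := by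
  have h1 := isIso_shf_map_whiskerRight f N hf
  have h2 := isIso_shf_map_whiskerLeft g M' hg
  rw [MonoidalCategory.tensorHom_def, Functor.map_comp]
  infer_instance

/-- the unit of the sheafification adjunction, as a morphism of `PM O`. -/
noncomputable abbrev shfUnit (M : PM O) : M ⟶ ((shf O).obj M).val :=
  (PresheafOfModules.sheafificationAdjunction.{u} (𝟙 (RS O).obj)).unit.app M

lemma isIso_shf_map_unit (M : PM O) : IsIso ((shf O).map (shfUnit M)) := by
  have h := (PresheafOfModules.sheafificationAdjunction.{u}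
    (𝟙 (RS O).obj)).left_triangle_components M
  have h3 : IsIso ((PresheafOfModules.sheafificationAdjunction.{u} (𝟙 (RS O).obj)).counit.app
        ((PresheafOfModules.sheafification.{u} (𝟙 (RS O).obj)).obj M)) := inferInstance
  have h2 : IsIso ((PresheafOfModules.sheafification.{u} (𝟙 (RS O).obj)).map
        ((PresheafOfModules.sheafificationAdjunction.{u} (𝟙 (RS O).obj)).unit.app M) ≫
      (PresheafOfModules.sheafificationAdjunction.{u} (𝟙 (RS O).obj)).counit.app
        ((PresheafOfModules.sheafification.{u} (𝟙 (RS O).obj)).obj M)) := by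
    rw [h]; infer_instance
  exact @IsIso.of_isIso_comp_right _ _ _ _ _ _ _ h3 h2

end Sheafify

end Groth.Agent.Lib.Helper30.ModTensor
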