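import Mathlib
import Groth.Prelude.Def_ModSite
import Groth.Agent.Lib.Helper30.ModTensor

/-!
# Restriction to `C/X` of presheaves and sheaves of modules
-/

set_option autoImplicit false
universe u
open CategoryTheory MonoidalCategory Limits Opposite
open Groth.Agent.Lib.Helper30.ModTensor

namespace Groth.Agent.Lib.Helper30.ModRestr


section General

variable {D : Type u} [SmallCategory D] {K : GrothendieckTopology D} (R : Sheaf K RingCat.{u})

lemma isIso_sheafification_map_iff {M M' : PresheafOfModules.{u} R.obj} (f : M ⟶ M') :
    IsIso ((PresheafOfModules.sheafification.{u} (𝟙 R.obj)).map f) ↔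
      PresheafOfModules.IsLocallyInjective K f ∧ PresheafOfModules.IsLocallySurjective K f := by
  have h := PresheafOfModules.inverseImage_W_toPresheaf_eq_inverseImage_isomorphisms.{u}
    (J := K) (R := R) (𝟙 R.obj)
  have h1 : (K.W.inverseImage (PresheafOfModules.toPresheaf R.obj)) f ↔
      ((MorphismProperty.isomorphisms _).inverseImage
        (PresheafOfModules.sheafification.{u} (𝟙 R.obj))) f := by rw [h]
  have h' : K.W ((PresheafOfModules.toPresheaf _).map f) ↔
      IsIso ((PresheafOfModules.sheafification.{u} (𝟙 R.obj)).map f) := h1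
  rw [← h', K.W_iff_isLocallyBijective]

lemma isIso_sheafification_map_unit (M : PresheafOfModules.{u} R.obj) :
    IsIso ((PresheafOfModules.sheafification.{u} (𝟙 R.obj)).map
      ((PresheafOfModules.sheafificationAdjunction.{u} (𝟙 R.obj)).unit.app M)) := by
  have h := (PresheafOfModules.sheafificationAdjunction.{u}
    (𝟙 R.obj)).left_triangle_components M
  have h3 : IsIso ((PresheafOfModules.sheafificationAdjunction.{u} (𝟙 R.obj)).counit.app
        ((PresheafOfModules.sheafification.{u} (𝟙 R.obj)).obj M)) := inferInstance
  have h2 : IsIso ((PresheafOfModules.sheafification.{u} (𝟙 R.obj)).map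
        ((PresheafOfModules.sheafificationAdjunction.{u} (𝟙 R.obj)).unit.app M) ≫
      (PresheafOfModules.sheafificationAdjunction.{u} (𝟙 R.obj)).counit.app
        ((PresheafOfModules.sheafification.{u} (𝟙 R.obj)).obj M)) := by
    rw [h]; infer_instance
  exact @IsIso.of_isIso_comp_right _ _ _ _ _ _ _ h3 h2

lemma unit_isLocallyBijective (M : PresheafOfModules.{u} R.obj) :
    PresheafOfModules.IsLocallyInjective K
      ((PresheafOfModules.sheafificationAdjunction.{u} (𝟙 R.obj)).unit.app M) ∧
    PresheafOfModules.IsLocallySurjective K
      ((PresheafOfModules.sheafificationAdjunction.{u} (𝟙 R.obj)).unit.app M) :=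
  (isIso_sheafification_map_iff R _).mp (isIso_sheafification_map_unit R M)

end General

variable {C : Type u} [SmallCategory C] {J : GrothendieckTopology C} (O : Sheaf J CommRingCat.{u})
  (X : C)

/-- restriction of presheaves of modules to `C/X`. -/
noncomputable abbrev resP : PresheafOfModules.{u} (RS O).obj ⥤
    PresheafOfModules.{u} ((RS O).over X).obj :=
  PresheafOfModules.pushforward.{u} (F := Over.forget X) (show (RS O).over X ⟶ (RS O).over X from 𝟙 _).hom

lemma restr_obj_val (M : ModSite.Mod O) :
    ((ModSite.restr O X).obj M).val = (resP O X).obj M.val := rfl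

section LocallyBijective

variable {O X} {P P' : PresheafOfModules.{u} (RS O).obj} (ψ : P ⟶ P')

lemma isLocallyInjective_resP [PresheafOfModules.IsLocallyInjective J ψ] :
    PresheafOfModules.IsLocallyInjective (J.over X) ((resP O X).map ψ) := by
  constructor
  intro W x y h
  obtain ⟨Y⟩ := W
  let x' : P.obj (op Y.left) := x
  let y' : P.obj (op Y.left) := y
  have h' : ψ.app (op Y.left) x' = ψ.app (op Y.left) y' := h
  have hE := Presheaf.equalizerSieve_mem J ((PresheafOfModules.toPresheaf _).map ψ)
    (X := op Y.left) x' y' h'
  refine (J.over X).superset_covering ?_ (J.overEquiv_symm_mem_over Y _ hE)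
  intro Z f hf
  exact hf

lemma isLocallySurjective_resP [PresheafOfModules.IsLocallySurjective J ψ] :
    PresheafOfModules.IsLocallySurjective (J.over X) ((resP O X).map ψ) := by
  constructor
  intro Y s
  let s' : P'.obj (op Y.left) := s
  have hE := Presheaf.imageSieve_mem J ((PresheafOfModules.toPresheaf _).map ψ)
    (U := op Y.left) s'
  refine (J.over X).superset_covering ?_ (J.overEquiv_symm_mem_over Y _ hE)
  intro Z f hf
  exact hf

end LocallyBijective

section RestrShf

variable (P : PresheafOfModules.{u} (RS O).obj)

/-- `sheafify (P|_X) ≅ (sheafify P)|_X`. -/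
noncomputable def restrShfIso :
    (PresheafOfModules.sheafification.{u} (𝟙 ((RS O).over X).obj)).obj ((resP O X).obj P) ≅
    (SheafOfModules.overFunctor (RS O) X).obj
      ((PresheafOfModules.sheafification.{u} (𝟙 (RS O).obj)).obj P) := by
  let η := (PresheafOfModules.sheafificationAdjunction.{u} (𝟙 (RS O).obj)).unit.app P
  have hη := unit_isLocallyBijective (RS O) P
  have := hη.1
  have := hη.2
  have h1 := isLocallyInjective_resP (X := X) η
  have h2 := isLocallySurjective_resP (X := X) η
  have hiso : IsIso ((PresheafOfModules.sheafification.{u} (𝟙 ((RS O).over X).obj)).map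
      ((resP O X).map η)) := (isIso_sheafification_map_iff _ _).mpr ⟨h1, h2⟩
  have hc : IsIso (PresheafOfModules.sheafificationAdjunction.{u}
    (𝟙 ((RS O).over X).obj)).counit := inferInstance
  exact (@asIso _ _ _ _ _ hiso) ≪≫
    (asIso (PresheafOfModules.sheafificationAdjunction.{u} (𝟙 ((RS O).over X).obj)).counit).app
      ((SheafOfModules.overFunctor (RS O) X).obj
        ((PresheafOfModules.sheafification.{u} (𝟙 (RS O).obj)).obj P))

end RestrShf

section TensorCompat

/-- restriction to `C/X`, typed between the `PM` categories. -/
noncomputable abbrev resPM : PM O ⥤ PM (O.over X) := resP O X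

set_option backward.isDefEq.respectTransparency.types false in
/-- restriction commutes with the presheaf tensor product. -/
noncomputable def resPMTensorIso (A B : PM O) :
    (resPM O X).obj (A ⊗ B) ≅ (resPM O X).obj A ⊗ (resPM O X).obj B :=
  PresheafOfModules.isoMk (fun W => Iso.refl _) (by
    intro W W' f
    exact ModuleCat.MonoidalCategory.tensor_ext (R := (O.over X).obj.obj W) (fun a b => rfl))

end TensorCompat

end Groth.Agent.Lib.Helper30.ModRestr
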