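import Mathlib
import Groth.Agent.Lib.Helper30.ModRestr

/-!
# Epimorphisms of sheaves of modules are the locally surjective morphisms

* `isLocallySurjective_of_epi`, `epi_of_isLocallySurjective`, `epi_iff_isLocallySurjective`
* `preservesFiniteColimits_of_preservesEpi`: a left exact additive functor between abelian
  categories which preserves epimorphisms is exact.
* `overMap_preservesEpi`, `overMap_preservesFiniteColimits`: restriction from `C/Y` to `C/X` along
  `X ⟶ Y` is exact.
-/

set_option autoImplicit false
universe u
open CategoryTheory Limits Opposite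

namespace Groth.Agent.Lib.Helper30.ModEpi

open Groth.Agent.Lib.Helper30.ModRestr Groth.Agent.Lib.Helper30.ModTensor

noncomputable section

section General

/-- a left exact additive functor between abelian categories preserving epimorphisms is exact. -/
lemma preservesFiniteColimits_of_preservesEpi {A B : Type*} [Category A] [Category B]
    [Abelian A] [Abelian B] (F : A ⥤ B) [F.Additive] [PreservesFiniteLimits F]
    [F.PreservesEpimorphisms] : PreservesFiniteColimits F := by
  rw [Functor.preservesFiniteColimits_iff_forall_exact_map_and_epi]
  intro S hS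
  have h0 : PreservesFiniteLimits F := inferInstance
  have h1 := ((Functor.preservesFiniteLimits_iff_forall_exact_map_and_mono F).mp h0 S hS).1
  have h2 := hS.epi_g
  exact ⟨h1, inferInstance⟩

end General

variable {D : Type u} [SmallCategory D] {K : GrothendieckTopology D} (R : Sheaf K RingCat.{u})

variable {R} in
/-- an epimorphism of sheaves of modules is locally surjective. -/
theorem isLocallySurjective_of_epi {M M' : SheafOfModules.{u} R} (f : M ⟶ M') [Epi f] :
    PresheafOfModules.IsLocallySurjective K f.val := by
  let adj := PresheafOfModules.sheafificationAdjunction.{u} (𝟙 R.obj)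
  let shf := PresheafOfModules.sheafification.{u} (𝟙 R.obj)
  let q := cokernel.π f.val
  -- `shf.map f.val` is an epimorphism
  let cM : shf.obj M.val ⟶ M := adj.counit.app M
  let cM' : shf.obj M'.val ⟶ M' := adj.counit.app M'
  have hnat : shf.map f.val ≫ cM' = cM ≫ f := adj.counit.naturality f
  have hc : IsIso adj.counit := inferInstance
  have hcM : IsIso cM := @NatIso.isIso_app_of_isIso _ _ _ _ _ _ _ hc M
  have hcM' : IsIso cM' := @NatIso.isIso_app_of_isIso _ _ _ _ _ _ _ hc M'
  have hepi : Epi (shf.map f.val) := by
    have key : shf.map f.val = (cM ≫ f) ≫ inv cM' := (IsIso.eq_comp_inv _).mpr hnat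
    have e0 : Epi cM := @IsIso.epi_of_iso _ _ _ _ _ hcM
    have e1 : Epi (inv cM') := inferInstance
    have e2 : Epi (cM ≫ f) := epi_comp _ _
    rw [key]
    exact epi_comp _ _
  have hq : shf.map q = 0 := by
    rw [← cancel_epi (shf.map f.val), ← Functor.map_comp, cokernel.condition, Functor.map_zero,
      comp_zero]
  constructor
  intro U x
  -- the class of `x` in the cokernel presheaf is locally zero
  have hunit := adj.unit.naturality q
  have h0 : (adj.unit.app (cokernel f.val)).app (op U) (q.app (op U) x) = 0 := by
    have h1 := congrArg (fun φ => (PresheafOfModules.Hom.app φ (op U)) x) hunit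
    refine h1.trans ?_
    show ((shf.map q).val.app (op U)) ((adj.unit.app M'.val).app (op U) x) = 0
    rw [hq]
    rfl
  have hinj := (unit_isLocallyBijective R (cokernel f.val)).1
  have hS := hinj.equalizerSieve_mem (q.app (op U) x) 0 (h0.trans (map_zero _).symm)
  refine K.superset_covering ?_ hS
  intro V g hg
  -- `q (x|V) = 0`, hence `x|V` is in the image of `f`
  have hg' : (cokernel f.val).map g.op (q.app (op U) x) = (cokernel f.val).map g.op 0 := hg
  have e1 : q.app (op V) (M'.val.map g.op x) = 0 := by
    rw [PresheafOfModules.naturality_apply, hg']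
    exact map_zero _
  let ev := PresheafOfModules.evaluation R.obj (op V)
  have hcolim : IsColimit ((CokernelCofork.ofπ q (cokernel.condition f.val)).map ev) :=
    CokernelCofork.mapIsColimit _ (cokernelIsCokernel f.val) ev
  let S : ShortComplex (ModuleCat.{u} (R.obj.obj (op V))) :=
    ShortComplex.mk (ev.map f.val) (ev.map q)
      (by rw [← ev.map_comp, cokernel.condition, ev.map_zero])
  have hSex : S.Exact := ShortComplex.exact_of_g_is_cokernel S hcolim
  obtain ⟨t, ht⟩ := (ShortComplex.moduleCat_exact_iff S).mp hSex _ e1
  exact ⟨t, ht⟩

variable {R} in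
/-- a locally surjective morphism of sheaves of modules is an epimorphism. -/
theorem epi_of_isLocallySurjective {M M' : SheafOfModules.{u} R} (f : M ⟶ M')
    (hf : PresheafOfModules.IsLocallySurjective K f.val) : Epi f := by
  have h1 : Sheaf.IsLocallySurjective ((SheafOfModules.toSheaf R).map f) := hf
  have h2 : Epi ((SheafOfModules.toSheaf R).map f) :=
    (Sheaf.isLocallySurjective_iff_epi' _ _).mp h1
  exact (SheafOfModules.toSheaf R).epi_of_epi_map h2

variable {R} in
theorem epi_iff_isLocallySurjective {M M' : SheafOfModules.{u} R} (f : M ⟶ M') :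
    Epi f ↔ PresheafOfModules.IsLocallySurjective K f.val :=
  ⟨fun _ => isLocallySurjective_of_epi f, epi_of_isLocallySurjective f⟩

section OverMap

variable {C : Type u} [SmallCategory C] {J : GrothendieckTopology C} (R : Sheaf J RingCat.{u})
  {X Y : C} (k : X ⟶ Y)

lemma overMap_isLocallySurjective {M M' : SheafOfModules.{u} (R.over Y)} (f : M ⟶ M')
    (hf : PresheafOfModules.IsLocallySurjective (J.over Y) f.val) :
    PresheafOfModules.IsLocallySurjective (J.over X) ((SheafOfModules.overMap R k).map f).val := by
  constructor
  intro W s
  have h := hf.imageSieve_mem (U := (Over.map k).obj W) s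
  rw [GrothendieckTopology.mem_over_iff] at h ⊢
  refine J.superset_covering ?_ h
  intro Z a ha
  rw [Sieve.overEquiv_iff] at ha ⊢
  obtain ⟨t, ht⟩ := ha
  let O1 : Over Y := Over.mk (a ≫ ((Over.map k).obj W).hom)
  let O2 : Over Y := (Over.map k).obj (Over.mk (a ≫ W.hom))
  let j : O2 ⟶ O1 := Over.homMk (𝟙 Z) (by simp [O1, O2])
  have hj : j ≫ (Over.homMk a : O1 ⟶ (Over.map k).obj W) =
      (Over.map k).map (Over.homMk a : Over.mk (a ≫ W.hom) ⟶ W) := by
    ext
    simp [j]
    exact Category.id_comp a
  have ht' : f.val.app (op O1) t =
      M'.val.map (Over.homMk a : O1 ⟶ (Over.map k).obj W).op s := ht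
  refine ⟨M.val.map j.op t, ?_⟩
  show f.val.app (op O2) (M.val.map j.op t) =
    M'.val.map ((Over.map k).map (Over.homMk a : Over.mk (a ≫ W.hom) ⟶ W)).op s
  rw [PresheafOfModules.naturality_apply, ht', ← hj, op_comp, M'.val.map_comp]
  rfl

instance overMap_preservesEpi : (SheafOfModules.overMap.{u} R k).PreservesEpimorphisms where
  preserves f _ :=
    epi_of_isLocallySurjective _ (overMap_isLocallySurjective R k f (isLocallySurjective_of_epi f))

instance overMap_additive : (SheafOfModules.overMap.{u} R k).Additive where

set_option backward.isDefEq.respectTransparency.types false in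
instance overMap_isRightAdjoint : (SheafOfModules.overMap.{u} R k).IsRightAdjoint := by
  unfold SheafOfModules.overMap
  infer_instance

instance overMap_preservesFiniteLimits : PreservesFiniteLimits (SheafOfModules.overMap.{u} R k) :=
  inferInstance

instance overMap_preservesFiniteColimits :
    PreservesFiniteColimits (SheafOfModules.overMap.{u} R k) :=
  preservesFiniteColimits_of_preservesEpi _

end OverMap

section Restr

variable {C : Type u} [SmallCategory C] {J : GrothendieckTopology C} (O : Sheaf J CommRingCat.{u})
  (X : C)

instance restr_preservesEpi : (ModSite.restr O X).PreservesEpimorphisms where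
  preserves {M M'} f _ := by
    have h := isLocallySurjective_of_epi f
    have h2 := isLocallySurjective_resP (O := O) (X := X) f.val
    exact epi_of_isLocallySurjective ((ModSite.restr O X).map f) h2

instance restr_additive : (ModSite.restr O X).Additive where

instance restr_preservesFiniteColimits : PreservesFiniteColimits (ModSite.restr O X) :=
  preservesFiniteColimits_of_preservesEpi _

end Restr

end

end Groth.Agent.Lib.Helper30.ModEpi
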