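import Mathlib
import Groth.Prelude.Def_ModSite

/-!
# `ModSite.freeOn O X` corepresents sections over `X`
-/

set_option autoImplicit false
universe u
open CategoryTheory Opposite

namespace Groth.Agent.Lib.Helper30.ModSiteFree

variable {C : Type u} [SmallCategory C] {J : GrothendieckTopology C}

/-- the section of `F|_Y` given by `t ∈ F(Y)` -/
noncomputable def sectionOfElem (O : Sheaf J CommRingCat.{u}) (Y : C) (F : ModSite.Mod O)
    (t : F.val.obj (op Y)) : ((ModSite.restr O Y).obj F).sections :=
  PresheafOfModules.sectionsMk (fun W => F.val.map (W.unop.hom).op t) (by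
    intro W W' g
    show F.val.map g.unop.left.op (F.val.map W.unop.hom.op t) = F.val.map W'.unop.hom.op t
    rw [← PresheafOfModules.map_comp_apply]
    apply PresheafOfModules.congr_map_apply
    rw [← op_comp, Over.w])

lemma map_id_apply (O : Sheaf J CommRingCat.{u}) (Y : C) (F : ModSite.Mod O)
    (t : F.val.obj (op Y)) : F.val.map (𝟙 Y).op t = t := by
  have e : F.val.map (𝟙 Y).op t = F.val.map (𝟙 (op Y)) t :=
    PresheafOfModules.congr_map_apply F.val op_id t
  rw [e, PresheafOfModules.map_id]
  rfl

/-- sections of `F|_Y` are the elements of `F(Y)`. -/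
noncomputable def sectionsEquiv (O : Sheaf J CommRingCat.{u}) (Y : C) (F : ModSite.Mod O) :
    ((ModSite.restr O Y).obj F).sections ≃ F.val.obj (op Y) where
  toFun σ := σ.val (op (Over.mk (𝟙 Y)))
  invFun t := sectionOfElem O Y F t
  left_inv σ := by
    apply PresheafOfModules.sections_ext
    intro W
    have := PresheafOfModules.sections_property σ
      (X := op (Over.mk (𝟙 Y))) (Y := W) (Over.homMk (U := W.unop) (V := Over.mk (𝟙 Y)) W.unop.hom).op
    exact this
  right_inv t := map_id_apply O Y F t

/-- the functor of sections over `X` (as a set). -/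
noncomputable def secFunctor (O : Sheaf J CommRingCat.{u}) (X : C) : ModSite.Mod O ⥤ Type u :=
  SheafOfModules.evaluation (ModSite.ringSh O) (op X) ⋙ forget _

lemma sectionsEquiv_naturality (O : Sheaf J CommRingCat.{u}) (Y : C) {F F' : ModSite.Mod O}
    (g : F ⟶ F') (σ : ((ModSite.restr O Y).obj F).sections) :
    sectionsEquiv O Y F' (SheafOfModules.sectionsMap ((ModSite.restr O Y).map g) σ) =
      g.val.app (op Y) (sectionsEquiv O Y F σ) := rfl

/-- `Hom(freeOn O X, F) ≃ F(X)`. -/
noncomputable def freeOnHomEquiv (O : Sheaf J CommRingCat.{u}) (X : C) (F : ModSite.Mod O) :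
    (ModSite.freeOn O X ⟶ F) ≃ F.val.obj (op X) :=
  (((ModSite.extZeroAdj O X).homEquiv _ _).trans
    ((ModSite.restr O X).obj F).unitHomEquiv).trans (sectionsEquiv O X F)

lemma freeOnHomEquiv_comp (O : Sheaf J CommRingCat.{u}) (X : C) {F F' : ModSite.Mod O}
    (h : ModSite.freeOn O X ⟶ F) (g : F ⟶ F') :
    freeOnHomEquiv O X F' (h ≫ g) = g.val.app (op X) (freeOnHomEquiv O X F h) := by
  unfold freeOnHomEquiv
  simp only [Equiv.trans_apply]
  rw [Adjunction.homEquiv_naturality_right, SheafOfModules.unitHomEquiv_comp_apply,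
    sectionsEquiv_naturality]

/-- `freeOn O X` corepresents the functor of sections over `X`. -/
noncomputable def freeOnCorepresentableBy (O : Sheaf J CommRingCat.{u}) (X : C) :
    (secFunctor O X).CorepresentableBy (ModSite.freeOn O X) where
  homEquiv {F} := freeOnHomEquiv O X F
  homEquiv_comp {F F'} g h := freeOnHomEquiv_comp O X h g

end Groth.Agent.Lib.Helper30.ModSiteFree
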