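import Mathlib
import Groth.Prelude.Def_ModSite

/-!
# Explicit model of extension by zero `j_!` for (pre)sheaves of modules on a localised site

For a presheaf of rings `R₀` on `C`, an object `X : C` and a presheaf of modules `G` over
`R₀|_{C/X}`, we construct the presheaf of `R₀`-modules `V ↦ ⨁_{φ : V ⟶ X} G(φ)` and show it is
left adjoint to restriction.
-/

set_option autoImplicit false
universe u
open CategoryTheory Limits Opposite

namespace Groth.Agent.Lib.Helper30.ExtZero

open scoped Classical
noncomputable section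

variable {C : Type u} [SmallCategory C] (R₀ : Cᵒᵖ ⥤ RingCat.{u}) (X : C)

/-- The restriction of the presheaf of rings to `C/X`. -/
abbrev ROver : (Over X)ᵒᵖ ⥤ RingCat.{u} := (Over.forget X).op ⋙ R₀

variable {R₀ X}
variable (G : PresheafOfModules.{u} (ROver R₀ X))

/-- The summand of `(j_! G)(V)` at `φ : V ⟶ X`, as an `R₀(V)`-module. -/
abbrev comp (V : Cᵒᵖ) (φ : V.unop ⟶ X) : ModuleCat.{u} (R₀.obj V) := G.obj (op (Over.mk φ))

/-- The morphism `(g ≫ φ) ⟶ φ` in `C/X`. -/
abbrev arr {V W : Cᵒᵖ} (g : V ⟶ W) (φ : V.unop ⟶ X) : Over.mk (g.unop ≫ φ) ⟶ Over.mk φ :=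
  Over.homMk g.unop rfl

/-- Restriction on summands. -/
def compMap {V W : Cᵒᵖ} (g : V ⟶ W) (φ : V.unop ⟶ X) :
    comp G V φ →ₛₗ[(R₀.map g).hom] comp G W (g.unop ≫ φ) :=
  G.restrictₛₗ (arr g φ).op

lemma compMap_apply {V W : Cᵒᵖ} (g : V ⟶ W) (φ : V.unop ⟶ X) (x : comp G V φ) :
    compMap G g φ x = G.map (arr g φ).op x := rfl

/-- The sections of `j_! G` over `V`. -/
abbrev Sec (V : Cᵒᵖ) : Type u := DirectSum (V.unop ⟶ X) (fun φ => comp G V φ)

/-- the inclusion of a summand. -/
abbrev ofS (V : Cᵒᵖ) (φ : V.unop ⟶ X) : comp G V φ →+ Sec G V :=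
  DirectSum.of (fun φ : V.unop ⟶ X => comp G V φ) φ

/-- Key lemma to handle equalities of indices. -/
lemma ofS_congr {V W : Cᵒᵖ} {φ : V.unop ⟶ X} {ψ ψ' : W.unop ⟶ X}
    (a : Over.mk ψ ⟶ Over.mk φ) (a' : Over.mk ψ' ⟶ Over.mk φ) (h : ψ = ψ')
    (ha : a.left = a'.left) (x : comp G V φ) :
    ofS G W ψ (G.map a.op x) = ofS G W ψ' (G.map a'.op x) := by
  subst h
  have : a = a' := Over.OverMorphism.ext ha
  subst this
  rfl

/-- The restriction map of `j_! G`. -/
def secMap {V W : Cᵒᵖ} (g : V ⟶ W) : Sec G V →+ Sec G W :=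
  DirectSum.toAddMonoid fun φ => (ofS G W (g.unop ≫ φ)).comp (compMap G g φ).toAddMonoidHom

lemma secMap_of {V W : Cᵒᵖ} (g : V ⟶ W) (φ : V.unop ⟶ X) (x : comp G V φ) :
    secMap G g (ofS G V φ x) = ofS G W (g.unop ≫ φ) (G.map (arr g φ).op x) := by
  simp [secMap, ofS, compMap_apply]


lemma secMap_id (V : Cᵒᵖ) : secMap G (𝟙 V) = AddMonoidHom.id _ := by
  apply DirectSum.addHom_ext
  intro φ x
  rw [show (DirectSum.of (fun φ : V.unop ⟶ X => comp G V φ) φ) x = ofS G V φ x from rfl,
    secMap_of]
  have h := ofS_congr G (arr (𝟙 V) φ) (𝟙 (Over.mk φ)) (by simp) (by simp) x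
  rw [h]
  have h2 : G.map (𝟙 (Over.mk φ)).op x = x := by
    rw [op_id, PresheafOfModules.map_id]
    rfl
  rw [h2]
  rfl

lemma secMap_comp {V W Z : Cᵒᵖ} (g : V ⟶ W) (h : W ⟶ Z) :
    secMap G (g ≫ h) = (secMap G h).comp (secMap G g) := by
  apply DirectSum.addHom_ext
  intro φ x
  rw [show (DirectSum.of (fun φ : V.unop ⟶ X => comp G V φ) φ) x = ofS G V φ x from rfl,
    secMap_of, AddMonoidHom.comp_apply, secMap_of, secMap_of]
  have e := ofS_congr G (arr (g ≫ h) φ) (arr h (g.unop ≫ φ) ≫ arr g φ) (by simp) (by simp) x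
  rw [e]
  rw [op_comp, PresheafOfModules.map_comp_apply]

/-- The underlying presheaf of abelian groups of `j_! G`. -/
def extAb : Cᵒᵖ ⥤ Ab.{u} where
  obj V := AddCommGrpCat.of (Sec G V)
  map g := AddCommGrpCat.ofHom (secMap G g)
  map_id V := by rw [secMap_id]; rfl
  map_comp g h := by rw [secMap_comp]; rfl

instance (V : Cᵒᵖ) : Module (R₀.obj V) ((extAb G).obj V) :=
  inferInstanceAs (Module (R₀.obj V) (Sec G V))

lemma extAb_map_smul ⦃V W : Cᵒᵖ⦄ (g : V ⟶ W) (r : R₀.obj V) (m : (extAb G).obj V) :
    (extAb G).map g (r • m) = R₀.map g r • (extAb G).map g m := by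
  show secMap G g (r • (show Sec G V from m)) = (R₀.map g r) • secMap G g (show Sec G V from m)
  induction (show Sec G V from m) using DirectSum.induction_on with
  | zero => simp
  | of φ x =>
    rw [← DirectSum.of_smul]
    erw [secMap_of, secMap_of]
    rw [← DirectSum.of_smul]
    congr 1
    exact (compMap G g φ).map_smulₛₗ r x
  | add a b ha hb => rw [smul_add, map_add, ha, hb, map_add, smul_add]

/-- The presheaf of modules `j_! G`. -/
def extObj : PresheafOfModules.{u} R₀ := PresheafOfModules.ofPresheaf (extAb G) (extAb_map_smul G)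


lemma extObj_map_apply {V W : Cᵒᵖ} (g : V ⟶ W) (m : Sec G V) :
    (extObj G).map g m = secMap G g m := rfl

variable {G} {G' G'' : PresheafOfModules.{u} (ROver R₀ X)}

/-- componentwise map on sections. -/
def secLin (f : G ⟶ G') (V : Cᵒᵖ) : Sec G V →ₗ[R₀.obj V] Sec G' V :=
  DirectSum.lmap fun φ => (f.app (op (Over.mk φ))).hom

lemma secLin_of (f : G ⟶ G') (V : Cᵒᵖ) (φ : V.unop ⟶ X) (x : comp G V φ) :
    secLin f V (ofS G V φ x) = ofS G' V φ (f.app (op (Over.mk φ)) x) :=
  DirectSum.lmap_of _ _ _

/-- `j_!` on morphisms. -/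
def extMap (f : G ⟶ G') : extObj G ⟶ extObj G' where
  app V := ModuleCat.ofHom (X := ModuleCat.of (R₀.obj V) (Sec G V))
    (Y := ModuleCat.of (R₀.obj V) (Sec G' V)) (secLin f V)
  naturality {V W} g := by
    ext x
    show secLin f W (secMap G g x) = secMap G' g (secLin f V x)
    induction x using DirectSum.induction_on with
    | zero => simp
    | of φ x =>
      erw [secMap_of, secLin_of, secLin_of, secMap_of]
      congr 1
      exact PresheafOfModules.naturality_apply f (arr g φ).op x
    | add a b ha hb => rw [map_add, map_add, ha, hb, map_add, map_add]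


lemma extMap_app_apply (f : G ⟶ G') (V : Cᵒᵖ) (m : Sec G V) :
    (extMap f).app V m = secLin f V m := rfl

lemma secLin_id (V : Cᵒᵖ) (m : Sec G V) : secLin (𝟙 G) V m = m := by
  induction m using DirectSum.induction_on with
  | zero => simp
  | of φ x =>
    show secLin (𝟙 G) V (ofS G V φ x) = ofS G V φ x
    rw [secLin_of]; rfl
  | add a b ha hb => rw [map_add, ha, hb]

lemma secLin_comp (f : G ⟶ G') (f' : G' ⟶ G'') (V : Cᵒᵖ) (m : Sec G V) :
    secLin (f ≫ f') V m = secLin f' V (secLin f V m) := by
  induction m using DirectSum.induction_on with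
  | zero => simp
  | of φ x =>
    show secLin (f ≫ f') V (ofS G V φ x) = secLin f' V (secLin f V (ofS G V φ x))
    rw [secLin_of, secLin_of, secLin_of]; rfl
  | add a b ha hb => rw [map_add, ha, hb, map_add, map_add]

variable (R₀ X) in
/-- The presheaf-level extension by zero functor. -/
def extP : PresheafOfModules.{u} (ROver R₀ X) ⥤ PresheafOfModules.{u} R₀ where
  obj := extObj
  map := extMap
  map_id G := by
    ext V x
    exact secLin_id V x
  map_comp f f' := by
    ext V x
    exact secLin_comp f f' V x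


variable (R₀ X) in
/-- Presheaf-level restriction to `C/X`. -/
abbrev resP₀ : PresheafOfModules.{u} R₀ ⥤ PresheafOfModules.{u} (ROver R₀ X) :=
  PresheafOfModules.pushforward.{u} (F := Over.forget X) (R := R₀) (S := ROver R₀ X) (𝟙 _)

section Adj

variable (G) (F : PresheafOfModules.{u} R₀)

/-- the component of the transpose of `α : G ⟶ F|_X`. -/
def alphaLin (α : G ⟶ (resP₀ R₀ X).obj F) (V : Cᵒᵖ) (φ : V.unop ⟶ X) :
    comp G V φ →ₗ[R₀.obj V] F.obj V where
  toFun x := α.app (op (Over.mk φ)) x
  map_add' x y := map_add _ x y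
  map_smul' r x := (α.app (op (Over.mk φ))).hom.map_smul r x

end Adj


section Adj

variable (G) (F : PresheafOfModules.{u} R₀)

/-- extensionality for additive maps out of the sections of `j_! G`. -/
lemma sec_hom_ext {V : Cᵒᵖ} {A : Type*} [AddCommMonoid A] (f g : Sec G V →+ A)
    (h : ∀ (φ : V.unop ⟶ X) (x : comp G V φ), f (ofS G V φ x) = g (ofS G V φ x)) : f = g :=
  DirectSum.addHom_ext h

/-- all the components together. -/
def alphaSum (α : G ⟶ (resP₀ R₀ X).obj F) (V : Cᵒᵖ) : Sec G V →ₗ[R₀.obj V] F.obj V :=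
  DirectSum.toModule (R₀.obj V) _ _ (alphaLin G F α V)

lemma alphaSum_of (α : G ⟶ (resP₀ R₀ X).obj F) (V : Cᵒᵖ) (φ : V.unop ⟶ X) (x : comp G V φ) :
    alphaSum G F α V (ofS G V φ x) = α.app (op (Over.mk φ)) x :=
  DirectSum.toModule_lof _ _ _

/-- transpose of `α : G ⟶ F|_X`. -/
def toExt (α : G ⟶ (resP₀ R₀ X).obj F) : extObj G ⟶ F where
  app V := ModuleCat.ofHom (X := ModuleCat.of (R₀.obj V) (Sec G V)) (alphaSum G F α V)
  naturality {V W} g := by
    ext x
    have key : (alphaSum G F α W).toAddMonoidHom.comp (secMap G g) =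
        (F.map g).hom.toAddMonoidHom.comp (alphaSum G F α V).toAddMonoidHom := by
      apply sec_hom_ext
      intro φ x
      show alphaSum G F α W (secMap G g (ofS G V φ x)) = F.map g (alphaSum G F α V (ofS G V φ x))
      rw [secMap_of, alphaSum_of, alphaSum_of]
      exact PresheafOfModules.naturality_apply α (arr g φ).op x
    exact DFunLike.congr_fun key x

lemma toExt_app_apply (α : G ⟶ (resP₀ R₀ X).obj F) (V : Cᵒᵖ) (m : Sec G V) :
    (toExt G F α).app V m = alphaSum G F α V m := rfl

/-- the component of the transpose of `β`, as a linear map. -/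
def betaLin (β : extObj G ⟶ F) (V : Cᵒᵖ) (φ : V.unop ⟶ X) : comp G V φ →ₗ[R₀.obj V] F.obj V :=
  (β.app V).hom ∘ₗ (show comp G V φ →ₗ[R₀.obj V] (extObj G).obj V from
    DirectSum.lof (R₀.obj V) _ (fun φ : V.unop ⟶ X => comp G V φ) φ)

lemma betaLin_apply (β : extObj G ⟶ F) (V : Cᵒᵖ) (φ : V.unop ⟶ X) (x : comp G V φ) :
    betaLin G F β V φ x = β.app V (ofS G V φ x) := rfl

/-- transpose of `β : j_! G ⟶ F`. -/
def fromExt (β : extObj G ⟶ F) : G ⟶ (resP₀ R₀ X).obj F where
  app W := ModuleCat.ofHom (Y := ((resP₀ R₀ X).obj F).obj W)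
    { toFun := fun x => betaLin G F β (op W.unop.left) W.unop.hom x
      map_add' := fun x y => (betaLin G F β (op W.unop.left) W.unop.hom).map_add x y
      map_smul' := fun r x => (betaLin G F β (op W.unop.left) W.unop.hom).map_smul r x }
  naturality {W W'} g := by
    ext x
    show betaLin G F β (op W'.unop.left) W'.unop.hom (G.map g x) =
      F.map ((Over.forget X).map g.unop).op (betaLin G F β (op W.unop.left) W.unop.hom x)
    rw [betaLin_apply, betaLin_apply]
    have h1 := PresheafOfModules.naturality_apply β ((Over.forget X).map g.unop).op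
      (ofS G (op W.unop.left) W.unop.hom x)
    refine Eq.trans ?_ h1
    congr 1
    refine Eq.trans ?_ (secMap_of G ((Over.forget X).map g.unop).op W.unop.hom x).symm
    exact ofS_congr G (V := op W.unop.left) (W := op W'.unop.left) (φ := W.unop.hom)
      (ψ := W'.unop.hom) g.unop (arr ((Over.forget X).map g.unop).op W.unop.hom)
      (Over.w g.unop).symm rfl x


lemma fromExt_app_apply (β : extObj G ⟶ F) (W : (Over X)ᵒᵖ) (x : G.obj W) :
    (fromExt G F β).app W x = β.app (op W.unop.left) (ofS G (op W.unop.left) W.unop.hom x) := rfl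

/-- The hom-set bijection of the presheaf-level adjunction `j_! ⊣ restriction`. -/
def extHomEquiv : (extObj G ⟶ F) ≃ (G ⟶ (resP₀ R₀ X).obj F) where
  toFun := fromExt G F
  invFun := toExt G F
  left_inv β := by
    ext V x
    have key : (alphaSum G F (fromExt G F β) V).toAddMonoidHom = (β.app V).hom.toAddMonoidHom := by
      apply sec_hom_ext
      intro φ x
      show alphaSum G F (fromExt G F β) V (ofS G V φ x) = β.app V (ofS G V φ x)
      rw [alphaSum_of]
      rfl
    exact DFunLike.congr_fun key x
  right_inv α := by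
    ext W x
    show alphaSum G F α (op W.unop.left) (ofS G (op W.unop.left) W.unop.hom x) = α.app W x
    rw [alphaSum_of]
    rfl

end Adj

variable (R₀ X) in
/-- The presheaf-level adjunction `j_! ⊣ restriction`. -/
def extPAdj : extP R₀ X ⊣ resP₀ R₀ X :=
  Adjunction.mkOfHomEquiv
    { homEquiv := fun G F => extHomEquiv G F
      homEquiv_naturality_left_symm := by
        intro G G' F f α
        ext V x
        show alphaSum G F (f ≫ α) V x = alphaSum G' F α V (secLin f V x)
        have key : (alphaSum G F (f ≫ α) V).toAddMonoidHom =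
            (alphaSum G' F α V).toAddMonoidHom.comp (secLin f V).toAddMonoidHom := by
          apply sec_hom_ext
          intro φ x
          show alphaSum G F (f ≫ α) V (ofS G V φ x) = alphaSum G' F α V (secLin f V (ofS G V φ x))
          rw [secLin_of, alphaSum_of, alphaSum_of]
          rfl
        exact DFunLike.congr_fun key x
      homEquiv_naturality_right := by
        intro G F F' β g
        ext W x
        rfl }



section Exactness

lemma secLin_injective (f : G ⟶ G') [Mono f] (V : Cᵒᵖ) : Function.Injective (secLin f V) := by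
  rw [secLin, DirectSum.lmap_injective]
  intro φ
  exact PresheafOfModules.injective_of_mono f (op (Over.mk φ))

instance extMap_mono (f : G ⟶ G') [Mono f] : Mono (extMap f) :=
  PresheafOfModules.mono_of_injective (fun V => secLin_injective f V)

instance : (extP R₀ X).PreservesMonomorphisms where
  preserves f _ := extMap_mono f

end Exactness

section SheafLevel

variable {J : GrothendieckTopology C} (R : Sheaf J RingCat.{u}) (X : C)

/-- The explicit sheaf-level extension by zero: forget, extend by zero as presheaf, sheafify. -/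
def extS : SheafOfModules.{u} (R.over X) ⥤ SheafOfModules.{u} R :=
  SheafOfModules.forget (R.over X) ⋙ extP R.obj X ⋙
    PresheafOfModules.sheafification.{u} (𝟙 R.obj)

/-- Mathlib's abstract `j_!` agrees with the explicit one. -/
def pullbackIsoExtS : SheafOfModules.pullback.{u} (𝟙 (R.over X)) ≅ extS R X :=
  SheafOfModules.pullbackIso.{u} (𝟙 (R.over X)) ≪≫
    Functor.isoWhiskerLeft _ (Functor.isoWhiskerRight
      (Adjunction.leftAdjointUniq
        (PresheafOfModules.pullbackPushforwardAdjunction.{u}
          (show R.over X ⟶ R.over X from 𝟙 (R.over X)).hom)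
        (extPAdj R.obj X)) _)

end SheafLevel


section General

/-- An additive right exact functor between abelian categories which preserves monomorphisms
is exact. -/
lemma preservesFiniteLimits_of_preservesMono {A B : Type*} [Category A] [Category B]
    [Abelian A] [Abelian B] (F : A ⥤ B) [F.Additive] [PreservesFiniteColimits F]
    [F.PreservesMonomorphisms] : PreservesFiniteLimits F := by
  rw [Functor.preservesFiniteLimits_iff_forall_exact_map_and_mono]
  intro S hS
  have h0 : PreservesFiniteColimits F := inferInstance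
  have h := (Functor.preservesFiniteColimits_iff_forall_exact_map_and_epi F).mp h0 S hS
  have := hS.mono_f
  exact ⟨h.1, inferInstance⟩

end General

section SheafLevel2

variable {J : GrothendieckTopology C} (R : Sheaf J RingCat.{u}) (X : C)

instance extS_preservesMono : (extS R X).PreservesMonomorphisms := by
  have h1 : (SheafOfModules.forget.{u} (R.over X)).PreservesMonomorphisms := inferInstance
  have h2 : (extP R.obj X).PreservesMonomorphisms := inferInstance
  have h3 : (PresheafOfModules.sheafification.{u} (𝟙 R.obj)).PreservesMonomorphisms :=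
    inferInstance
  have h4 : (extP R.obj X ⋙ PresheafOfModules.sheafification.{u} (𝟙 R.obj)).PreservesMonomorphisms :=
    @Functor.preservesMonomorphisms_comp _ _ _ _ _ _ (extP R.obj X)
      (PresheafOfModules.sheafification.{u} (𝟙 R.obj)) h2 h3
  exact @Functor.preservesMonomorphisms_comp _ _ _ _ _ _ (SheafOfModules.forget.{u} (R.over X))
      (extP R.obj X ⋙ PresheafOfModules.sheafification.{u} (𝟙 R.obj)) h1 h4

end SheafLevel2


section SheafLevel3

variable {J : GrothendieckTopology C} (R : Sheaf J RingCat.{u}) (X : C)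

instance overFunctor_additive : (SheafOfModules.overFunctor.{u} R X).Additive where
  map_add := by
    intros
    rfl

instance pullback_additive : (SheafOfModules.pullback.{u} (𝟙 (R.over X))).Additive := by
  have : (SheafOfModules.pushforward.{u} (𝟙 (R.over X))).Additive := overFunctor_additive R X
  exact (SheafOfModules.pullbackPushforwardAdjunction.{u} (𝟙 (R.over X))).left_adjoint_additive

instance pullback_preservesMono :
    (SheafOfModules.pullback.{u} (𝟙 (R.over X))).PreservesMonomorphisms :=
  Functor.PreservesMonomorphisms.of_iso (pullbackIsoExtS R X).symm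

/-- `j_!` is exact. -/
lemma pullback_preservesFiniteLimits :
    PreservesFiniteLimits (SheafOfModules.pullback.{u} (𝟙 (R.over X))) :=
  preservesFiniteLimits_of_preservesMono _

end SheafLevel3

end

end Groth.Agent.Lib.Helper30.ExtZero
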