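import Mathlib

set_option autoImplicit false
universe u
open CategoryTheory Limits

namespace Groth.Agent.Lib.Helper30.ModSAFT

variable {C : Type u} [SmallCategory C] {J : GrothendieckTopology C} (R : Sheaf J RingCat.{u})

/-- sheafification of presheaves of modules -/
noncomputable abbrev shf : PresheafOfModules.{u} R.obj ⥤ SheafOfModules.{u} R :=
  PresheafOfModules.sheafification.{u} (𝟙 R.obj)

/-- if `shf ⋙ G` preserves colimits of shape `K`, so does `G`. -/
lemma preservesColimitsOfShape_of_shf_comp {A : Type*} [Category A]
    (G : SheafOfModules.{u} R ⥤ A) (K : Type u) [SmallCategory K]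
    [PreservesColimitsOfShape K (shf R ⋙ G)] : PreservesColimitsOfShape K G := by
  constructor; intro D
  let D' : K ⥤ PresheafOfModules.{u} R.obj := D ⋙ SheafOfModules.forget R
  let ec := asIso (PresheafOfModules.sheafificationAdjunction.{u} (𝟙 R.obj)).counit
  let e : D' ⋙ shf R ≅ D :=
    Functor.associator _ _ _ ≪≫ Functor.isoWhiskerLeft D ec ≪≫ D.rightUnitor
  have : PreservesColimit (D' ⋙ shf R) G :=
    preservesColimit_of_preserves_colimit_cocone
      (isColimitOfPreserves (shf R) (colimit.isColimit D'))
      (isColimitOfPreserves (shf R ⋙ G) (colimit.isColimit D'))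
  exact preservesColimit_of_iso_diagram _ e

instance toSheaf_preservesColimitsOfShape (K : Type u) [SmallCategory K] :
    PreservesColimitsOfShape K (SheafOfModules.toSheaf.{u} R) := by
  have : PreservesColimitsOfShape K (shf R ⋙ SheafOfModules.toSheaf.{u} R) :=
    preservesColimitsOfShape_of_natIso
      (PresheafOfModules.sheafificationCompToSheaf.{u} (𝟙 R.obj)).symm
  exact preservesColimitsOfShape_of_shf_comp R _ K

instance toSheaf_preservesColimits :
    PreservesColimitsOfSize.{u, u} (SheafOfModules.toSheaf.{u} R) where

instance toSheaf_reflectsColimits :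
    ReflectsColimitsOfSize.{u, u} (SheafOfModules.toSheaf.{u} R) :=
  reflectsColimits_of_reflectsIsomorphisms

section Pushforward

variable {D : Type u} [SmallCategory D] {K : GrothendieckTopology D} {F : C ⥤ D}
  {S : Sheaf J RingCat.{u}} {R' : Sheaf K RingCat.{u}} [F.IsContinuous J K]
  (φ : S ⟶ (F.sheafPushforwardContinuous RingCat.{u} J K).obj R')

/-- pushforward of modules and of underlying abelian sheaves -/
noncomputable def pushforwardCompToSheaf :
    SheafOfModules.pushforward.{u} φ ⋙ SheafOfModules.toSheaf.{u} S ≅
      SheafOfModules.toSheaf.{u} R' ⋙ F.sheafPushforwardContinuous AddCommGrpCat.{u} J K :=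
  NatIso.ofComponents (fun M => Iso.refl _) (by
    intro M M' g
    rfl)

lemma pushforward_preservesColimits [F.IsCocontinuous J K] :
    PreservesColimitsOfSize.{u, u} (SheafOfModules.pushforward.{u} φ) := by
  have h1 : (F.sheafPushforwardContinuous AddCommGrpCat.{u} J K).IsLeftAdjoint :=
    (F.sheafAdjunctionCocontinuous AddCommGrpCat.{u} J K).isLeftAdjoint
  have h2 : PreservesColimitsOfSize.{u, u}
      (SheafOfModules.pushforward.{u} φ ⋙ SheafOfModules.toSheaf.{u} S) :=
    preservesColimits_of_natIso (pushforwardCompToSheaf φ).symm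
  exact preservesColimits_of_reflects_of_preserves (SheafOfModules.pushforward.{u} φ)
    (SheafOfModules.toSheaf.{u} S)

end Pushforward

section Separating

/-- the sheafified free modules on representables -/
def freeYonedaSh : ObjectProperty (SheafOfModules.{u} R) :=
  .ofObj (yoneda ⋙ PresheafOfModules.free R.obj ⋙ shf R).obj

instance : ObjectProperty.Small.{u} (freeYonedaSh R) := by
  dsimp [freeYonedaSh]
  infer_instance

lemma freeYonedaSh_isSeparating : (freeYonedaSh R).IsSeparating := by
  intro M N f₁ f₂ h
  apply (SheafOfModules.forget R).map_injective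
  apply PresheafOfModules.freeYoneda.isSeparating R.obj
  rintro G ⟨X⟩ g
  let adj := PresheafOfModules.sheafificationAdjunction.{u} (𝟙 R.obj)
  have h1 := h _ ⟨X⟩ ((adj.homEquiv _ M).symm g)
  have h2 := congrArg (adj.homEquiv _ N) h1
  rw [Adjunction.homEquiv_naturality_right, Adjunction.homEquiv_naturality_right,
    Equiv.apply_symm_apply] at h2
  exact h2

end Separating

section Main

variable {D : Type u} [SmallCategory D] {K : GrothendieckTopology D} {F : C ⥤ D}
  {S : Sheaf J RingCat.{u}} {R' : Sheaf K RingCat.{u}} [F.IsContinuous J K]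
  (φ : S ⟶ (F.sheafPushforwardContinuous RingCat.{u} J K).obj R')

/-- a colimit-preserving functor out of sheaves of modules is a left adjoint. -/
theorem isLeftAdjoint_of_preservesColimits {A : Type*} [Category.{u} A]
    (G : SheafOfModules.{u} R ⥤ A) [PreservesColimitsOfSize.{u, u} G] : G.IsLeftAdjoint := by
  have hsep := freeYonedaSh_isSeparating R
  have hwp : WellPowered.{u} (SheafOfModules.{u} R) :=
    wellPowered_of_isDetecting hsep.isDetecting
  have hwp' : WellPowered.{u} (SheafOfModules.{u} R)ᵒᵖ := inferInstance
  exact isLeftAdjoint_of_preservesColimits_of_isSeparating hsep G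

theorem isLeftAdjoint_pushforward [F.IsCocontinuous J K] :
    (SheafOfModules.pushforward.{u} φ).IsLeftAdjoint := by
  have := pushforward_preservesColimits φ
  exact isLeftAdjoint_of_preservesColimits R' _

end Main

end Groth.Agent.Lib.Helper30.ModSAFT
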