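import Mathlib
set_option autoImplicit false
open CategoryTheory Limits Abelian

namespace Groth.Agent.Lib.Helper30.AcyclicRes

universe w v u

variable {𝒜 : Type u} [Category.{v} 𝒜] [Abelian 𝒜] [HasExt.{w} 𝒜]

/-- `F`-acyclicity of an object (for `Hom(-, F)`). -/
def Acyc (F X : 𝒜) : Prop := ∀ q : ℕ, Subsingleton (Ext X F (q + 1))

lemma acyc_of_shortExact {F : 𝒜} {S : ShortComplex 𝒜} (hS : S.ShortExact)
    (h2 : Acyc F S.X₂) (h3 : Acyc F S.X₃) : Acyc F S.X₁ := by
  intro q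
  have := h2 q
  have := h3 (q + 1)
  refine ⟨fun a b => ?_⟩
  have key : ∀ x : Ext S.X₁ F (q + 1), x = 0 := by
    intro x
    obtain ⟨x₂, hx₂⟩ := Ext.contravariant_sequence_exact₁ hS F x (n₁ := q + 1 + 1) (by omega)
      (Subsingleton.elim _ _)
    rw [← hx₂, Subsingleton.elim x₂ 0, Ext.comp_zero]
  rw [key a, key b]

lemma exists_extension {F : 𝒜} {S : ShortComplex 𝒜} (hS : S.ShortExact)
    (h3 : Subsingleton (Ext S.X₃ F 1)) (ψ : S.X₁ ⟶ F) : ∃ χ : S.X₂ ⟶ F, S.f ≫ χ = ψ := by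
  obtain ⟨x₂, hx₂⟩ := Ext.contravariant_sequence_exact₁ hS F (Ext.mk₀ ψ) (n₁ := 1) (by omega)
      (Subsingleton.elim _ _)
  obtain ⟨χ, rfl⟩ := (Ext.mk₀_bijective _ _).2 x₂
  refine ⟨χ, ?_⟩
  rw [Ext.mk₀_comp_mk₀] at hx₂
  exact (Ext.mk₀_bijective _ _).1 hx₂

section resolution

open HomologicalComplex ChainComplex Category

variable {P : ChainComplex 𝒜 ℕ} {M : 𝒜} (ε : P ⟶ (ChainComplex.single₀ 𝒜).obj M) [QuasiIso ε]

include ε in
lemma exactAt_succ (n : ℕ) : P.ExactAt (n + 1) := by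
  rw [← quasiIsoAt_iff_exactAt' ε (n + 1) (exactAt_succ_single_obj _ _)]
  infer_instance

include ε in
lemma exact_succ (n : ℕ) : (ShortComplex.mk _ _ (P.d_comp_d (n + 2) (n + 1) n)).Exact :=
  ((HomologicalComplex.exactAt_iff' _ (n + 2) (n + 1) n) (by simp only [ChainComplex.prev]; rfl)
    (by simp)).1 (exactAt_succ ε n)

omit [QuasiIso ε] in
@[reassoc (attr := simp)]
lemma d_comp_ε : P.d 1 0 ≫ ε.f 0 = 0 := by
  rw [← ε.comm 1 0, single_obj_d, comp_zero]

set_option backward.isDefEq.respectTransparency.types false in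
set_option backward.defeqAttrib.useBackward true in
/-- `M` is the cokernel of `P₁ ⟶ P₀`. -/
noncomputable def isColimitCokernelCofork : IsColimit (CokernelCofork.ofπ (ε.f 0) (d_comp_ε ε)) := by
  refine IsColimit.ofIsoColimit (P.opcyclesIsCokernel 1 0 (by simp)) ?_
  refine Cofork.ext (P.isoHomologyι₀.symm ≪≫ isoOfQuasiIsoAt ε 0 ≪≫
    singleObjHomologySelfIso _ _ _) ?_
  rw [← cancel_mono (singleObjHomologySelfIso (ComplexShape.down ℕ) 0 _).inv,
    ← cancel_mono (isoHomologyι₀ _).hom]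
  dsimp
  simp only [isoHomologyι₀_inv_naturality_assoc, p_opcyclesMap_assoc, ChainComplex.single₀_obj_zero,
    Category.assoc,
    Iso.hom_inv_id, Category.comp_id, isoHomologyι_inv_hom_id, singleObjHomologySelfIso_inv_homologyι,
    singleObjOpcyclesSelfIso_hom, ChainComplex.single₀ObjXSelf, Iso.refl_inv, Category.id_comp]

lemma exact₀ : (ShortComplex.mk (P.d 1 0) (ε.f 0) (d_comp_ε ε)).Exact :=
  ShortComplex.exact_of_g_is_cokernel _ (isColimitCokernelCofork ε)

instance epi_ε_zero : Epi (ε.f 0) := epi_of_isColimit_cofork (isColimitCokernelCofork ε)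

/-- The short complex `0 → im d₁ → P₀ → M → 0`. -/
noncomputable def S0 : ShortComplex 𝒜 :=
  ShortComplex.mk (Abelian.image.ι (P.d 1 0)) (ε.f 0) (by
    rw [← cancel_epi (Abelian.factorThruImage (P.d 1 0)), ← Category.assoc, Abelian.image.fac,
      d_comp_ε, comp_zero])

/-- The short complex `0 → im d_{n+2} → P_{n+1} → im d_{n+1} → 0`. -/
noncomputable def Ss (P : ChainComplex 𝒜 ℕ) (n : ℕ) : ShortComplex 𝒜 :=
  ShortComplex.mk (Abelian.image.ι (P.d (n + 2) (n + 1))) (Abelian.factorThruImage (P.d (n + 1) n)) (by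
    rw [← cancel_epi (Abelian.factorThruImage (P.d (n + 2) (n + 1))),
      ← cancel_mono (Abelian.image.ι (P.d (n + 1) n)), Category.assoc, Category.assoc,
      Abelian.image.fac, ← Category.assoc, Abelian.image.fac, P.d_comp_d, comp_zero, zero_comp])

lemma S0_shortExact : (S0 ε).ShortExact := by
  have hex : (S0 ε).Exact := by
    let φ : ShortComplex.mk (P.d 1 0) (ε.f 0) (d_comp_ε ε) ⟶ S0 ε :=
      { τ₁ := Abelian.factorThruImage (P.d 1 0)
        τ₂ := 𝟙 _
        τ₃ := 𝟙 _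
        comm₁₂ := by simp [S0]
        comm₂₃ := by simp [S0] }
    have : Epi φ.τ₁ := inferInstanceAs (Epi (Abelian.factorThruImage (P.d 1 0)))
    have : IsIso φ.τ₂ := inferInstanceAs (IsIso (𝟙 (P.X 0)))
    have : Mono φ.τ₃ := inferInstanceAs (Mono (𝟙 M))
    exact (ShortComplex.exact_iff_of_epi_of_isIso_of_mono φ).1 (exact₀ ε)
  have : Mono (S0 ε).f := inferInstanceAs (Mono (Abelian.image.ι (P.d 1 0)))
  have : Epi (S0 ε).g := inferInstanceAs (Epi (ε.f 0))
  exact { exact := hex }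

include ε in
lemma Ss_shortExact (n : ℕ) : (Ss P n).ShortExact := by
  let S1 : ShortComplex 𝒜 := ShortComplex.mk (Abelian.image.ι (P.d (n + 2) (n + 1))) (P.d (n + 1) n) (by
    rw [← cancel_epi (Abelian.factorThruImage (P.d (n + 2) (n + 1))), ← Category.assoc,
      Abelian.image.fac, P.d_comp_d, comp_zero])
  have hex1 : S1.Exact := by
    let φ : ShortComplex.mk _ _ (P.d_comp_d (n + 2) (n + 1) n) ⟶ S1 :=
      { τ₁ := Abelian.factorThruImage (P.d (n + 2) (n + 1))
        τ₂ := 𝟙 _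
        τ₃ := 𝟙 _
        comm₁₂ := by simp [S1]
        comm₂₃ := by simp [S1] }
    have : Epi φ.τ₁ := inferInstanceAs (Epi (Abelian.factorThruImage (P.d (n + 2) (n + 1))))
    have : IsIso φ.τ₂ := inferInstanceAs (IsIso (𝟙 (P.X (n + 1))))
    have : Mono φ.τ₃ := inferInstanceAs (Mono (𝟙 (P.X n)))
    exact (ShortComplex.exact_iff_of_epi_of_isIso_of_mono φ).1 (exact_succ ε n)
  have hex : (Ss P n).Exact := by
    let φ : Ss P n ⟶ S1 :=
      { τ₁ := 𝟙 _
        τ₂ := 𝟙 _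
        τ₃ := Abelian.image.ι (P.d (n + 1) n)
        comm₁₂ := by simp [S1, Ss]
        comm₂₃ := by simp [S1, Ss] }
    have : Epi φ.τ₁ := inferInstanceAs (Epi (𝟙 (Abelian.image (P.d (n + 2) (n + 1)))))
    have : IsIso φ.τ₂ := inferInstanceAs (IsIso (𝟙 (P.X (n + 1))))
    have : Mono φ.τ₃ := inferInstanceAs (Mono (Abelian.image.ι (P.d (n + 1) n)))
    exact (ShortComplex.exact_iff_of_epi_of_isIso_of_mono φ).2 hex1
  have : Mono (Ss P n).f := inferInstanceAs (Mono (Abelian.image.ι (P.d (n + 2) (n + 1))))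
  have : Epi (Ss P n).g := inferInstanceAs (Epi (Abelian.factorThruImage (P.d (n + 1) n)))
  exact { exact := hex }

variable (F : 𝒜)

include ε in
lemma acyc_image (hP : ∀ n, Acyc F (P.X n)) (hM : Acyc F M) (n : ℕ) :
    Acyc F (Abelian.image (P.d (n + 1) n)) := by
  induction n with
  | zero => exact acyc_of_shortExact (S0_shortExact ε) (hP 0) hM
  | succ n ih => exact acyc_of_shortExact (Ss_shortExact ε n) (hP (n + 1)) ih

include ε in
/-- Dimension shifting: `Hom(P_•, F)` is exact in positive degrees. -/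
theorem exists_lift (hP : ∀ n, Acyc F (P.X n)) (hM : Acyc F M) (n : ℕ)
    (φ : P.X (n + 1) ⟶ F) (hφ : P.d (n + 2) (n + 1) ≫ φ = 0) :
    ∃ χ : P.X n ⟶ F, P.d (n + 1) n ≫ χ = φ := by
  have hS := Ss_shortExact ε n
  have h1 : (Ss P n).f ≫ φ = 0 := by
    show Abelian.image.ι (P.d (n + 2) (n + 1)) ≫ φ = 0
    rw [← cancel_epi (Abelian.factorThruImage (P.d (n + 2) (n + 1))), ← Category.assoc,
      Abelian.image.fac, hφ, comp_zero]
  have : Epi (Ss P n).g := hS.epi_g
  let ψ : Abelian.image (P.d (n + 1) n) ⟶ F := hS.exact.desc φ h1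
  have hψ : Abelian.factorThruImage (P.d (n + 1) n) ≫ ψ = φ := hS.exact.g_desc φ h1
  obtain ⟨χ, hχ⟩ : ∃ χ : P.X n ⟶ F, Abelian.image.ι (P.d (n + 1) n) ≫ χ = ψ := by
    cases n with
    | zero => exact exists_extension (S0_shortExact ε) (hM 0) ψ
    | succ m => exact exists_extension (Ss_shortExact ε m) (acyc_image ε F hP hM m 0) ψ
  refine ⟨χ, ?_⟩
  rw [← Abelian.image.fac (P.d (n + 1) n), Category.assoc, hχ, hψ]

end resolution

end Groth.Agent.Lib.Helper30.AcyclicRes
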