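import Mathlib
set_option autoImplicit false
open CategoryTheory Limits Opposite Simplicial

namespace Groth.Agent.Lib.Helper30.CechMap

universe v₁ v₂ u₁ u₂

variable {C : Type u₁} [Category.{v₁} C] {D : Type u₂} [Category.{v₂} D] (G : C ⥤ D)

section one
variable {ι : Type} {B : C} {A : ι → C} (h : ∀ i, A i ⟶ B)
  [HasWidePullback B A h] [HasWidePullback (G.obj B) (fun i => G.obj (A i)) (fun i => G.map (h i))]

/-- comparison map for wide pullbacks -/
noncomputable def cmp :
    G.obj (widePullback B A h) ⟶ widePullback (G.obj B) (fun i => G.obj (A i)) (fun i => G.map (h i)) :=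
  WidePullback.lift (G.map (WidePullback.base _)) (fun i => G.map (WidePullback.π _ i))
    (fun i => by rw [← G.map_comp, WidePullback.π_arrow])

@[reassoc (attr := simp)]
lemma cmp_π (i : ι) : cmp G h ≫ WidePullback.π _ i = G.map (WidePullback.π _ i) := by
  unfold cmp; exact WidePullback.lift_π ..

@[reassoc (attr := simp)]
lemma cmp_base : cmp G h ≫ WidePullback.base _ = G.map (WidePullback.base _) := by
  unfold cmp; exact WidePullback.lift_base ..

instance [PreservesLimit (WidePullbackShape.wideCospan B A h) G] : IsIso (cmp G h) := by
  let e : WidePullbackShape.wideCospan B A h ⋙ G ≅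
      WidePullbackShape.wideCospan (G.obj B) (fun i => G.obj (A i)) (fun i => G.map (h i)) :=
    WidePullbackShape.diagramIsoWideCospan _
  let hl := (IsLimit.postcomposeHomEquiv e _).symm
    (isLimitOfPreserves G (limit.isLimit (WidePullbackShape.wideCospan B A h)))
  let i := IsLimit.conePointUniqueUpToIso hl (limit.isLimit _)
  have : cmp G h = i.hom := by
    apply WidePullback.hom_ext
    · intro j
      rw [cmp_π]
      have := IsLimit.conePointUniqueUpToIso_hom_comp hl (limit.isLimit _) (some j)
      simp only [i]
      erw [this]
      simp [e, WidePullbackShape.diagramIsoWideCospan]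
      exact (Category.comp_id _).symm
    · rw [cmp_base]
      have := IsLimit.conePointUniqueUpToIso_hom_comp hl (limit.isLimit _) none
      simp only [i]
      erw [this]
      simp [e, WidePullbackShape.diagramIsoWideCospan]
      exact (Category.comp_id _).symm
  rw [this]; infer_instance

end one

section nerve
variable [∀ n : ℕ, HasLimitsOfShape (WidePullbackShape (Fin (n + 1))) C]
  [∀ n : ℕ, HasLimitsOfShape (WidePullbackShape (Fin (n + 1))) D]
  [∀ n : ℕ, PreservesLimitsOfShape (WidePullbackShape (Fin (n + 1))) G]
  (f : Arrow C)

/-- A functor preserving wide pullbacks commutes with the Čech nerve. -/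
noncomputable def cechIso : f.cechNerve ⋙ G ≅ (Arrow.mk (G.map f.hom)).cechNerve :=
  NatIso.ofComponents
    (fun n => asIso (cmp G (fun _ : Fin (n.unop.len + 1) => f.hom))) (by
    intro n m g
    apply WidePullback.hom_ext
    · intro j
      have h1 : (Arrow.mk (G.map f.hom)).cechNerve.map g ≫ WidePullback.π _ j =
          WidePullback.π _ (g.unop.toOrderHom j) := WidePullback.lift_π ..
      have h2 : f.cechNerve.map g ≫ WidePullback.π _ j =
          WidePullback.π _ (g.unop.toOrderHom j) := WidePullback.lift_π ..
      refine Eq.trans (Category.assoc _ _ _) ?_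
      refine Eq.trans (congrArg (G.map (f.cechNerve.map g) ≫ ·) (cmp_π G _ j)) ?_
      refine Eq.trans ?_ (Category.assoc _ _ _).symm
      refine Eq.trans ?_ (congrArg (cmp G (fun _ : Fin (n.unop.len + 1) => f.hom) ≫ ·) h1.symm)
      refine Eq.trans ?_ (cmp_π G _ _).symm
      refine Eq.trans (G.map_comp _ _).symm ?_
      exact congrArg G.map h2
    · have h1 : (Arrow.mk (G.map f.hom)).cechNerve.map g ≫ WidePullback.base _ =
          WidePullback.base _ := WidePullback.lift_base ..
      have h2 : f.cechNerve.map g ≫ WidePullback.base _ =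
          WidePullback.base _ := WidePullback.lift_base ..
      refine Eq.trans (Category.assoc _ _ _) ?_
      refine Eq.trans (congrArg (G.map (f.cechNerve.map g) ≫ ·) (cmp_base G _)) ?_
      refine Eq.trans ?_ (Category.assoc _ _ _).symm
      refine Eq.trans ?_ (congrArg (cmp G (fun _ : Fin (n.unop.len + 1) => f.hom) ≫ ·) h1.symm)
      refine Eq.trans ?_ (cmp_base G _).symm
      refine Eq.trans (G.map_comp _ _).symm ?_
      exact congrArg G.map h2)

@[simp] lemma cechIso_hom_app (n : SimplexCategoryᵒᵖ) :
    (cechIso G f).hom.app n = cmp G (fun _ : Fin (n.unop.len + 1) => f.hom) := rfl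

/-- A functor preserving wide pullbacks commutes with the augmented Čech nerve. -/
noncomputable def augCechIso :
    ((SimplicialObject.Augmented.whiskering C D).obj G).obj f.augmentedCechNerve ≅
      (Arrow.mk (G.map f.hom)).augmentedCechNerve :=
  Comma.isoMk (cechIso G f) (Iso.refl _) (by
    ext n
    have h1 : (((SimplicialObject.Augmented.whiskering C D).obj G).obj f.augmentedCechNerve).hom.app n
        = G.map (WidePullback.base (fun _ : Fin (n.unop.len + 1) => f.hom)) := by
      dsimp [SimplicialObject.Augmented.whiskering, SimplicialObject.Augmented.whiskeringObj]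
      exact Category.comp_id _
    refine Eq.trans (cmp_base G (fun _ : Fin (n.unop.len + 1) => f.hom)) ?_
    refine Eq.trans ?_ (NatTrans.comp_app _ _ _).symm
    refine Eq.trans ?_ (congrArg (· ≫ _) h1.symm)
    exact (Category.comp_id _).symm)

end nerve

end Groth.Agent.Lib.Helper30.CechMap
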