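import Mathlib
set_option autoImplicit false
open CategoryTheory Limits Opposite Simplicial

namespace Groth.Agent.Lib.Helper30.CechMono

universe v₁ u₁

variable {C : Type u₁} [Category.{v₁} C]

section one
variable {ι : Type} [HasLimitsOfShape (WidePullbackShape ι) C]
  {A I B : C} (p : A ⟶ I) (i : I ⟶ B)

/-- forward comparison -/
noncomputable def fwd : widePullback I (fun _ : ι => A) (fun _ => p) ⟶
    widePullback B (fun _ : ι => A) (fun _ => p ≫ i) :=
  WidePullback.lift (WidePullback.base _ ≫ i) (fun j => WidePullback.π _ j)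
    (fun j => by rw [← Category.assoc, WidePullback.π_arrow])

@[reassoc (attr := simp)]
lemma fwd_π (j : ι) : fwd (ι := ι) p i ≫ WidePullback.π _ j = WidePullback.π _ j := by
  unfold fwd; exact WidePullback.lift_π ..

@[reassoc (attr := simp)]
lemma fwd_base : fwd (ι := ι) p i ≫ WidePullback.base _ = WidePullback.base _ ≫ i := by
  unfold fwd; exact WidePullback.lift_base ..

variable [Mono i] (j0 : ι)

/-- backward comparison -/
noncomputable def bwd : widePullback B (fun _ : ι => A) (fun _ => p ≫ i) ⟶
    widePullback I (fun _ : ι => A) (fun _ => p) :=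
  WidePullback.lift (WidePullback.π _ j0 ≫ p) (fun j => WidePullback.π _ j)
    (fun j => by
      rw [← cancel_mono i, Category.assoc, Category.assoc]
      exact (WidePullback.π_arrow (fun _ : ι => p ≫ i) j).trans
        (WidePullback.π_arrow (fun _ : ι => p ≫ i) j0).symm)

@[reassoc (attr := simp)]
lemma bwd_π (j : ι) : bwd (ι := ι) p i j0 ≫ WidePullback.π _ j = WidePullback.π _ j := by
  unfold bwd; exact WidePullback.lift_π ..

@[reassoc (attr := simp)]
lemma bwd_base : bwd (ι := ι) p i j0 ≫ WidePullback.base _ = WidePullback.π _ j0 ≫ p := by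
  unfold bwd; exact WidePullback.lift_base ..

lemma fwd_bwd : fwd (ι := ι) p i ≫ bwd p i j0 = 𝟙 _ := by
  apply WidePullback.hom_ext
  · intro j
    rw [Category.assoc, bwd_π, fwd_π, Category.id_comp]
  · rw [Category.assoc, bwd_base, fwd_π_assoc, Category.id_comp]
    exact WidePullback.π_arrow _ _

lemma bwd_fwd : bwd (ι := ι) p i j0 ≫ fwd p i = 𝟙 _ := by
  apply WidePullback.hom_ext
  · intro j
    rw [Category.assoc, fwd_π, bwd_π, Category.id_comp]
  · rw [Category.assoc, fwd_base, bwd_base_assoc, Category.id_comp]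
    exact WidePullback.π_arrow (fun _ : ι => p ≫ i) j0

include j0 in
lemma isIso_fwd : IsIso (fwd (ι := ι) p i) := ⟨bwd p i j0, fwd_bwd p i j0, bwd_fwd p i j0⟩

end one

variable [∀ n : ℕ, HasLimitsOfShape (WidePullbackShape (Fin (n + 1))) C]
  {A I B : C} (p : A ⟶ I) (i : I ⟶ B)

/-- the morphism of arrows `p ⟶ p ≫ i` -/
def arrowMap : Arrow.mk p ⟶ Arrow.mk (p ≫ i) := Arrow.homMk (𝟙 A) i (by simp)

/-- The map of Čech nerves induced by `p ⟶ p ≫ i`. -/
noncomputable def augMap : (Arrow.mk p).augmentedCechNerve ⟶ (Arrow.mk (p ≫ i)).augmentedCechNerve :=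
  Arrow.mapAugmentedCechNerve (arrowMap p i)

@[simp] lemma augMap_right : (augMap p i).right = i := rfl

lemma augMap_left_app (n : SimplexCategoryᵒᵖ) :
    (augMap p i).left.app n = fwd (ι := Fin (n.unop.len + 1)) p i := by
  apply WidePullback.hom_ext
  · intro j
    refine Eq.trans ?_ (fwd_π p i j).symm
    refine Eq.trans (WidePullback.lift_π ..) ?_
    exact Category.comp_id _
  · refine Eq.trans ?_ (fwd_base p i).symm
    exact WidePullback.lift_base ..

variable [Mono i]

instance (n : SimplexCategoryᵒᵖ) : IsIso ((augMap p i).left.app n) := by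
  rw [augMap_left_app]; exact isIso_fwd p i 0

instance : IsIso (augMap p i).left := by
  rw [NatTrans.isIso_iff_isIso_app]; intro n; infer_instance

end Groth.Agent.Lib.Helper30.CechMono
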