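import Mathlib
set_option autoImplicit false
open CategoryTheory Limits Opposite Simplicial AlgebraicTopology

namespace Groth.Agent.Lib.Helper30.EpsMap

universe v₁ v₂ u₁ u₂

variable {A : Type u₁} [Category.{v₁} A] {B : Type u₂} [Category.{v₂} B]
  [Preadditive A] [Preadditive B]
  (G : A ⥤ B) [G.Additive]

/-- `G` applied to the alternating face map complex. -/
noncomputable def altIso (X : SimplicialObject A) :
    AlternatingFaceMapComplex.obj (((SimplicialObject.whiskering A B).obj G).obj X) ≅
      (G.mapHomologicalComplex _).obj (AlternatingFaceMapComplex.obj X) :=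
  HomologicalComplex.Hom.isoOfComponents (fun _ => Iso.refl _) (by
    rintro i j (rfl : j + 1 = i)
    refine (Category.id_comp _).trans (Eq.trans ?_ (Category.comp_id _).symm)
    show G.map ((AlternatingFaceMapComplex.obj X).d (j + 1) j) =
      (AlternatingFaceMapComplex.obj (((SimplicialObject.whiskering A B).obj G).obj X)).d (j + 1) j
    rw [AlternatingFaceMapComplex.obj_d_eq, AlternatingFaceMapComplex.obj_d_eq, Functor.map_sum]
    refine Finset.sum_congr rfl (fun k _ => ?_)
    rw [Functor.map_zsmul]
    rfl)

@[simp] lemma altIso_hom_f (X : SimplicialObject A) (n : ℕ) : (altIso G X).hom.f n = 𝟙 _ := rfl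

variable [HasZeroObject A] [HasZeroObject B]

lemma eps_comm (W : SimplicialObject.Augmented A) :
    (altIso G W.left).hom ≫ (G.mapHomologicalComplex _).map (AlternatingFaceMapComplex.ε.app W) ≫
      (HomologicalComplex.singleMapHomologicalComplex G (ComplexShape.down ℕ) 0).hom.app W.right =
    AlternatingFaceMapComplex.ε.app (((SimplicialObject.Augmented.whiskering A B).obj G).obj W) := by
  apply HomologicalComplex.to_single_hom_ext
  rw [HomologicalComplex.comp_f, HomologicalComplex.comp_f, altIso_hom_f,
    HomologicalComplex.singleMapHomologicalComplex_hom_app_self]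
  simp only [Functor.mapHomologicalComplex_map_f, AlternatingFaceMapComplex.ε_app_f_zero]
  simp only [ChainComplex.single₀ObjXSelf, Iso.refl_hom, Iso.refl_inv]
  dsimp [SimplicialObject.Augmented.whiskering, SimplicialObject.Augmented.whiskeringObj]
  refine (Category.id_comp _).trans ?_
  refine congrArg (G.map (W.hom.app (op ⦋0⦌)) ≫ ·) ?_
  exact ((congrArg (· ≫ 𝟙 (G.obj W.right)) (G.map_id W.right)).trans (Category.comp_id _))

lemma eps_comm' (W : SimplicialObject.Augmented A) :
    (altIso G W.left).hom ≫ (G.mapHomologicalComplex _).map (AlternatingFaceMapComplex.ε.app W) =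
    AlternatingFaceMapComplex.ε.app (((SimplicialObject.Augmented.whiskering A B).obj G).obj W) ≫
      (HomologicalComplex.singleMapHomologicalComplex G (ComplexShape.down ℕ) 0).inv.app W.right := by
  have h := eps_comm G W
  have h2 : ((altIso G W.left).hom ≫ (G.mapHomologicalComplex _).map
      (AlternatingFaceMapComplex.ε.app W)) ≫
      ((HomologicalComplex.singleMapHomologicalComplex G (ComplexShape.down ℕ) 0).app W.right).hom =
      AlternatingFaceMapComplex.ε.app
        (((SimplicialObject.Augmented.whiskering A B).obj G).obj W) :=
    (Category.assoc _ _ _).trans h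
  exact (Iso.eq_comp_inv _).mpr h2

/-- The augmentation `ε` commutes with additive functors. -/
noncomputable def epsArrowIso (W : SimplicialObject.Augmented A) :
    Arrow.mk (AlternatingFaceMapComplex.ε.app (((SimplicialObject.Augmented.whiskering A B).obj G).obj W)) ≅
      Arrow.mk ((G.mapHomologicalComplex _).map (AlternatingFaceMapComplex.ε.app W)) :=
  Arrow.isoMk (altIso G W.left)
    (((HomologicalComplex.singleMapHomologicalComplex G (ComplexShape.down ℕ) 0).app W.right).symm) (by
    exact eps_comm' G W)

section transfer

variable [CategoryWithHomology B]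

/-- `ε` of the whiskered object is a quasi-iso iff the image under `G` of `ε` is. -/
lemma quasiIso_eps_whisker_iff (W : SimplicialObject.Augmented A) :
    QuasiIso (AlternatingFaceMapComplex.ε.app
      (((SimplicialObject.Augmented.whiskering A B).obj G).obj W)) ↔
    QuasiIso ((G.mapHomologicalComplex _).map (AlternatingFaceMapComplex.ε.app W)) :=
  quasiIso_iff_of_arrow_mk_iso _ _ (epsArrowIso G W)

lemma quasiIso_eps_whisker [CategoryWithHomology A] [G.PreservesHomology] (W : SimplicialObject.Augmented A)
    [QuasiIso (AlternatingFaceMapComplex.ε.app W)] :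
    QuasiIso (AlternatingFaceMapComplex.ε.app
      (((SimplicialObject.Augmented.whiskering A B).obj G).obj W)) := by
  rw [quasiIso_eps_whisker_iff]
  infer_instance

end transfer

section natural

variable [CategoryWithHomology A] {Y Y' : SimplicialObject.Augmented A} (g : Y ⟶ Y')

/-- A map of augmented simplicial objects which is an iso on both components transports
the property that `ε` is a quasi-iso. -/
lemma quasiIso_eps_iff_of_isIso [IsIso g.left] [IsIso g.right] :
    QuasiIso (AlternatingFaceMapComplex.ε.app Y) ↔ QuasiIso (AlternatingFaceMapComplex.ε.app Y') := by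
  have h1 : IsIso ((SimplicialObject.Augmented.drop ⋙ alternatingFaceMapComplex A).map g) :=
    inferInstanceAs (IsIso ((alternatingFaceMapComplex A).map g.left))
  have h2 : IsIso ((SimplicialObject.Augmented.point ⋙ ChainComplex.single₀ A).map g) :=
    inferInstanceAs (IsIso ((ChainComplex.single₀ A).map g.right))
  exact quasiIso_iff_of_arrow_mk_iso _ _
    (Arrow.isoMk (asIso ((SimplicialObject.Augmented.drop ⋙ alternatingFaceMapComplex A).map g))
      (asIso ((SimplicialObject.Augmented.point ⋙ ChainComplex.single₀ A).map g))
      (AlternatingFaceMapComplex.ε.naturality g))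

lemma quasiIso_eps_iff_of_iso (e : Y ≅ Y') :
    QuasiIso (AlternatingFaceMapComplex.ε.app Y) ↔ QuasiIso (AlternatingFaceMapComplex.ε.app Y') :=
  quasiIso_eps_iff_of_isIso e.hom

end natural

omit [Preadditive A] [Preadditive B] [HasZeroObject A] [HasZeroObject B] in
/-- whiskering with a composite -/
def whiskerCompIso {E : Type*} [Category E] (F : A ⥤ B) (H : B ⥤ E)
    (W : SimplicialObject.Augmented A) :
    ((SimplicialObject.Augmented.whiskering A E).obj (F ⋙ H)).obj W ≅
      ((SimplicialObject.Augmented.whiskering B E).obj H).obj
        (((SimplicialObject.Augmented.whiskering A B).obj F).obj W) :=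
  Comma.isoMk (Iso.refl _) (Iso.refl _) (by
    ext n
    dsimp [SimplicialObject.Augmented.whiskering, SimplicialObject.Augmented.whiskeringObj]
    simp
    exact Category.id_comp _)

end Groth.Agent.Lib.Helper30.EpsMap
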