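import Mathlib
import Groth.Agent.Lib.Helper30.CechMap
import Groth.Agent.Lib.Helper30.CechMono
import Groth.Agent.Lib.Helper30.EpsMap
set_option autoImplicit false
universe u
open CategoryTheory Limits Opposite Simplicial AlgebraicTopology
open Groth.Agent.Lib.Helper30

namespace Groth.Agent.Lib.Helper30.CechFree

variable {C : Type u} [SmallCategory C] (J : GrothendieckTopology C)

section W
variable {K' K : Sheaf J (Type u)} (f : K' ⟶ K) [Epi f]

lemma W_range_ι : J.W (Subfunctor.range f.hom).ι := by
  have h1 : Presheaf.IsLocallySurjective J f.hom := (Sheaf.isLocallySurjective_iff_epi f).mpr inferInstance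
  have h2 : Presheaf.IsLocallySurjective J (Subfunctor.range f.hom).ι :=
    Presheaf.isLocallySurjective_of_isLocallySurjective_fac J (Subfunctor.toRange_ι f.hom)
  have h3 : Presheaf.IsLocallyInjective J (Subfunctor.range f.hom).ι :=
    Presheaf.isLocallyInjective_of_injective J _ (fun X => Subtype.val_injective)
  exact J.W_of_isLocallyBijective _

instance isIso_a_free_ι : IsIso ((presheafToSheaf J AddCommGrpCat.{u}).map
    (Functor.whiskerRight (Subfunctor.range f.hom).ι AddCommGrpCat.free.{u})) := by
  rw [← J.W_iff]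
  exact J.W_of_preservesSheafification AddCommGrpCat.free.{u} _ (W_range_ι J f)

end W

section types

/-- In `Type`, the free abelian groups on the Čech nerve of a surjection resolve. -/
lemma quasiIso_eps_free_type {X Y : Type u} (p : X ⟶ Y) [Epi p] :
    QuasiIso (AlternatingFaceMapComplex.ε.app
      (((SimplicialObject.Augmented.whiskering _ _).obj AddCommGrpCat.free.{u}).obj
        (Arrow.mk p).augmentedCechNerve)) := by
  have hs : IsSplitEpi p := isSplitEpi_of_epi p
  obtain ⟨S⟩ := hs.exists_splitEpi
  let ed := (Arrow.AugmentedCechNerve.extraDegeneracy (Arrow.mk p) S).map AddCommGrpCat.free.{u}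
  exact ed.homotopyEquiv.quasiIso_hom

end types

section presheaves

/-- the free abelian presheaf functor -/
abbrev Fr : (Cᵒᵖ ⥤ Type u) ⥤ (Cᵒᵖ ⥤ AddCommGrpCat.{u}) :=
  (Functor.whiskeringRight Cᵒᵖ _ _).obj AddCommGrpCat.free.{u}

variable {P' I : Cᵒᵖ ⥤ Type u} (π : P' ⟶ I) [Epi π]

/-- sectionwise: the whiskered Čech nerve evaluated at `U`. -/
noncomputable def evalIso (U : Cᵒᵖ) :
    ((SimplicialObject.Augmented.whiskering _ _).obj ((evaluation Cᵒᵖ AddCommGrpCat.{u}).obj U)).obj
      (((SimplicialObject.Augmented.whiskering _ _).obj (Fr (C := C))).obj (Arrow.mk π).augmentedCechNerve) ≅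
    ((SimplicialObject.Augmented.whiskering _ _).obj AddCommGrpCat.free.{u}).obj
        (Arrow.mk (π.app U)).augmentedCechNerve :=
  (EpsMap.whiskerCompIso (Fr (C := C)) ((evaluation Cᵒᵖ AddCommGrpCat.{u}).obj U) _).symm ≪≫
    (EpsMap.whiskerCompIso ((evaluation Cᵒᵖ (Type u)).obj U) AddCommGrpCat.free.{u} _) ≪≫
    ((SimplicialObject.Augmented.whiskering _ _).obj AddCommGrpCat.free.{u}).mapIso
      (CechMap.augCechIso ((evaluation Cᵒᵖ (Type u)).obj U) (Arrow.mk π))

lemma quasiIso_eps_free_presheaf :
    QuasiIso (AlternatingFaceMapComplex.ε.app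
      (((SimplicialObject.Augmented.whiskering _ _).obj (Fr (C := C))).obj
        (Arrow.mk π).augmentedCechNerve)) := by
  rw [HomologicalComplex.quasiIso_iff_evaluation]
  intro U
  rw [← EpsMap.quasiIso_eps_whisker_iff]
  rw [EpsMap.quasiIso_eps_iff_of_iso (evalIso π U)]
  have : Epi (π.app U) := inferInstance
  exact quasiIso_eps_free_type (π.app U)

end presheaves

section sheaves

variable {K' K : Sheaf J (Type u)} (f : K' ⟶ K) [Epi f]

omit [Epi f] in
lemma quasiIso_eps_step1 :
    QuasiIso (AlternatingFaceMapComplex.ε.app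
      (((SimplicialObject.Augmented.whiskering _ _).obj
        (Fr (C := C) ⋙ presheafToSheaf J AddCommGrpCat.{u})).obj
        (Arrow.mk (Subfunctor.toRange f.hom)).augmentedCechNerve)) := by
  rw [EpsMap.quasiIso_eps_iff_of_iso
    (EpsMap.whiskerCompIso (Fr (C := C)) (presheafToSheaf J AddCommGrpCat.{u}) _)]
  have := quasiIso_eps_free_presheaf (Subfunctor.toRange f.hom)
  exact EpsMap.quasiIso_eps_whisker (presheafToSheaf J AddCommGrpCat.{u}) _

/-- the comparison map from the Čech nerve of `K' → im f` to that of `f.hom`, whiskered. -/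
noncomputable def stepMap :
    ((SimplicialObject.Augmented.whiskering _ _).obj
        (Fr (C := C) ⋙ presheafToSheaf J AddCommGrpCat.{u})).obj
        (Arrow.mk (Subfunctor.toRange f.hom)).augmentedCechNerve ⟶
    ((SimplicialObject.Augmented.whiskering _ _).obj
        (Fr (C := C) ⋙ presheafToSheaf J AddCommGrpCat.{u})).obj
        (Arrow.mk ((sheafToPresheaf J (Type u)).map f)).augmentedCechNerve :=
  ((SimplicialObject.Augmented.whiskering _ _).obj
        (Fr (C := C) ⋙ presheafToSheaf J AddCommGrpCat.{u})).map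
    (CechMono.augMap (Subfunctor.toRange f.hom) (Subfunctor.range f.hom).ι)

instance : IsIso (stepMap J f).left := by
  have : IsIso (CechMono.augMap (Subfunctor.toRange f.hom) (Subfunctor.range f.hom).ι).left :=
    inferInstance
  exact inferInstanceAs (IsIso (((Functor.whiskeringRight _ _ _).obj
    (Fr (C := C) ⋙ presheafToSheaf J AddCommGrpCat.{u})).map
      (CechMono.augMap (Subfunctor.toRange f.hom) (Subfunctor.range f.hom).ι).left))

instance : IsIso (stepMap J f).right :=
  isIso_a_free_ι J f

theorem main : QuasiIso (AlternatingFaceMapComplex.ε.app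
    (((SimplicialObject.Augmented.whiskering _ _).obj
      (Sheaf.composeAndSheafify J AddCommGrpCat.free.{u})).obj
        (Arrow.mk f).augmentedCechNerve)) := by
  rw [EpsMap.quasiIso_eps_iff_of_iso (EpsMap.whiskerCompIso (sheafToPresheaf J (Type u))
    (Fr (C := C) ⋙ presheafToSheaf J AddCommGrpCat.{u}) _)]
  rw [EpsMap.quasiIso_eps_iff_of_iso (((SimplicialObject.Augmented.whiskering _ _).obj
    (Fr (C := C) ⋙ presheafToSheaf J AddCommGrpCat.{u})).mapIso
      (CechMap.augCechIso (sheafToPresheaf J (Type u)) (Arrow.mk f)))]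
  exact (EpsMap.quasiIso_eps_iff_of_isIso (stepMap J f)).mp (quasiIso_eps_step1 J f)

end sheaves

end Groth.Agent.Lib.Helper30.CechFree
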