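import Mathlib
set_option autoImplicit false
open CategoryTheory Limits Opposite Simplicial AlgebraicTopology

namespace Groth.Agent.Lib.Helper30.HomCx

universe v u

lemma sum_apply {P Q : AddCommGrpCat.{v}} {ι : Type*} (s : Finset ι) (g : ι → (P ⟶ Q)) (x : P) :
    (ConcreteCategory.hom (∑ i ∈ s, g i)) x = ∑ i ∈ s, (ConcreteCategory.hom (g i)) x := by
  classical
  induction s using Finset.induction_on with
  | empty => simp
  | insert a s ha ih =>
    rw [Finset.sum_insert ha, Finset.sum_insert ha, ← ih]
    rfl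

lemma zsmul_apply {P Q : AddCommGrpCat.{v}} (k : ℤ) (g : P ⟶ Q) (x : P) :
    (ConcreteCategory.hom (k • g)) x = k • (ConcreteCategory.hom g) x := rfl

variable {𝒜 : Type u} [Category.{v} 𝒜] [Preadditive 𝒜] (X : SimplicialObject 𝒜) (F : 𝒜)

/-- The differential of the alternating coface complex of `Hom(X_•, F)` is precomposition by the
differential of the alternating face complex of `X`. -/
lemma d_apply (n : ℕ) (φ : X.obj (op ⦋n⦌) ⟶ F) :
    (ConcreteCategory.hom (((alternatingCofaceMapComplex AddCommGrpCat.{v}).obj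
      (X.rightOp ⋙ preadditiveYoneda.obj F)).d n (n + 1))) φ =
      (AlternatingFaceMapComplex.obj X).d (n + 1) n ≫ φ := by
  dsimp [alternatingCofaceMapComplex, AlternatingCofaceMapComplex.obj]
  rw [CochainComplex.of_d, AlternatingFaceMapComplex.obj_d_eq]
  dsimp [AlternatingCofaceMapComplex.objD]
  rw [Preadditive.sum_comp]
  refine (sum_apply _ _ _).trans ?_
  refine Finset.sum_congr rfl (fun i _ => ?_)
  refine (zsmul_apply _ _ _).trans ?_
  rw [Preadditive.zsmul_comp]
  rfl

end Groth.Agent.Lib.Helper30.HomCx
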