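import Mathlib
import Groth.Prelude.Def_ModSite
import Groth.Agent.Lib.Helper30.ExtZero
import Groth.Agent.Lib.Helper30.ModRestr

/-!
# Projection formula for extension by zero (presheaf level)
-/

set_option autoImplicit false
universe u
open CategoryTheory Limits Opposite MonoidalCategory

namespace Groth.Agent.Lib.Helper30.ExtZero

open Groth.Agent.Lib.Helper30.ModTensor Groth.Agent.Lib.Helper30.ModRestr

open scoped Classical
noncomputable section

variable {C : Type u} [SmallCategory C] {J : GrothendieckTopology C} (O : Sheaf J CommRingCat.{u})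
  (X : C)

/-- presheaf-level extension by zero, typed between the `PM` categories. -/
abbrev extPM : PM (O.over X) ⥤ PM O := extP (O.obj ⋙ forget₂ CommRingCat.{u} RingCat.{u}) X

/-- the presheaf-level adjunction, typed between the `PM` categories. -/
abbrev extPMAdj : extPM O X ⊣ resPM O X := extPAdj (O.obj ⋙ forget₂ CommRingCat.{u} RingCat.{u}) X

variable {O X}

/-- The projection-formula morphism `j_!(P ⊗ N|_X) ⟶ j_! P ⊗ N` at presheaf level. -/
def projHom (P : PM (O.over X)) (N : PM O) :
    (extPM O X).obj (P ⊗ (resPM O X).obj N) ⟶ (extPM O X).obj P ⊗ N :=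
  ((extPMAdj O X).homEquiv _ _).symm
    (((extPMAdj O X).unit.app P ▷ (resPM O X).obj N) ≫
      (resPMTensorIso O X ((extPM O X).obj P) N).inv)


lemma extPMAdj_unit_app_app (P : PM (O.over X)) (W : (Over X)ᵒᵖ) (p : P.obj W) :
    ((extPMAdj O X).unit.app P).app W p =
      ofS (R₀ := O.obj ⋙ forget₂ CommRingCat.{u} RingCat.{u}) P (op W.unop.left) W.unop.hom p := by
  rfl

lemma extPMAdj_homEquiv_symm_app_ofS (P : PM (O.over X)) (F : PM O)
    (α : P ⟶ (resPM O X).obj F) (V : Cᵒᵖ) (φ : V.unop ⟶ X) (p : P.obj (op (Over.mk φ))) :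
    (((extPMAdj O X).homEquiv P F).symm α).app V
      (ofS (R₀ := O.obj ⋙ forget₂ CommRingCat.{u} RingCat.{u}) P V φ p) =
      α.app (op (Over.mk φ)) p := by
  have h0 : (extPMAdj O X).homEquiv P F =
      extHomEquiv (R₀ := O.obj ⋙ forget₂ CommRingCat.{u} RingCat.{u}) P F := by
    show (extPAdj (O.obj ⋙ forget₂ CommRingCat.{u} RingCat.{u}) X).homEquiv P F = _
    unfold extPAdj
    rw [Adjunction.mkOfHomEquiv_homEquiv]
  have : ((extPMAdj O X).homEquiv P F).symm α =
      toExt (R₀ := O.obj ⋙ forget₂ CommRingCat.{u} RingCat.{u}) P F α := by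
    rw [h0]; rfl
  rw [this]
  exact alphaSum_of (R₀ := O.obj ⋙ forget₂ CommRingCat.{u} RingCat.{u}) P F α V φ p


/-- `P ⊗ N|_X`, typed in `PM (O.over X)`. -/
abbrev tensRes (P : PM (O.over X)) (N : PM O) : PM (O.over X) := P ⊗ (resPM O X).obj N

/-- the algebraic model of the projection formula isomorphism on sections. -/
def projEquiv (P : PM (O.over X)) (N : PM O) (V : Cᵒᵖ) :
    (DirectSum (V.unop ⟶ X) fun φ =>
      TensorProduct (O.obj.obj V) (comp (R₀ := O.obj ⋙ forget₂ CommRingCat.{u} RingCat.{u}) P V φ)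
        (N.obj V)) ≃ₗ[O.obj.obj V]
    TensorProduct (O.obj.obj V)
      (DirectSum (V.unop ⟶ X) fun φ =>
        comp (R₀ := O.obj ⋙ forget₂ CommRingCat.{u} RingCat.{u}) P V φ) (N.obj V) :=
  (TensorProduct.directSumLeft (O.obj.obj V) (O.obj.obj V)
    (fun φ : V.unop ⟶ X => comp (R₀ := O.obj ⋙ forget₂ CommRingCat.{u} RingCat.{u}) P V φ)
    (N.obj V)).symm

lemma projHom_app_eq (P : PM (O.over X)) (N : PM O) (V : Cᵒᵖ)
    (m : Sec (R₀ := O.obj ⋙ forget₂ CommRingCat.{u} RingCat.{u}) (tensRes P N) V) :
    (projHom P N).app V m = projEquiv P N V m := by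
  have key : (show Sec (R₀ := O.obj ⋙ forget₂ CommRingCat.{u} RingCat.{u}) (tensRes P N) V →+
        ((extPM O X).obj P ⊗ N : PM O).obj V from
        ((projHom P N).app V).hom.toAddMonoidHom) =
      (show Sec (R₀ := O.obj ⋙ forget₂ CommRingCat.{u} RingCat.{u}) (tensRes P N) V →+
        ((extPM O X).obj P ⊗ N : PM O).obj V from
        (projEquiv P N V).toLinearMap.toAddMonoidHom) := by
    apply sec_hom_ext
    intro φ z
    show (projHom P N).app V (ofS (R₀ := O.obj ⋙ forget₂ CommRingCat.{u} RingCat.{u})
      (tensRes P N) V φ z) = projEquiv P N V (DirectSum.of _ φ z)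
    rw [projEquiv, TensorProduct.directSumLeft_symm_of]
    unfold projHom
    rw [extPMAdj_homEquiv_symm_app_ofS]
    let f₁ := ModuleCat.Hom.hom ((((extPMAdj O X).unit.app P ▷ (resPM O X).obj N) ≫
      (resPMTensorIso O X ((extPM O X).obj P) N).inv).app (op (Over.mk φ)))
    let f₂ := LinearMap.rTensor (N.obj V) (DirectSum.lof (O.obj.obj V) (V.unop ⟶ X)
      (fun φ => comp (R₀ := O.obj ⋙ forget₂ CommRingCat.{u} RingCat.{u}) P V φ) φ)
    show f₁ z = f₂ z
    induction z using TensorProduct.induction_on with
    | zero => exact (map_zero f₁).trans (map_zero f₂).symm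
    | tmul p n => rfl
    | add a b ha hb =>
      exact (map_add f₁ a b).trans ((congrArg₂ (· + ·) ha hb).trans (map_add f₂ a b).symm)
  exact DFunLike.congr_fun key m


section Gen

/-- a morphism of presheaves of modules which is bijective on all sections is an isomorphism. -/
lemma isIso_of_bijective {R₁ : Cᵒᵖ ⥤ RingCat.{u}} {M M' : PresheafOfModules.{u} R₁} (f : M ⟶ M')
    (h : ∀ V, Function.Bijective (f.app V)) : IsIso f := by
  have hi : ∀ V, IsIso (f.app V) := fun V => (ConcreteCategory.isIso_iff_bijective _).mpr (h V)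
  let e : M ≅ M' := PresheafOfModules.isoMk (fun V => asIso (f.app V))
    (fun V W g => f.naturality g)
  have : e.hom = f := by
    ext V x
    rfl
  rw [← this]
  infer_instance

end Gen

instance projHom_isIso (P : PM (O.over X)) (N : PM O) : IsIso (projHom P N) := by
  apply isIso_of_bijective
  intro V
  have : ⇑(ConcreteCategory.hom ((projHom P N).app V)) = fun m => projEquiv P N V m := by
    funext m
    exact projHom_app_eq P N V m
  rw [this]
  exact (projEquiv P N V).bijective


section Nat

variable (O X)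

set_option backward.isDefEq.respectTransparency.types false in
lemma resPMTensorIso_inv_naturality_left {A A' : PM O} (f : A ⟶ A') (N : PM O) :
    ((resPM O X).map f ▷ (resPM O X).obj N) ≫ (resPMTensorIso O X A' N).inv =
      (resPMTensorIso O X A N).inv ≫ (resPM O X).map (f ▷ N) := by
  ext W : 1
  exact ModuleCat.MonoidalCategory.tensor_ext (R := (O.over X).obj.obj W) (fun a b => rfl)

set_option backward.isDefEq.respectTransparency.types false in
lemma resPMTensorIso_inv_naturality_right (A : PM O) {N N' : PM O} (n : N ⟶ N') :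
    ((resPM O X).obj A ◁ (resPM O X).map n) ≫ (resPMTensorIso O X A N').inv =
      (resPMTensorIso O X A N).inv ≫ (resPM O X).map (A ◁ n) := by
  ext W : 1
  exact ModuleCat.MonoidalCategory.tensor_ext (R := (O.over X).obj.obj W) (fun a b => rfl)

end Nat


lemma projHom_naturality_left {P P' : PM (O.over X)} (p : P ⟶ P') (N : PM O) :
    (extPM O X).map (p ▷ (resPM O X).obj N) ≫ projHom P' N =
      projHom P N ≫ ((extPM O X).map p ▷ N) := by
  unfold projHom
  rw [← Adjunction.homEquiv_naturality_left_symm, ← Adjunction.homEquiv_naturality_right_symm]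
  congr 1
  have h1 : p ≫ (extPMAdj O X).unit.app P' =
      (extPMAdj O X).unit.app P ≫ (resPM O X).map ((extPM O X).map p) :=
    (extPMAdj O X).unit.naturality p
  rw [← Category.assoc, ← MonoidalCategory.comp_whiskerRight, h1,
    MonoidalCategory.comp_whiskerRight, Category.assoc, Category.assoc,
    resPMTensorIso_inv_naturality_left]

lemma projHom_naturality_right (P : PM (O.over X)) {N N' : PM O} (n : N ⟶ N') :
    (extPM O X).map (P ◁ (resPM O X).map n) ≫ projHom P N' =
      projHom P N ≫ ((extPM O X).obj P ◁ n) := by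
  unfold projHom
  rw [← Adjunction.homEquiv_naturality_left_symm, ← Adjunction.homEquiv_naturality_right_symm]
  congr 1
  rw [← Category.assoc, MonoidalCategory.whisker_exchange, Category.assoc, Category.assoc]
  exact congrArg (fun t => (extPMAdj O X).unit.app P ▷ (resPM O X).obj N ≫ t)
    (resPMTensorIso_inv_naturality_right O X ((extPM O X).obj P) n)

end

end Groth.Agent.Lib.Helper30.ExtZero
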