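import Mathlib
import Groth.Agent.Lib.Helper30.ModTensor
import Groth.Agent.S6165

/-!
# Consequences of the tensor-hom adjunction on `Mod O`
-/

set_option autoImplicit false
universe u
open CategoryTheory MonoidalCategory Limits Opposite
open Groth.Agent.Lib.Helper30.ModTensor

namespace Groth.Agent.Lib.Helper30.ModTensorAdj

variable {C : Type u} [SmallCategory C] {J : GrothendieckTopology C} (O : Sheaf J CommRingCat.{u})

/-- underlying presheaf of modules, in `PM O`. -/
abbrev valObj (G : ModSite.Mod O) : PM O := G.val

/-- underlying morphism of presheaves of modules, in `PM O`. -/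
abbrev valHom {A B : ModSite.Mod O} (g : A ⟶ B) : valObj O A ⟶ valObj O B := g.val

/-- `G ⊗ M ≅ M ⊗ G`, natural in `M`. -/
noncomputable def tensorBiSymm (G : ModSite.Mod O) :
    (ModSite.tensorBi O).obj G ≅ (ModSite.tensorBi O).flip.obj G :=
  NatIso.ofComponents (fun M => (shf O).mapIso (β_ (valObj O G) (valObj O M))) (by
    intro M M' f
    show (shf O).map (valObj O G ◁ valHom O f) ≫ (shf O).map (β_ (valObj O G) (valObj O M')).hom =
      (shf O).map (β_ (valObj O G) (valObj O M)).hom ≫ (shf O).map (valHom O f ▷ valObj O G)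
    rw [← Functor.map_comp, ← Functor.map_comp, BraidedCategory.braiding_naturality_right])

instance isLeftAdjoint_flip_obj (G : ModSite.Mod O) :
    ((ModSite.tensorBi O).flip.obj G).IsLeftAdjoint := Groth.Agent.S6165.result O G

instance isLeftAdjoint_obj (G : ModSite.Mod O) : ((ModSite.tensorBi O).obj G).IsLeftAdjoint :=
  Functor.isLeftAdjoint_of_iso (tensorBiSymm O G).symm

end Groth.Agent.Lib.Helper30.ModTensorAdj
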