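import Mathlib
import Groth.Prelude.Def_ModSite
import Groth.Agent.Lib.Helper30.ExtZeroProj
import Groth.Agent.Lib.Helper30.ModTensorAdj

/-!
# Projection formula for extension by zero (sheaf level)
-/

set_option autoImplicit false
universe u
open CategoryTheory Limits Opposite MonoidalCategory

namespace Groth.Agent.Lib.Helper30.ExtZero

open Groth.Agent.Lib.Helper30.ModTensor Groth.Agent.Lib.Helper30.ModRestr
  Groth.Agent.Lib.Helper30.ModTensorAdj

open scoped Classical
noncomputable section

variable {C : Type u} [SmallCategory C] {J : GrothendieckTopology C} (O : Sheaf J CommRingCat.{u})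
  (X : C)

/-- `j_!`, typed as in the prelude. -/
abbrev jS : ModSite.Mod (O.over X) ⥤ ModSite.Mod O := ModSite.extZero O X

/-- the comparison `j_! ≅ sheafify ∘ extP ∘ forget`. -/
def jSIso : jS O X ≅ extS (RS O) X := pullbackIsoExtS (RS O) X

/-- `sheafify_X ⋙ j_! ≅ extP ⋙ sheafify`. -/
def compIso : shf (O.over X) ⋙ jS O X ≅ extPM O X ⋙ shf O :=
  SheafOfModules.sheafificationCompPullback.{u} (𝟙 ((RS O).over X)) ≪≫
    Functor.isoWhiskerRight
      (Adjunction.leftAdjointUniq
        (PresheafOfModules.pullbackPushforwardAdjunction.{u}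
          (show (RS O).over X ⟶ (RS O).over X from 𝟙 ((RS O).over X)).hom)
        (extPAdj (RS O).obj X)) _


variable {O X}

/-- the canonical map `extP P ⟶ j_! P` of presheaves of modules. -/
def theta (P : ModSite.Mod (O.over X)) :
    (extPM O X).obj (valObj (O.over X) P) ⟶ valObj O ((jS O X).obj P) :=
  shfUnit ((extPM O X).obj (valObj (O.over X) P)) ≫ valHom O ((jSIso O X).inv.app P)

lemma isIso_shf_map_theta (P : ModSite.Mod (O.over X)) : IsIso ((shf O).map (theta P)) := by
  unfold theta
  rw [Functor.map_comp]
  have h1 := isIso_shf_map_unit ((extPM O X).obj (valObj (O.over X) P))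
  have h2 : IsIso (valHom O ((jSIso O X).inv.app P)) :=
    inferInstanceAs (IsIso ((SheafOfModules.forget _).map ((jSIso O X).inv.app P)))
  have h3 : IsIso ((shf O).map (valHom O ((jSIso O X).inv.app P))) := Functor.map_isIso _ _
  exact @IsIso.comp_isIso _ _ _ _ _ _ _ h1 h3

lemma theta_naturality {P P' : ModSite.Mod (O.over X)} (p : P ⟶ P') :
    (extPM O X).map (valHom (O.over X) p) ≫ theta P' = theta P ≫ valHom O ((jS O X).map p) := by
  unfold theta
  have hnat : (extPM O X).map (valHom (O.over X) p) ≫
      shfUnit ((extPM O X).obj (valObj (O.over X) P')) =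
      shfUnit ((extPM O X).obj (valObj (O.over X) P)) ≫
        valHom O ((shf O).map ((extPM O X).map (valHom (O.over X) p))) :=
    (PresheafOfModules.sheafificationAdjunction.{u} (𝟙 (RS O).obj)).unit.naturality
      ((extPM O X).map (valHom (O.over X) p))
  have h2 : (shf O).map ((extPM O X).map (valHom (O.over X) p)) ≫ (jSIso O X).inv.app P' =
      (jSIso O X).inv.app P ≫ (jS O X).map p := (jSIso O X).inv.naturality p
  rw [← Category.assoc, hnat, Category.assoc, Category.assoc]
  congr 1
  exact congrArg (valHom O) h2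


/-- `P ⊗ N|_X` as a presheaf of modules on `C/X`. -/
abbrev tensResS (P : ModSite.Mod (O.over X)) (N : ModSite.Mod O) : PM (O.over X) :=
  valObj (O.over X) P ⊗ (resPM O X).obj (valObj O N)

/-- The projection formula morphism `j_!(P ⊗ N|_X) ⟶ j_! P ⊗ N`. -/
def projS (P : ModSite.Mod (O.over X)) (N : ModSite.Mod O) :
    (jS O X).obj ((shf (O.over X)).obj (tensResS P N)) ⟶
      (shf O).obj (valObj O ((jS O X).obj P) ⊗ valObj O N) :=
  (compIso O X).hom.app (tensResS P N) ≫
    (shf O).map (projHom (valObj (O.over X) P) (valObj O N)) ≫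
      (shf O).map (theta P ▷ valObj O N)

instance projS_isIso (P : ModSite.Mod (O.over X)) (N : ModSite.Mod O) : IsIso (projS P N) := by
  unfold projS
  have h1 : IsIso ((shf O).map (projHom (valObj (O.over X) P) (valObj O N))) :=
    Functor.map_isIso _ _
  have h2 : IsIso ((shf O).map (theta P ▷ valObj O N)) :=
    isIso_shf_map_whiskerRight _ _ (isIso_shf_map_theta P)
  have h3 : IsIso ((shf O).map (projHom (valObj (O.over X) P) (valObj O N)) ≫
      (shf O).map (theta P ▷ valObj O N)) := @IsIso.comp_isIso _ _ _ _ _ _ _ h1 h2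
  exact @IsIso.comp_isIso _ _ _ _ _ _ _ inferInstance h3

lemma projS_naturality_left {P P' : ModSite.Mod (O.over X)} (p : P ⟶ P') (N : ModSite.Mod O) :
    (jS O X).map ((shf (O.over X)).map
        (valHom (O.over X) p ▷ (resPM O X).obj (valObj O N))) ≫ projS P' N =
      projS P N ≫ (shf O).map (valHom O ((jS O X).map p) ▷ valObj O N) := by
  unfold projS
  have e1 := (compIso O X).hom.naturality
    (valHom (O.over X) p ▷ (resPM O X).obj (valObj O N))
  have e2 := congrArg (shf O).map (projHom_naturality_left (valHom (O.over X) p) (valObj O N))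
  have e3 := congrArg (fun t => (shf O).map (t ▷ valObj O N)) (theta_naturality p)
  simp only [Functor.comp_map, Functor.map_comp, MonoidalCategory.comp_whiskerRight] at e1 e2 e3
  rw [← Category.assoc, e1, Category.assoc, ← Category.assoc ((shf O).map _), e2, Category.assoc,
    e3, Category.assoc, Category.assoc]

lemma projS_naturality_right (P : ModSite.Mod (O.over X)) {N N' : ModSite.Mod O} (n : N ⟶ N') :
    (jS O X).map ((shf (O.over X)).map
        (valObj (O.over X) P ◁ (resPM O X).map (valHom O n))) ≫ projS P N' =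
      projS P N ≫ (shf O).map (valObj O ((jS O X).obj P) ◁ valHom O n) := by
  unfold projS
  have e1 := (compIso O X).hom.naturality
    (valObj (O.over X) P ◁ (resPM O X).map (valHom O n))
  have e2 := congrArg (shf O).map (projHom_naturality_right (valObj (O.over X) P) (valHom O n))
  have e3 := congrArg (shf O).map (MonoidalCategory.whisker_exchange (theta P) (valHom O n))
  simp only [Functor.comp_map, Functor.map_comp] at e1 e2 e3
  rw [← Category.assoc, e1, Category.assoc, ← Category.assoc ((shf O).map _), e2, Category.assoc,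
    e3, Category.assoc, Category.assoc]


variable (O X)

/-- Projection formula, natural in the module on `C/X`:
`j_!(P ⊗ N|_X) ≅ j_! P ⊗ N`. -/
def projIsoP (N : ModSite.Mod O) :
    (ModSite.tensorBi (O.over X)).flip.obj ((ModSite.restr O X).obj N) ⋙ jS O X ≅
      jS O X ⋙ (ModSite.tensorBi O).flip.obj N :=
  NatIso.ofComponents (fun P => @asIso _ _ _ _ (projS P N) (projS_isIso P N)) (by
    intro P P' p
    exact projS_naturality_left p N)

/-- Projection formula, natural in the module on `C`:
`j_!(P ⊗ N|_X) ≅ j_! P ⊗ N`. -/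
def projIsoN (P : ModSite.Mod (O.over X)) :
    ModSite.restr O X ⋙ (ModSite.tensorBi (O.over X)).obj P ⋙ jS O X ≅
      (ModSite.tensorBi O).obj ((jS O X).obj P) :=
  NatIso.ofComponents (fun N => @asIso _ _ _ _ (projS P N) (projS_isIso P N)) (by
    intro N N' n
    exact projS_naturality_right P n)

end

end Groth.Agent.Lib.Helper30.ExtZero
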