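import Mathlib
import Groth.Prelude.Def_ModSite
import Groth.Agent.Lib.Helper30.ExtZero
import Groth.Agent.Lib.Helper30.ModRestr

/-!
# Extension by zero is faithful (hence reflects exactness)
-/

set_option autoImplicit false
universe u
open CategoryTheory Limits Opposite

namespace Groth.Agent.Lib.Helper30.ExtZero

open scoped Classical
noncomputable section

variable {C : Type u} [SmallCategory C] {J : GrothendieckTopology C} (R : Sheaf J RingCat.{u}) (X : C)

section

variable {R₀ : Cᵒᵖ ⥤ RingCat.{u}} {X} (G : PresheafOfModules.{u} (ROver R₀ X))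

lemma ofS_injective (V : Cᵒᵖ) (φ : V.unop ⟶ X) : Function.Injective (ofS G V φ) :=
  DirectSum.of_injective (β := fun φ : V.unop ⟶ X => comp G V φ) φ

/-- any arrow into `Over.mk φ` factors through the standard arrow `arr`. -/
lemma map_eq_of_arr_eq {V : Cᵒᵖ} (φ : V.unop ⟶ X) {W : Over X} (a : W ⟶ Over.mk φ)
    (y y' : G.obj (op (Over.mk φ)))
    (h : G.map (arr (V := V) (W := op W.left) a.left.op φ).op y =
      G.map (arr (V := V) (W := op W.left) a.left.op φ).op y') :
    G.map a.op y = G.map a.op y' := by
  let e : W ⟶ Over.mk (a.left ≫ φ) := Over.homMk (𝟙 _) (by simpa using (Over.w a))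
  have ha : a = e ≫ arr (V := V) (W := op W.left) a.left.op φ := by
    apply Over.OverMorphism.ext
    simp [e]
  rw [ha, op_comp, PresheafOfModules.map_comp_apply, PresheafOfModules.map_comp_apply]
  exact congrArg _ h

end


section Sep

variable {R X}

/-- Two sections of a sheaf of modules on `C/X` over `φ` which agree on a `J`-covering sieve of
the source of `φ` are equal. -/
lemma eq_of_locally_eq (G' : SheafOfModules.{u} (R.over X)) {V : Cᵒᵖ} (φ : V.unop ⟶ X)
    (y y' : comp G'.val V φ) (S : Sieve V.unop) (hS : S ∈ J V.unop)
    (h : ∀ ⦃V' : C⦄ (k : V' ⟶ V.unop), S k →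
      G'.val.map (arr (V := V) (W := op V') k.op φ).op y =
        G'.val.map (arr (V := V) (W := op V') k.op φ).op y') : y = y' := by
  have hsep : Presieve.IsSeparated (J.over X) (G'.val.presheaf ⋙ forget Ab) := by
    apply Presieve.IsSheaf.isSeparated
    rw [← isSheaf_iff_isSheaf_of_type]
    exact ((sheafCompose (J.over X) (forget Ab)).obj ⟨G'.val.presheaf, G'.isSheaf⟩).2
  have hT : (Sieve.overEquiv (Over.mk φ)).symm S ∈ (J.over X) (Over.mk φ) :=
    J.overEquiv_symm_mem_over (Over.mk φ) S hS
  refine (hsep _ hT).ext (fun W a ha => ?_)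
  have ha' : S a.left := ha
  exact map_eq_of_arr_eq G'.val φ a y y' (h a.left ha')

end Sep


section Faithful

open Groth.Agent.Lib.Helper30.ModRestr

instance extS_faithful : (extS R X).Faithful where
  map_injective {G G'} f g hfg := by
    have h1 : (PresheafOfModules.sheafification.{u} (𝟙 R.obj)).map (extMap f.val) =
        (PresheafOfModules.sheafification.{u} (𝟙 R.obj)).map (extMap g.val) := hfg
    have h2 : extMap f.val ≫
        (PresheafOfModules.sheafificationAdjunction.{u} (𝟙 R.obj)).unit.app (extObj G'.val) =
        extMap g.val ≫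
        (PresheafOfModules.sheafificationAdjunction.{u} (𝟙 R.obj)).unit.app (extObj G'.val) := by
      have nf := (PresheafOfModules.sheafificationAdjunction.{u} (𝟙 R.obj)).unit.naturality
        (extMap f.val)
      have ng := (PresheafOfModules.sheafificationAdjunction.{u} (𝟙 R.obj)).unit.naturality
        (extMap g.val)
      simp only [Functor.id_map, Functor.comp_map] at nf ng
      rw [nf, ng, h1]
    have hinj := (unit_isLocallyBijective R (extObj G'.val)).1
    apply SheafOfModules.hom_ext
    ext W x
    obtain ⟨W⟩ := W
    have h3 : ((PresheafOfModules.sheafificationAdjunction.{u} (𝟙 R.obj)).unit.app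
          (extObj G'.val)).app (op W.left)
          (ofS G'.val (op W.left) W.hom (f.val.app (op W) x)) =
        ((PresheafOfModules.sheafificationAdjunction.{u} (𝟙 R.obj)).unit.app
          (extObj G'.val)).app (op W.left)
          (ofS G'.val (op W.left) W.hom (g.val.app (op W) x)) := by
      have h4 := congrArg (fun t => t.app (op W.left) (ofS G.val (op W.left) W.hom x)) h2
      simp only [PresheafOfModules.comp_app, ModuleCat.comp_apply] at h4
      erw [extMap_app_apply, extMap_app_apply, secLin_of, secLin_of] at h4
      exact h4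
    have hE := Presheaf.equalizerSieve_mem J ((PresheafOfModules.toPresheaf _).map
      ((PresheafOfModules.sheafificationAdjunction.{u} (𝟙 R.obj)).unit.app (extObj G'.val)))
      (X := op W.left) _ _ h3
    refine eq_of_locally_eq G' (V := op W.left) W.hom _ _ _ hE ?_
    intro V' k hk
    apply ofS_injective G'.val (op V') (k ≫ W.hom)
    have e1 := secMap_of G'.val (V := op W.left) (W := op V') k.op W.hom (f.val.app (op W) x)
    have e2 := secMap_of G'.val (V := op W.left) (W := op V') k.op W.hom (g.val.app (op W) x)
    exact e1.symm.trans (Eq.trans hk e2)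

end Faithful


instance pullback_faithful : (SheafOfModules.pullback.{u} (𝟙 (R.over X))).Faithful :=
  Functor.Faithful.of_iso (pullbackIsoExtS R X).symm

end

end Groth.Agent.Lib.Helper30.ExtZero
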