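import Mathlib
import Groth.Prelude.Def_ModSite
import Groth.Agent.Lib.Helper30.ExtZeroProjS
import Groth.Agent.Lib.Helper30.ExtZeroFaithful

/-!
# Flatness and extension by zero / restriction
-/

set_option autoImplicit false
universe u
open CategoryTheory Limits Opposite MonoidalCategory

namespace Groth.Agent.Lib.Helper30.ExtZero

open Groth.Agent.Lib.Helper30.ModTensor Groth.Agent.Lib.Helper30.ModRestr
  Groth.Agent.Lib.Helper30.ModTensorAdj

noncomputable section

section General

/-- a right exact functor between abelian categories is additive. -/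
lemma additive_of_preservesFiniteColimits {A B : Type*} [Category A] [Category B]
    [Abelian A] [Abelian B] (F : A ⥤ B) [PreservesFiniteColimits F] : F.Additive :=
  rightExactFunctor_le_additiveFunctor A B F ((rightExactFunctor_iff F).mpr inferInstance)

/-- a right exact, mono-preserving functor between abelian categories is exact. -/
lemma preservesFiniteLimits_of_preservesMono' {A B : Type*} [Category A] [Category B]
    [Abelian A] [Abelian B] (F : A ⥤ B) [PreservesFiniteColimits F]
    [F.PreservesMonomorphisms] : PreservesFiniteLimits F := by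
  have := additive_of_preservesFiniteColimits F
  exact preservesFiniteLimits_of_preservesMono F

end General

variable {C : Type u} [SmallCategory C] {J : GrothendieckTopology C} (O : Sheaf J CommRingCat.{u})

/-- flatness is equivalent to `- ⊗ F` preserving monomorphisms. -/
lemma isFlat_of_preservesMono (F : ModSite.Mod O)
    (h : ((ModSite.tensorBi O).flip.obj F).PreservesMonomorphisms) : ModSite.IsFlat F := by
  have h2 : PreservesFiniteColimits ((ModSite.tensorBi O).flip.obj F) := inferInstance
  exact ⟨preservesFiniteLimits_of_preservesMono' _, h2⟩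

lemma preservesMono_of_isFlat (F : ModSite.Mod O) (h : ModSite.IsFlat F) :
    ((ModSite.tensorBi O).flip.obj F).PreservesMonomorphisms := by
  have := h.1
  infer_instance


instance jS_preservesMono (X : C) : (jS O X).PreservesMonomorphisms :=
  pullback_preservesMono (RS O) X

instance jS_faithful (X : C) : (jS O X).Faithful := pullback_faithful (RS O) X

lemma jS_preservesFiniteLimits (X : C) : PreservesFiniteLimits (jS O X) :=
  pullback_preservesFiniteLimits (RS O) X

/-- the restriction of a flat module to `C/V` is flat. -/
theorem isFlat_restr (M : ModSite.Mod O) (hM : ModSite.IsFlat M) (V : C) :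
    ModSite.IsFlat ((ModSite.restr O V).obj M) := by
  apply isFlat_of_preservesMono
  constructor
  intro P P' f hf
  have e := projIsoP O V M
  have h1 : Mono ((jS O V).map f) := inferInstance
  have hM' := preservesMono_of_isFlat O M hM
  have h2 : Mono (((ModSite.tensorBi O).flip.obj M).map ((jS O V).map f)) := inferInstance
  have nat := e.hom.naturality f
  have h3 : Mono ((jS O V).map
      (((ModSite.tensorBi (O.over V)).flip.obj ((ModSite.restr O V).obj M)).map f)) := by
    have h4 : Mono (((ModSite.tensorBi (O.over V)).flip.obj ((ModSite.restr O V).obj M) ⋙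
        jS O V).map f ≫ e.hom.app P') := by
      rw [nat]
      exact mono_comp _ _
    exact @mono_of_mono _ _ _ _ _ _ (e.hom.app P') h4
  exact (jS O V).mono_of_mono_map h3


section Unit

/-- the counit of the sheafification adjunction at a sheaf of modules. -/
def shfCounit (N : ModSite.Mod O) : (shf O).obj (valObj O N) ⟶ N :=
  (PresheafOfModules.sheafificationAdjunction.{u} (𝟙 (RS O).obj)).counit.app N

instance shfCounit_isIso (N : ModSite.Mod O) : IsIso (shfCounit O N) := by
  have hc : IsIso (PresheafOfModules.sheafificationAdjunction.{u}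
    (𝟙 (RS O).obj)).counit := inferInstance
  exact @NatIso.isIso_app_of_isIso _ _ _ _ _ _ _ hc N

lemma shfCounit_naturality {N N' : ModSite.Mod O} (n : N ⟶ N') :
    (shf O).map (valHom O n) ≫ shfCounit O N' = shfCounit O N ≫ n :=
  (PresheafOfModules.sheafificationAdjunction.{u} (𝟙 (RS O).obj)).counit.naturality n

/-- the unit as an object of `PM O`. -/
abbrev unitPM : PM O := 𝟙_ (PM O)

/-- `N ⊗ O ≅ N`, naturally in `N`. -/
def tensorUnitIso : (ModSite.tensorBi O).flip.obj (ModSite.unit O) ≅ 𝟭 (ModSite.Mod O) :=
  NatIso.ofComponents
    (fun N => (shf O).mapIso (ρ_ (valObj O N)) ≪≫ @asIso _ _ _ _ (shfCounit O N) (shfCounit_isIso O N)) (by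
    intro N N' n
    show (shf O).map (valHom O n ▷ unitPM O) ≫
        ((shf O).map (ρ_ (valObj O N')).hom ≫ shfCounit O N') =
      ((shf O).map (ρ_ (valObj O N)).hom ≫ shfCounit O N) ≫ n
    rw [← Category.assoc, ← Functor.map_comp, MonoidalCategory.rightUnitor_naturality,
      Functor.map_comp, Category.assoc, shfCounit_naturality, Category.assoc])

/-- the structure sheaf is flat. -/
lemma isFlat_unit : ModSite.IsFlat (ModSite.unit O) := by
  constructor
  · exact preservesFiniteLimits_of_natIso (tensorUnitIso O).symm
  · infer_instance

end Unit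


/-- extension by zero of a flat module is flat. -/
theorem isFlat_extZero (U : C) (M : ModSite.Mod (O.over U)) (hM : ModSite.IsFlat M) :
    ModSite.IsFlat ((ModSite.extZero O U).obj M) := by
  apply isFlat_of_preservesMono
  have h1 : (ModSite.restr O U).PreservesMonomorphisms := inferInstance
  have h2 : ((ModSite.tensorBi (O.over U)).obj M).PreservesMonomorphisms := by
    have := preservesMono_of_isFlat (O.over U) M hM
    exact Functor.PreservesMonomorphisms.of_iso (tensorBiSymm (O.over U) M).symm
  have h3 : (jS O U).PreservesMonomorphisms := inferInstance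
  have h4 : ((ModSite.tensorBi (O.over U)).obj M ⋙ jS O U).PreservesMonomorphisms :=
    @Functor.preservesMonomorphisms_comp _ _ _ _ _ _ _ _ h2 h3
  have h5 : (ModSite.restr O U ⋙ (ModSite.tensorBi (O.over U)).obj M ⋙
      jS O U).PreservesMonomorphisms :=
    @Functor.preservesMonomorphisms_comp _ _ _ _ _ _ _ _ h1 h4
  have h6 : ((ModSite.tensorBi O).obj ((jS O U).obj M)).PreservesMonomorphisms :=
    @Functor.PreservesMonomorphisms.of_iso _ _ _ _ _ _ h5 (projIsoN O U M)
  exact @Functor.PreservesMonomorphisms.of_iso _ _ _ _ _ _ h6 (tensorBiSymm O ((jS O U).obj M))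

/-- the free module on an object is flat. -/
theorem isFlat_freeOn (U : C) : ModSite.IsFlat (ModSite.freeOn O U) :=
  isFlat_extZero O U _ (isFlat_unit (O.over U))

end

end Groth.Agent.Lib.Helper30.ExtZero
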