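import Mathlib
import Groth.Prelude.Def_ModSite
import Groth.Agent.Lib.Helper30.ExtZeroFlat
import Groth.Agent.Lib.Helper30.ModSiteFree

/-!
# Sections of the internal hom over an object
-/

set_option autoImplicit false
universe u
open CategoryTheory Limits Opposite MonoidalCategory

namespace Groth.Agent.Lib.Helper30.ExtZero

open Groth.Agent.Lib.Helper30.ModTensor Groth.Agent.Lib.Helper30.ModRestr
  Groth.Agent.Lib.Helper30.ModTensorAdj Groth.Agent.Lib.Helper30.ModSiteFree

noncomputable section

variable {C : Type u} [SmallCategory C] {J : GrothendieckTopology C} (O : Sheaf J CommRingCat.{u})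

instance extZero_additive (X : C) : (ModSite.extZero O X).Additive :=
  pullback_additive (RS O) X

lemma freeOnHomEquiv_add (X : C) (F : ModSite.Mod O) (f g : ModSite.freeOn O X ⟶ F) :
    freeOnHomEquiv O X F (f + g) = freeOnHomEquiv O X F f + freeOnHomEquiv O X F g := by
  unfold freeOnHomEquiv
  simp only [Equiv.trans_apply]
  rw [Adjunction.homAddEquiv_add]
  rfl

/-- `Hom(freeOn O X, F) ≃+ F(X)`. -/
def freeOnHomAddEquiv (X : C) (F : ModSite.Mod O) :
    (ModSite.freeOn O X ⟶ F) ≃+ F.val.obj (op X) :=
  { freeOnHomEquiv O X F with map_add' := freeOnHomEquiv_add O X F }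

/-- precomposition with an isomorphism, as an additive equivalence. -/
def precompAddEquiv {A : Type*} [Category A] [Preadditive A] {X Y : A} (e : X ≅ Y) (Z : A) :
    (Y ⟶ Z) ≃+ (X ⟶ Z) where
  toFun f := e.hom ≫ f
  invFun g := e.inv ≫ g
  left_inv f := by simp
  right_inv g := by simp
  map_add' f g := Preadditive.comp_add _ _ _ _ _ _


instance flipObj_additive' (G : ModSite.Mod O) : ((ModSite.tensorBi O).flip.obj G).Additive :=
  additive_of_preservesFiniteColimits _

/-- `Γ(X, Hom_O(M, N)) ≃+ Hom_{O|X}(M|X, N|X)`. -/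
def sectSheafHomAddEquiv (M N : ModSite.Mod O) [ModSite.HasSheafHom M] (X : C) :
    ModSite.sect ((ModSite.sheafHom M).obj N) X ≃+
      ((ModSite.restr O X).obj M ⟶ (ModSite.restr O X).obj N) :=
  (freeOnHomAddEquiv O X ((ModSite.sheafHom M).obj N)).symm.trans <|
  ((ModSite.sheafHomAdj M).homAddEquiv (ModSite.freeOn O X) N).symm.trans <|
  (precompAddEquiv ((projIsoP O X M).app (ModSite.unit (O.over X))) N).trans <|
  ((ModSite.extZeroAdj O X).homAddEquiv _ N).trans <|
  precompAddEquiv ((tensorBiSymm (O.over X) (ModSite.unit (O.over X)) ≪≫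
    tensorUnitIso (O.over X)).app ((ModSite.restr O X).obj M)).symm _

end

end Groth.Agent.Lib.Helper30.ExtZero
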