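import Mathlib
import Groth.Agent.Lib.Helper30.ModTensorAdj
import Groth.Agent.S9107

/-!
# Flat modules on a ringed site: colimits
-/

set_option autoImplicit false
universe u
open CategoryTheory MonoidalCategory Limits Opposite
open Groth.Agent.Lib.Helper30.ModTensor Groth.Agent.Lib.Helper30.ModTensorAdj

namespace Groth.Agent.Lib.Helper30.ModFlat

variable {C : Type u} [SmallCategory C] {J : GrothendieckTopology C} (O : Sheaf J CommRingCat.{u})

/-- `- ⊗ F` always preserves finite colimits (it is a left adjoint). -/
lemma preservesFiniteColimits_flip_obj (F : ModSite.Mod O) :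
    PreservesFiniteColimits ((ModSite.tensorBi O).flip.obj F) := inferInstance

/-- A colimit of flat modules, of a shape along which colimits are exact, is flat. -/
theorem isFlat_of_isColimit {I : Type u} [SmallCategory I]
    [HasExactColimitsOfShape I (ModSite.Mod O)] (D : I ⥤ ModSite.Mod O)
    (hD : ∀ i, ModSite.IsFlat (D.obj i)) (c : Cocone D) (hc : IsColimit c) :
    ModSite.IsFlat c.pt := by
  constructor
  · let T := (ModSite.tensorBi O).flip.obj c.pt
    let Φ : ModSite.Mod O ⥤ (I ⥤ ModSite.Mod O) :=
      ModSite.tensorBi O ⋙ (Functor.whiskeringLeft I _ _).obj D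
    have hΦ : PreservesFiniteLimits Φ := by
      constructor
      intro K _ _
      have : ∀ i, PreservesLimitsOfShape K (Φ ⋙ (evaluation I (ModSite.Mod O)).obj i) := by
        intro i
        have := (hD i).1
        exact inferInstanceAs (PreservesLimitsOfShape K ((ModSite.tensorBi O).flip.obj (D.obj i)))
      exact preservesLimitsOfShape_of_evaluation Φ K this
    have hcolim : PreservesFiniteLimits (colim : (I ⥤ ModSite.Mod O) ⥤ ModSite.Mod O) :=
      HasExactColimitsOfShape.preservesFiniteLimits
    let e : T ≅ Φ ⋙ colim :=
      NatIso.ofComponents (fun G =>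
        (isColimitOfPreserves ((ModSite.tensorBi O).obj G) hc).coconePointUniqueUpToIso
          (colimit.isColimit (Φ.obj G))) (by
        intro G G' g
        apply (isColimitOfPreserves ((ModSite.tensorBi O).obj G) hc).hom_ext
        intro i
        have h1 : (((ModSite.tensorBi O).obj G).mapCocone c).ι.app i ≫ T.map g =
            ((ModSite.tensorBi O).map g).app (D.obj i) ≫
              (((ModSite.tensorBi O).obj G').mapCocone c).ι.app i :=
          ((ModSite.tensorBi O).map g).naturality (c.ι.app i)
        rw [reassoc_of% h1, IsColimit.comp_coconePointUniqueUpToIso_hom,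
          IsColimit.comp_coconePointUniqueUpToIso_hom_assoc]
        show _ = colimit.ι (Φ.obj G) i ≫ colimMap (Φ.map g)
        rw [ι_colimMap]
        rfl)
    exact preservesFiniteLimits_of_natIso e.symm
  · infer_instance

/-- coproducts are exact in `Mod O`. -/
lemma hasExactColimitsOfShape_discrete (ι : Type u) :
    HasExactColimitsOfShape (Discrete ι) (ModSite.Mod O) := by
  have : HasExactColimitsOfShape (Finset (Discrete ι)) (ModSite.Mod O) :=
    Groth.Agent.S9107.result O (Finset (Discrete ι))
  have : HasFiniteBiproducts (ModSite.Mod O) := Abelian.hasFiniteBiproducts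
  exact hasExactColimitsOfShape_discrete_of_hasExactColimitsOfShape_finset_discrete _ ι

end Groth.Agent.Lib.Helper30.ModFlat
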