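import Mathlib
import Groth.Prelude.Def_ModSite
import Groth.Agent.Lib.Helper30.ExtZeroFlat
import Groth.Agent.Lib.Helper30.ModFlat
import Groth.Agent.S6152

/-!
# Short exact sequences and flat modules on a ringed site
-/

set_option autoImplicit false
universe u
open CategoryTheory Limits Opposite MonoidalCategory

namespace Groth.Agent.Lib.Helper30.FlatSES

section Abstract

variable {A : Type*} [Category A] [Abelian A]

/-- A diagram chase in a `3 × 3` diagram (a fragment of the snake lemma). -/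
lemma mono_of_grid {t11 t12 t13 t21 t22 t23 t31 t32 : A}
    (a1 : t11 ⟶ t21) (a2 : t12 ⟶ t22) (a3 : t13 ⟶ t23)
    (b1 : t21 ⟶ t31) (b2 : t22 ⟶ t32)
    (c1 : t11 ⟶ t12) (c2 : t21 ⟶ t22) (c3 : t31 ⟶ t32)
    (d1 : t12 ⟶ t13) (d2 : t22 ⟶ t23)
    (hd1 : Epi d1) (hcd1 : c1 ≫ d1 = 0)
    (hcd2 : c2 ≫ d2 = 0) (ex2 : (ShortComplex.mk c2 d2 hcd2).Exact)
    (hc3 : Mono c3)
    (hab1 : a1 ≫ b1 = 0) (ex1 : (ShortComplex.mk a1 b1 hab1).Exact)
    (ha2 : Mono a2) (hab2 : a2 ≫ b2 = 0)
    (comm1 : d1 ≫ a3 = a2 ≫ d2) (comm2 : a1 ≫ c2 = c1 ≫ a2) (comm3 : c2 ≫ b2 = b1 ≫ c3) :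
    Mono a3 := by
  rw [Preadditive.mono_iff_cancel_zero]
  intro P x hx
  obtain ⟨A₁, π₁, hπ₁, y, hy⟩ := surjective_up_to_refinements_of_epi d1 x
  have h2 : (y ≫ a2) ≫ d2 = 0 := by
    rw [Category.assoc, ← comm1, ← Category.assoc, ← hy, Category.assoc, hx, comp_zero]
  obtain ⟨A₂, π₂, hπ₂, z, hz⟩ := ex2.exact_up_to_refinements (y ≫ a2) h2
  have h3 : z ≫ b1 = 0 := by
    rw [← cancel_mono c3, zero_comp, Category.assoc, ← comm3, ← Category.assoc]
    have hz' : z ≫ c2 = π₂ ≫ y ≫ a2 := hz.symm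
    rw [hz', Category.assoc, Category.assoc, hab2, comp_zero, comp_zero]
  obtain ⟨A₃, π₃, hπ₃, w, hw⟩ := ex1.exact_up_to_refinements z h3
  have h5 : w ≫ c1 = π₃ ≫ π₂ ≫ y := by
    rw [← cancel_mono a2, Category.assoc, ← comm2, ← Category.assoc]
    have hw' : w ≫ a1 = π₃ ≫ z := hw.symm
    have hz' : z ≫ c2 = π₂ ≫ y ≫ a2 := hz.symm
    rw [hw', Category.assoc, hz']
    simp only [Category.assoc]
  have h6 : π₃ ≫ π₂ ≫ π₁ ≫ x = 0 := by
    rw [hy, ← Category.assoc π₂, ← Category.assoc π₃, ← h5, Category.assoc, hcd1, comp_zero]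
  rw [← cancel_epi π₁, ← cancel_epi π₂, ← cancel_epi π₃, h6]
  simp

end Abstract


section EnoughFlats

open Groth.Agent.Lib.Helper30.ExtZero Groth.Agent.Lib.Helper30.ModFlat

variable {C : Type u} [SmallCategory C] {J : GrothendieckTopology C} (O : Sheaf J CommRingCat.{u})

/-- Every module is a quotient of a flat module (a direct sum of modules `j_{X!} O_X`). -/
theorem exists_flat_epi (G : ModSite.Mod O) :
    ∃ (L : ModSite.Mod O) (_ : ModSite.IsFlat L) (π : L ⟶ G), Epi π := by
  let I : Type u := Σ X : C, (ModSite.freeOn O X ⟶ G)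
  let D : I → ModSite.Mod O := fun i => ModSite.freeOn O i.1
  have hflat : ModSite.IsFlat (∐ D) := by
    have := hasExactColimitsOfShape_discrete O I
    exact isFlat_of_isColimit O (Discrete.functor D) (fun i => isFlat_freeOn O i.as.1)
      (colimit.cocone _) (colimit.isColimit _)
  refine ⟨∐ D, hflat, Sigma.desc (fun i => i.2), ⟨?_⟩⟩
  intro Z u v huv
  have hsep := (Groth.Agent.S6152.result O (Set.univ : Set C) (by
    intro X
    refine ⟨PUnit, fun _ => X, fun _ => 𝟙 X, ?_, fun _ => Set.mem_univ _⟩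
    apply J.superset_covering _ (J.top_mem X)
    intro Y f _
    exact ⟨_, f, 𝟙 X, ⟨PUnit.unit⟩, by simp⟩)).2
  apply hsep
  intro G' hG' h
  obtain ⟨⟨X, _⟩⟩ := hG'
  have := (Sigma.ι D ⟨X, h⟩) ≫= huv
  simpa [D] using this

end EnoughFlats


section Main

open Groth.Agent.Lib.Helper30.ExtZero Groth.Agent.Lib.Helper30.ModFlat
  Groth.Agent.Lib.Helper30.ModTensorAdj

variable {C : Type u} [SmallCategory C] {J : GrothendieckTopology C} (O : Sheaf J CommRingCat.{u})

instance flipObj_additive (G : ModSite.Mod O) : ((ModSite.tensorBi O).flip.obj G).Additive :=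
  additive_of_preservesFiniteColimits _

instance obj_additive (G : ModSite.Mod O) : ((ModSite.tensorBi O).obj G).Additive :=
  additive_of_preservesFiniteColimits _

/-- right exactness of a right exact additive functor, on a short exact sequence. -/
lemma map_exact_epi {A B : Type*} [Category A] [Category B] [Abelian A] [Abelian B]
    (F : A ⥤ B) [F.Additive] [PreservesFiniteColimits F] (S : ShortComplex A)
    (hS : S.ShortExact) : (S.map F).Exact ∧ Epi (F.map S.g) := by
  have h0 : PreservesFiniteColimits F := inferInstance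
  exact (Functor.preservesFiniteColimits_iff_forall_exact_map_and_epi F).mp h0 S hS

/-- If `0 → F'' → F' → F → 0` is exact with `F` flat, then `F'' ⊗ G → F' ⊗ G` is a
monomorphism for every `G`. -/
theorem mono_tensor_of_flat (S : ShortComplex (ModSite.Mod O)) (hS : S.ShortExact)
    (hF : ModSite.IsFlat S.X₃) (G : ModSite.Mod O) :
    Mono (((ModSite.tensorBi O).flip.obj G).map S.f) := by
  obtain ⟨L, hL, π, hπ⟩ := exists_flat_epi O G
  let T : ShortComplex (ModSite.Mod O) := ShortComplex.mk (kernel.ι π) π (kernel.condition π)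
  have hT : T.ShortExact :=
    { exact := ShortComplex.exact_of_f_is_kernel _ (kernelIsKernel π)
      mono_f := inferInstanceAs (Mono (kernel.ι π))
      epi_g := hπ }
  have hSf := hS.mono_f
  have r1 := map_exact_epi ((ModSite.tensorBi O).obj S.X₁) T hT
  have r2 := map_exact_epi ((ModSite.tensorBi O).obj S.X₂) T hT
  have s1 := map_exact_epi ((ModSite.tensorBi O).flip.obj (kernel π)) S hS
  have s2 := map_exact_epi ((ModSite.tensorBi O).flip.obj L) S hS
  have hc3 : Mono (((ModSite.tensorBi O).obj S.X₃).map (kernel.ι π)) := by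
    have := preservesMono_of_isFlat O S.X₃ hF
    have : ((ModSite.tensorBi O).obj S.X₃).PreservesMonomorphisms :=
      Functor.PreservesMonomorphisms.of_iso (tensorBiSymm O S.X₃).symm
    infer_instance
  have ha2 : Mono (((ModSite.tensorBi O).flip.obj L).map S.f) := by
    have := preservesMono_of_isFlat O L hL
    infer_instance
  exact mono_of_grid
    (((ModSite.tensorBi O).flip.obj (kernel π)).map S.f)
    (((ModSite.tensorBi O).flip.obj L).map S.f)
    (((ModSite.tensorBi O).flip.obj G).map S.f)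
    (((ModSite.tensorBi O).flip.obj (kernel π)).map S.g)
    (((ModSite.tensorBi O).flip.obj L).map S.g)
    (((ModSite.tensorBi O).obj S.X₁).map (kernel.ι π))
    (((ModSite.tensorBi O).obj S.X₂).map (kernel.ι π))
    (((ModSite.tensorBi O).obj S.X₃).map (kernel.ι π))
    (((ModSite.tensorBi O).obj S.X₁).map π)
    (((ModSite.tensorBi O).obj S.X₂).map π)
    r1.2 (T.map ((ModSite.tensorBi O).obj S.X₁)).zero (T.map ((ModSite.tensorBi O).obj S.X₂)).zero
    r2.1 hc3 (S.map ((ModSite.tensorBi O).flip.obj (kernel π))).zero s1.1 ha2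
    (S.map ((ModSite.tensorBi O).flip.obj L)).zero
    (((ModSite.tensorBi O).map S.f).naturality π)
    (((ModSite.tensorBi O).map S.f).naturality (kernel.ι π)).symm
    (((ModSite.tensorBi O).map S.g).naturality (kernel.ι π))

end Main

end Groth.Agent.Lib.Helper30.FlatSES
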