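import Mathlib
import Groth.Prelude.Def_ModSite
import Groth.Agent.Lib.Helper30.FlatSES

/-!
# Two-out-of-three for flat modules in a short exact sequence
-/

set_option autoImplicit false
universe u
open CategoryTheory Limits Opposite MonoidalCategory

namespace Groth.Agent.Lib.Helper30.FlatSES

open Groth.Agent.Lib.Helper30.ExtZero Groth.Agent.Lib.Helper30.ModFlat
  Groth.Agent.Lib.Helper30.ModTensorAdj

section General

lemma mono_map_of_natIso {A B : Type*} [Category A] [Category B] {F F' : A ⥤ B} (e : F ≅ F')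
    {X Y : A} (f : X ⟶ Y) (h : Mono (F'.map f)) : Mono (F.map f) := by
  have h1 : F.map f ≫ e.hom.app Y = e.hom.app X ≫ F'.map f := e.hom.naturality f
  have h2 : Mono (F.map f ≫ e.hom.app Y) := by
    rw [h1]
    exact mono_comp _ _
  exact mono_of_mono _ (e.hom.app Y)

end General

variable {C : Type u} [SmallCategory C] {J : GrothendieckTopology C} (O : Sheaf J CommRingCat.{u})

/-- `G ⊗ F'' → G ⊗ F'` is a monomorphism when the cokernel `F` is flat. -/
lemma mono_obj_map_of_flat (S : ShortComplex (ModSite.Mod O)) (hS : S.ShortExact)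
    (hF : ModSite.IsFlat S.X₃) (G : ModSite.Mod O) :
    Mono (((ModSite.tensorBi O).obj G).map S.f) :=
  mono_map_of_natIso (tensorBiSymm O G) S.f (mono_tensor_of_flat O S hS hF G)

/-- In a short exact sequence with flat middle and right terms, the left term is flat. -/
theorem isFlat_X₁ (S : ShortComplex (ModSite.Mod O)) (hS : S.ShortExact)
    (h₁ : ModSite.IsFlat S.X₂) (h₀ : ModSite.IsFlat S.X₃) : ModSite.IsFlat S.X₁ := by
  apply isFlat_of_preservesMono
  constructor
  intro G' G m hm
  have h2 : Mono (((ModSite.tensorBi O).flip.obj S.X₂).map m) := by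
    have := preservesMono_of_isFlat O S.X₂ h₁
    infer_instance
  have h3 := mono_obj_map_of_flat O S hS h₀ G'
  have nat : ((ModSite.tensorBi O).obj G').map S.f ≫ ((ModSite.tensorBi O).map m).app S.X₂ =
      ((ModSite.tensorBi O).map m).app S.X₁ ≫ ((ModSite.tensorBi O).obj G).map S.f :=
    ((ModSite.tensorBi O).map m).naturality S.f
  have h4 : Mono (((ModSite.tensorBi O).map m).app S.X₁ ≫
      ((ModSite.tensorBi O).obj G).map S.f) := by
    rw [← nat]
    exact @mono_comp _ _ _ _ _ _ h3 _ h2
  exact @mono_of_mono _ _ _ _ _ _ (((ModSite.tensorBi O).obj G).map S.f) h4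

/-- In a short exact sequence with flat left and right terms, the middle term is flat. -/
theorem isFlat_X₂ (S : ShortComplex (ModSite.Mod O)) (hS : S.ShortExact)
    (h₂ : ModSite.IsFlat S.X₁) (h₀ : ModSite.IsFlat S.X₃) : ModSite.IsFlat S.X₂ := by
  apply isFlat_of_preservesMono
  constructor
  intro G' G m hm
  let φ : S.map ((ModSite.tensorBi O).obj G') ⟶ S.map ((ModSite.tensorBi O).obj G) :=
    S.mapNatTrans ((ModSite.tensorBi O).map m)
  have e1 := (map_exact_epi ((ModSite.tensorBi O).obj G') S hS).1
  have m1 : Mono (S.map ((ModSite.tensorBi O).obj G')).f := mono_obj_map_of_flat O S hS h₀ G'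
  have m2 : Mono (S.map ((ModSite.tensorBi O).obj G)).f := mono_obj_map_of_flat O S hS h₀ G
  have t1 : Mono φ.τ₁ := by
    have := preservesMono_of_isFlat O S.X₁ h₂
    exact inferInstanceAs (Mono (((ModSite.tensorBi O).flip.obj S.X₁).map m))
  have t3 : Mono φ.τ₃ := by
    have := preservesMono_of_isFlat O S.X₃ h₀
    exact inferInstanceAs (Mono (((ModSite.tensorBi O).flip.obj S.X₃).map m))
  exact ShortComplex.mono_τ₂_of_exact_of_mono φ e1

end Groth.Agent.Lib.Helper30.FlatSES
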