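import Mathlib
import Groth.Prelude.Def_ModSite
import Groth.Agent.Lib.Helper30.FlatTwoOfThree

/-!
# Tensoring a bounded below acyclic chain complex of flat modules

The generic part (adapted from helper32's `RDPlus.lean`, dualised): a right exact functor
preserves acyclicity of bounded below chain complexes whose terms lie in a class closed under
kernels of epimorphisms and on which the functor is exact.
-/

set_option autoImplicit false
universe u v v' u'
open CategoryTheory Limits Opposite

namespace Groth.Agent.Lib.Helper30.AcyclicFlat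

variable {A : Type u} [Category.{v} A] [Abelian A]
    {B : Type u'} [Category.{v'} B] [Abelian B]

section
variable (N : ChainComplex A ℤ)

/-- the canonical map `N_i ⟶ ker (d_j)` -/
noncomputable def pc (i j k : ℤ) : N.X i ⟶ kernel (N.d j k) :=
  kernel.lift _ (N.d i j) (N.d_comp_d i j k)

@[reassoc (attr := simp)]
lemma pc_ι (i j k : ℤ) : pc N i j k ≫ kernel.ι (N.d j k) = N.d i j := kernel.lift_ι _ _ _

@[reassoc (attr := simp)]
lemma ι_pc (i j k : ℤ) : kernel.ι (N.d i j) ≫ pc N i j k = 0 := by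
  rw [← cancel_mono (kernel.ι (N.d j k)), Category.assoc, pc_ι, kernel.condition, zero_comp]

@[reassoc (attr := simp)]
lemma d_pc (i j k l : ℤ) : N.d i j ≫ pc N j k l = 0 := by
  rw [← cancel_mono (kernel.ι (N.d k l)), Category.assoc, pc_ι, N.d_comp_d, zero_comp]

/-- the short complex `ker d_i ⟶ N_i ⟶ ker d_j` -/
noncomputable abbrev sesc (i j k : ℤ) : ShortComplex A :=
  ShortComplex.mk (kernel.ι (N.d i j)) (pc N i j k) (ι_pc N i j k)

lemma sesc_shortExact (i j k : ℤ) (hex : (N.sc' i j k).Exact) : (sesc N i j k).ShortExact := by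
  have hepi : Epi (pc N i j k) := (ShortComplex.exact_iff_epi_kernel_lift _).1 hex
  refine { exact := ?_, mono_f := (inferInstance : Mono (kernel.ι (N.d i j))), epi_g := hepi }
  refine ShortComplex.exact_of_f_is_kernel _ ?_
  have key : ∀ {W : A} (g : W ⟶ N.X i), g ≫ pc N i j k = 0 → g ≫ N.d i j = 0 := by
    intro W g hg
    rw [← pc_ι N i j k, reassoc_of% hg, zero_comp]
  refine KernelFork.IsLimit.ofι _ _ (fun {W} g hg => kernel.lift _ g (key g hg)) ?_ ?_
  · intro W g hg
    exact kernel.lift_ι _ _ _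
  · intro W g hg m hm
    rw [← cancel_mono (kernel.ι (N.d i j))]
    exact hm.trans (kernel.lift_ι _ _ _).symm
end

variable (F : A ⥤ B) [F.Additive] (P : ObjectProperty A)
    (h2 : ∀ S : ShortComplex A, S.ShortExact → P S.X₂ → P S.X₃ → P S.X₁ ∧ (S.map F).ShortExact)

include h2 in
lemma prop_kernel (N : ChainComplex A ℤ) (a : ℤ) (ha : ∀ i, i < a → IsZero (N.X i))
    (hN : N.Acyclic) (hP : ∀ k, P (N.X k)) (hZ : ∀ Z : A, IsZero Z → P Z) (i j : ℤ)
    (hij : j + 1 = i) : P (kernel (N.d i j)) := by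
  subst hij
  have hex (n : ℤ) : (N.sc' (n + 1 + 1) (n + 1) n).Exact :=
    (N.exactAt_iff' (n + 1 + 1) (n + 1) n (by simp) (by simp)).1 (hN (n + 1))
  have main : ∀ j : ℤ, a - 1 - 1 ≤ j → P (kernel (N.d (j + 1) j)) := by
    intro j haj
    induction j, haj using Int.leInduction with
    | base =>
      exact hZ _ (IsZero.of_mono (kernel.ι _) (ha _ (by lia)))
    | succ n hn ih =>
      exact (h2 _ (sesc_shortExact N (n + 1 + 1) (n + 1) n (hex n)) (hP _) ih).1
  by_cases hj : j + 1 < a
  · exact hZ _ (IsZero.of_mono (kernel.ι _) (ha _ hj))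
  · exact main j (by lia)

include h2 in
/-- `F` preserves acyclicity of bounded below acyclic chain complexes with terms in `P`. -/
theorem acyclic_map (N : ChainComplex A ℤ) (a : ℤ) (ha : ∀ i, i < a → IsZero (N.X i))
    (hN : N.Acyclic) (hP : ∀ k, P (N.X k)) (hZ : ∀ Z : A, IsZero Z → P Z) :
    ((F.mapHomologicalComplex (ComplexShape.down ℤ)).obj N).Acyclic := by
  intro j
  have hex (i j k : ℤ) (hij : j + 1 = i) (hjk : k + 1 = j) : (N.sc' i j k).Exact :=
    (N.exactAt_iff' i j k (by simp; lia) (by simp; lia)).1 (hN j)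
  have hses (i j k : ℤ) (hij : j + 1 = i) (hjk : k + 1 = j) : ((sesc N i j k).map F).ShortExact :=
    (h2 _ (sesc_shortExact N i j k (hex i j k hij hjk)) (hP i)
      (prop_kernel F P h2 N a ha hN hP hZ j k hjk)).2
  rw [HomologicalComplex.exactAt_iff' _ (j + 1) j (j - 1) (by simp) (by simp)]
  generalize hi' : j + 1 = i
  generalize hk' : j - 1 = k
  have hk : k + 1 = j := by lia
  generalize hl' : k - 1 = l
  have hl : l + 1 = k := by lia
  generalize hm' : l - 1 = m
  have hm : m + 1 = l := by lia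
  have h1 := hses i j k hi' hk
  have h2' := hses j k l hk hl
  have h3 := hses k l m hl hm
  have hepi : Epi (F.map (pc N i j k)) := h1.epi_g
  have hmono : Mono (F.map (kernel.ι (N.d k l))) := h3.mono_f
  let T : ShortComplex B := ShortComplex.mk (F.map (N.d i j)) (F.map (N.d j k))
    (by rw [← F.map_comp, N.d_comp_d, F.map_zero])
  let T' : ShortComplex B := ShortComplex.mk (F.map (N.d i j)) (F.map (pc N j k l))
    (by rw [← F.map_comp, d_pc, F.map_zero])
  let U : ShortComplex B := (sesc N j k l).map F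
  let φ₁ : T' ⟶ U :=
    { τ₁ := F.map (pc N i j k)
      τ₂ := 𝟙 _
      τ₃ := 𝟙 _
      comm₁₂ := by
        change F.map (pc N i j k) ≫ F.map (kernel.ι (N.d j k)) = F.map (N.d i j) ≫ 𝟙 _
        rw [← F.map_comp, pc_ι, Category.comp_id]
      comm₂₃ := by
        change 𝟙 _ ≫ F.map (pc N j k l) = F.map (pc N j k l) ≫ 𝟙 _
        rw [Category.comp_id, Category.id_comp] }
  let φ₂ : T' ⟶ T :=
    { τ₁ := 𝟙 _
      τ₂ := 𝟙 _
      τ₃ := F.map (kernel.ι (N.d k l))
      comm₁₂ := by
        change 𝟙 _ ≫ F.map (N.d i j) = F.map (N.d i j) ≫ 𝟙 _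
        rw [Category.comp_id, Category.id_comp]
      comm₂₃ := by
        change 𝟙 _ ≫ F.map (N.d j k) = F.map (pc N j k l) ≫ F.map (kernel.ι (N.d k l))
        rw [← F.map_comp, pc_ι, Category.id_comp] }
  have hU : U.Exact := h2'.exact
  have hT' : T'.Exact := by
    have : Epi φ₁.τ₁ := hepi
    have : IsIso φ₁.τ₂ := (inferInstance : IsIso (𝟙 _))
    have : Mono φ₁.τ₃ := (inferInstance : Mono (𝟙 _))
    exact (ShortComplex.exact_iff_of_epi_of_isIso_of_mono φ₁).2 hU
  have hT : T.Exact := by
    have : Epi φ₂.τ₁ := (inferInstance : Epi (𝟙 _))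
    have : IsIso φ₂.τ₂ := (inferInstance : IsIso (𝟙 _))
    have : Mono φ₂.τ₃ := hmono
    exact (ShortComplex.exact_iff_of_epi_of_isIso_of_mono φ₂).1 hT'
  exact hT


section Flat

open Groth.Agent.Lib.Helper30.ExtZero Groth.Agent.Lib.Helper30.FlatSES

variable {C : Type u} [SmallCategory C] {J : GrothendieckTopology C} (O : Sheaf J CommRingCat.{u})

/-- a zero module is flat. -/
lemma isFlat_of_isZero (Z : ModSite.Mod O) (hZ : IsZero Z) : ModSite.IsFlat Z := by
  apply isFlat_of_preservesMono
  constructor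
  intro G' G m hm
  have h0 : IsZero (((ModSite.tensorBi O).flip.obj Z).obj G') :=
    ((ModSite.tensorBi O).obj G').map_isZero hZ
  exact h0.mono _

/-- Tensoring a bounded below acyclic chain complex of flat modules with any module gives an
acyclic complex. -/
theorem acyclic_tensor (M : ChainComplex (ModSite.Mod O) ℤ) (F : ModSite.Mod O)
    (hb : ∃ i₀ : ℤ, ∀ i, i < i₀ → IsZero (M.X i)) (hM : ∀ i, ModSite.IsFlat (M.X i))
    (hac : M.Acyclic) :
    ((((ModSite.tensorBi O).flip.obj F).mapHomologicalComplex (ComplexShape.down ℤ)).obj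
      M).Acyclic := by
  obtain ⟨a, ha⟩ := hb
  refine acyclic_map ((ModSite.tensorBi O).flip.obj F) (fun X => ModSite.IsFlat X) ?_ M a ha hac hM
    (isFlat_of_isZero O)
  intro S hS h2 h3
  refine ⟨isFlat_X₁ O S hS h2 h3, ?_⟩
  have h1 := map_exact_epi ((ModSite.tensorBi O).flip.obj F) S hS
  exact { exact := h1.1, mono_f := mono_tensor_of_flat O S hS h3 F, epi_g := h1.2 }

end Flat

end Groth.Agent.Lib.Helper30.AcyclicFlat
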