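import Mathlib
import Groth.Prelude.Def_ModSite
import Groth.Agent.Lib.Helper30.ExtZeroFlat

/-!
# Equational criterion of flatness on a ringed site (direct implication)

`eqFlat`: if `F` is a flat `O`-module, `A` a matrix of sections of `O` over `U` and `s` a family of
sections of `F` over `U` with `∑ i, A i j • s i = 0` for all `j`, then locally on `U` one can write
`s i = ∑ k, a i k • t k` with `∑ i, a i k * A i j = 0`.
-/

set_option autoImplicit false
universe u
open CategoryTheory Limits Opposite MonoidalCategory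

namespace Groth.Agent.Lib.Helper30.EqFlat

open Groth.Agent.Lib.Helper30.ModTensor Groth.Agent.Lib.Helper30.ModRestr
  Groth.Agent.Lib.Helper30.ModTensorAdj Groth.Agent.Lib.Helper30.ExtZero

noncomputable section

variable {C : Type u} [SmallCategory C] {J : GrothendieckTopology C} (O : Sheaf J CommRingCat.{u})

variable {T : C} (hT : IsTerminal T)

/-- restriction of a section of `O` over the terminal object. -/
def resT (a : O.obj.obj (op T)) (V : C) : O.obj.obj (op V) := (O.obj.map (hT.from V).op).hom a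

lemma resT_map (a : O.obj.obj (op T)) {V W : C} (g : W ⟶ V) :
    (O.obj.map g.op).hom (resT O hT a V) = resT O hT a W := by
  unfold resT
  rw [← CommRingCat.comp_apply, ← Functor.map_comp, ← op_comp, hT.hom_ext (g ≫ hT.from V) (hT.from W)]

/-- the global section of the unit attached to `a`. -/
def gsec (a : O.obj.obj (op T)) : (PresheafOfModules.unit (RS O).obj).sections :=
  PresheafOfModules.sectionsMk (fun V => resT O hT a V.unop) (by
    intro X Y f
    exact resT_map O hT a f.unop)

/-- multiplication by a global section on the structure sheaf. -/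
def mu (a : O.obj.obj (op T)) : ModSite.unit O ⟶ ModSite.unit O :=
  ⟨(PresheafOfModules.unitHomEquiv _).symm (gsec O hT a)⟩

lemma mu_apply (a : O.obj.obj (op T)) (V : C) (x : O.obj.obj (op V)) :
    (mu O hT a).val.app (op V) x = x * resT O hT a V := rfl

section Elementwise

variable {O}

lemma app_comp {M N P : ModSite.Mod O} (f : M ⟶ N) (g : N ⟶ P) (V : C) (x : M.val.obj (op V)) :
    (f ≫ g).val.app (op V) x = g.val.app (op V) (f.val.app (op V) x) := rfl

lemma app_add {M N : ModSite.Mod O} (f g : M ⟶ N) (V : C) (x : M.val.obj (op V)) :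
    (f + g).val.app (op V) x = f.val.app (op V) x + g.val.app (op V) x := rfl

lemma app_zero {M N : ModSite.Mod O} (V : C) (x : M.val.obj (op V)) :
    (0 : M ⟶ N).val.app (op V) x = 0 := rfl

lemma app_id {M : ModSite.Mod O} (V : C) (x : M.val.obj (op V)) :
    (𝟙 M : M ⟶ M).val.app (op V) x = x := rfl

lemma app_sum {M N : ModSite.Mod O} {ι : Type} (s : Finset ι) (f : ι → (M ⟶ N)) (V : C)
    (x : M.val.obj (op V)) :
    (∑ i ∈ s, f i).val.app (op V) x = ∑ i ∈ s, (f i).val.app (op V) x := by
  classical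
  induction s using Finset.induction_on with
  | empty => simp only [Finset.sum_empty]; rfl
  | insert a s ha ih =>
    rw [Finset.sum_insert ha, Finset.sum_insert ha, app_add, ih]

lemma app_map {M N : ModSite.Mod O} (f : M ⟶ N) {U V : C} (g : V ⟶ U) (x : M.val.obj (op U)) :
    f.val.app (op V) (M.val.map g.op x) = N.val.map g.op (f.val.app (op U) x) :=
  PresheafOfModules.naturality_apply f.val g.op x

lemma app_smul {M N : ModSite.Mod O} (f : M ⟶ N) (V : C) (a : O.obj.obj (op V))
    (x : M.val.obj (op V)) :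
    f.val.app (op V) (a • x) = a • f.val.app (op V) x :=
  (f.val.app (op V)).hom.map_smul a x

end Elementwise

instance hasFiniteBiproducts_mod : HasFiniteBiproducts (ModSite.Mod O) :=
  HasFiniteBiproducts.of_hasFiniteProducts

/-- `O^n`. -/
abbrev En (n : ℕ) : ModSite.Mod O := ⨁ (fun _ : Fin n => ModSite.unit O)

/-- the map `O^n ⟶ O^m` given by a matrix of sections over the terminal object. -/
def alpha {n m : ℕ} (A : Fin n → Fin m → O.obj.obj (op T)) : En O n ⟶ En O m :=
  biproduct.matrix (fun i j => mu O hT (A i j))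

lemma alpha_pi {n m : ℕ} (A : Fin n → Fin m → O.obj.obj (op T)) (j : Fin m) :
    alpha O hT A ≫ biproduct.π (fun _ : Fin m => ModSite.unit O) j =
      ∑ i, biproduct.π (fun _ : Fin n => ModSite.unit O) i ≫ mu O hT (A i j) := by
  unfold alpha
  rw [biproduct.matrix_π, biproduct.desc_eq]

lemma io_alpha {n m : ℕ} (A : Fin n → Fin m → O.obj.obj (op T)) (i : Fin n) :
    biproduct.ι (fun _ : Fin n => ModSite.unit O) i ≫ alpha O hT A =
      ∑ j, mu O hT (A i j) ≫ biproduct.ι (fun _ : Fin m => ModSite.unit O) j := by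
  unfold alpha
  rw [biproduct.ι_matrix, biproduct.lift_eq]

lemma pi_alpha_apply {n m : ℕ} (A : Fin n → Fin m → O.obj.obj (op T)) (j : Fin m) (V : C)
    (x : (En O n).val.obj (op V)) :
    (biproduct.π (fun _ : Fin m => ModSite.unit O) j).val.app (op V)
        ((alpha O hT A).val.app (op V) x) =
      ∑ i, (show O.obj.obj (op V) from
        (biproduct.π (fun _ : Fin n => ModSite.unit O) i).val.app (op V) x) *
        resT O hT (A i j) V := by
  rw [← app_comp, alpha_pi, app_sum]
  rfl

section Algebra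

open TensorProduct

lemma exists_fin_sum {R M N : Type u} [CommRing R] [AddCommGroup M] [AddCommGroup N]
    [Module R M] [Module R N] (y : M ⊗[R] N) :
    ∃ (l : ℕ) (κ : Fin l → M) (t : Fin l → N), y = ∑ k, κ k ⊗ₜ[R] t k := by
  induction y using TensorProduct.induction_on with
  | zero => exact ⟨0, Fin.elim0, Fin.elim0, by simp⟩
  | tmul m n => exact ⟨1, fun _ => m, fun _ => n, by simp⟩
  | add y y' ih ih' =>
    obtain ⟨l, κ, t, h⟩ := ih
    obtain ⟨l', κ', t', h'⟩ := ih'
    refine ⟨l + l', Fin.append κ κ', Fin.append t t', ?_⟩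
    rw [Fin.sum_univ_add]
    simp only [Fin.append_left, Fin.append_right]
    rw [← h, ← h']

end Algebra

section Tensor

variable (F : ModSite.Mod O)

/-- `- ⊗ F`. -/
abbrev tF : ModSite.Mod O ⥤ ModSite.Mod O := (ModSite.tensorBi O).flip.obj F

/-- the class of an element of the presheaf tensor product in the sheaf tensor product. -/
def cl (M : ModSite.Mod O) (V : C)
    (y : TensorProduct (O.obj.obj (op V)) (M.val.obj (op V)) (F.val.obj (op V))) :
    ((tF O F).obj M).val.obj (op V) :=
  (shfUnit (valObj O M ⊗ valObj O F)).app (op V) y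

lemma cl_add (M : ModSite.Mod O) (V : C)
    (y y' : TensorProduct (O.obj.obj (op V)) (M.val.obj (op V)) (F.val.obj (op V))) :
    cl O F M V (y + y') = cl O F M V y + cl O F M V y' :=
  ((shfUnit (valObj O M ⊗ valObj O F)).app (op V)).hom.map_add y y'

lemma cl_zero (M : ModSite.Mod O) (V : C) : cl O F M V 0 = 0 :=
  ((shfUnit (valObj O M ⊗ valObj O F)).app (op V)).hom.map_zero

lemma cl_sum (M : ModSite.Mod O) (V : C) {ι : Type} (s : Finset ι)
    (y : ι → TensorProduct (O.obj.obj (op V)) (M.val.obj (op V)) (F.val.obj (op V))) :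
    cl O F M V (∑ i ∈ s, y i) = ∑ i ∈ s, cl O F M V (y i) :=
  map_sum ((shfUnit (valObj O M ⊗ valObj O F)).app (op V)).hom y s

lemma cl_map {M M' : ModSite.Mod O} (f : M ⟶ M') (V : C)
    (y : TensorProduct (O.obj.obj (op V)) (M.val.obj (op V)) (F.val.obj (op V))) :
    ((tF O F).map f).val.app (op V) (cl O F M V y) =
      cl O F M' V ((valHom O f ▷ valObj O F).app (op V) y) := by
  have h := (PresheafOfModules.sheafificationAdjunction.{u} (𝟙 (RS O).obj)).unit.naturality
    (valHom O f ▷ valObj O F)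
  exact (congrArg (fun φ => (PresheafOfModules.Hom.app φ (op V)) y) h).symm

lemma cl_restrict (M : ModSite.Mod O) {U V : C} (g : V ⟶ U)
    (y : TensorProduct (O.obj.obj (op U)) (M.val.obj (op U)) (F.val.obj (op U))) :
    ((tF O F).obj M).val.map g.op (cl O F M U y) =
      cl O F M V ((valObj O M ⊗ valObj O F).map g.op y) :=
  (PresheafOfModules.naturality_apply (shfUnit (valObj O M ⊗ valObj O F)) g.op y).symm

/-- the left unitor `O ⊗ F ⟶ F`. -/
def lam : (tF O F).obj (ModSite.unit O) ⟶ F :=
  (shf O).map (λ_ (valObj O F)).hom ≫ shfCounit O F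

lemma lam_cl (V : C) (a : O.obj.obj (op V)) (t : F.val.obj (op V)) :
    (lam O F).val.app (op V) (cl O F (ModSite.unit O) V (a ⊗ₜ[O.obj.obj (op V)] t)) = a • t := by
  have h := (PresheafOfModules.sheafificationAdjunction.{u} (𝟙 (RS O).obj)).unit.naturality
    (λ_ (valObj O F)).hom
  have h2 := (PresheafOfModules.sheafificationAdjunction.{u}
    (𝟙 (RS O).obj)).right_triangle_components F
  have e1 : ∀ y : TensorProduct (O.obj.obj (op V)) ((ModSite.unit O).val.obj (op V))
      (F.val.obj (op V)), ((shf O).map (λ_ (valObj O F)).hom).val.app (op V)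
      ((shfUnit (valObj O (ModSite.unit O) ⊗ valObj O F)).app (op V) y) =
      (shfUnit (valObj O F)).app (op V) ((λ_ (valObj O F)).hom.app (op V) y) := fun y =>
    (congrArg (fun φ => (PresheafOfModules.Hom.app φ (op V)) y) h).symm
  have e2 : ∀ w : F.val.obj (op V),
      (shfCounit O F).val.app (op V) ((shfUnit (valObj O F)).app (op V) w) = w := fun w =>
    congrArg (fun φ => (PresheafOfModules.Hom.app φ (op V)) w) h2
  have e3 : (lam O F).val.app (op V) (cl O F (ModSite.unit O) V (a ⊗ₜ[O.obj.obj (op V)] t)) =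
      (shfCounit O F).val.app (op V) (((shf O).map (λ_ (valObj O F)).hom).val.app (op V)
        ((shfUnit (valObj O (ModSite.unit O) ⊗ valObj O F)).app (op V)
          (a ⊗ₜ[O.obj.obj (op V)] t))) := rfl
  refine e3.trans (((congrArg _ (e1 _)).trans (e2 _)).trans ?_)
  rfl

instance tF_additive : (tF O F).Additive := additive_of_preservesFiniteColimits _

instance evaluation_additive (V : C) : (SheafOfModules.evaluation (RS O) (op V)).Additive := by
  unfold SheafOfModules.evaluation
  infer_instance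

/-- sections of the kernel of `α ⊗ F` lift to `ker α ⊗ F` when `F` is flat. -/
lemma exists_lift_of_flat (hF : ModSite.IsFlat F) {M M' : ModSite.Mod O} (α : M ⟶ M') (V : C)
    (z : ((tF O F).obj M).val.obj (op V)) (hz : ((tF O F).map α).val.app (op V) z = 0) :
    ∃ ξ : ((tF O F).obj (kernel α)).val.obj (op V),
      ((tF O F).map (kernel.ι α)).val.app (op V) ξ = z := by
  have := hF.1
  let H := tF O F ⋙ SheafOfModules.evaluation (RS O) (op V)
  have hlim : IsLimit ((KernelFork.ofι (kernel.ι α) (kernel.condition α)).map H) :=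
    KernelFork.mapIsLimit _ (kernelIsKernel α) H
  let S : ShortComplex (ModuleCat.{u} ((RS O).obj.obj (op V))) :=
    ShortComplex.mk (H.map (kernel.ι α)) (H.map α)
      (by rw [← H.map_comp, kernel.condition, H.map_zero])
  have hS : S.Exact := ShortComplex.exact_of_f_is_kernel S hlim
  exact (ShortComplex.moduleCat_exact_iff S).mp hS z hz

end Tensor

section Main

open TensorProduct

variable (F : ModSite.Mod O)

/-- the `i`-th basis vector of `O^n` over `V`. -/
def ei (n : ℕ) (i : Fin n) (V : C) : (En O n).val.obj (op V) :=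
  (biproduct.ι (fun _ : Fin n => ModSite.unit O) i).val.app (op V) (1 : O.obj.obj (op V))

lemma pi_ei (n : ℕ) (i i' : Fin n) (V : C) :
    (show O.obj.obj (op V) from (biproduct.π (fun _ : Fin n => ModSite.unit O) i).val.app (op V)
      (ei O n i' V)) = if i' = i then 1 else 0 := by
  unfold ei
  rw [← app_comp, biproduct.ι_π]
  split_ifs with h
  · subst h; rfl
  · rfl

lemma resT_self (a : O.obj.obj (op T)) : resT O hT a T = a := by
  unfold resT
  rw [hT.hom_ext (hT.from T) (𝟙 T), op_id, O.obj.map_id]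
  rfl

lemma alpha_ei {n m : ℕ} (A : Fin n → Fin m → O.obj.obj (op T)) (i : Fin n) :
    (alpha O hT A).val.app (op T) (ei O n i T) = ∑ j, A i j • ei O m j T := by
  unfold ei
  rw [← app_comp, io_alpha, app_sum]
  refine Finset.sum_congr rfl (fun j _ => ?_)
  rw [app_comp, ← app_smul]
  congr 1
  rw [mu_apply, resT_self]
  show (1 : O.obj.obj (op T)) * A i j = A i j * 1
  rw [one_mul, mul_one]

/-- the element `∑ eᵢ ⊗ sᵢ` of the presheaf tensor product. -/
def y0 {n : ℕ} (V : C) (s : Fin n → F.val.obj (op V)) :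
    TensorProduct (O.obj.obj (op V)) ((En O n).val.obj (op V)) (F.val.obj (op V)) :=
  ∑ i, ei O n i V ⊗ₜ[O.obj.obj (op V)] s i

lemma whisker_sum {M M' : ModSite.Mod O} (f : M ⟶ M') (V : C) {l : ℕ}
    (κ : Fin l → M.val.obj (op V)) (t : Fin l → F.val.obj (op V)) :
    (valHom O f ▷ valObj O F).app (op V) (∑ k, κ k ⊗ₜ[O.obj.obj (op V)] t k) =
      ∑ k, (f.val.app (op V) (κ k)) ⊗ₜ[O.obj.obj (op V)] t k := by
  rw [map_sum]
  rfl

lemma alpha_y0 {n m : ℕ} (A : Fin n → Fin m → O.obj.obj (op T)) (s : Fin n → F.val.obj (op T))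
    (hrel : ∀ j, ∑ i, A i j • s i = 0) :
    (valHom O (alpha O hT A) ▷ valObj O F).app (op T) (y0 O F T s) = 0 := by
  refine (whisker_sum O F (alpha O hT A) T (fun i => ei O n i T) s).trans ?_
  have h1 : ∀ i, (alpha O hT A).val.app (op T) (ei O n i T) ⊗ₜ[O.obj.obj (op T)] s i =
      ∑ j, ei O m j T ⊗ₜ[O.obj.obj (op T)] (A i j • s i) := by
    intro i
    rw [alpha_ei, TensorProduct.sum_tmul]
    refine Finset.sum_congr rfl (fun j _ => ?_)
    rw [TensorProduct.smul_tmul]
  rw [Finset.sum_congr rfl (fun i _ => h1 i), Finset.sum_comm]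
  refine Finset.sum_eq_zero (fun j _ => ?_)
  rw [← TensorProduct.tmul_sum, hrel j, TensorProduct.tmul_zero]
  rfl

/-- the `i`-th coordinate `O^n ⊗ F ⟶ F`. -/
def coord (n : ℕ) (i : Fin n) : (tF O F).obj (En O n) ⟶ F :=
  (tF O F).map (biproduct.π (fun _ : Fin n => ModSite.unit O) i) ≫ lam O F

lemma coord_cl (n : ℕ) (i : Fin n) (V : C) {l : ℕ} (κ : Fin l → (En O n).val.obj (op V))
    (t : Fin l → F.val.obj (op V)) :
    (coord O F n i).val.app (op V) (cl O F (En O n) V (∑ k, κ k ⊗ₜ[O.obj.obj (op V)] t k)) =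
      ∑ k, (show O.obj.obj (op V) from
        (biproduct.π (fun _ : Fin n => ModSite.unit O) i).val.app (op V) (κ k)) • t k := by
  unfold coord
  rw [app_comp, cl_map]
  refine (congrArg (fun w => (lam O F).val.app (op V) (cl O F (ModSite.unit O) V w))
    (whisker_sum O F (biproduct.π (fun _ : Fin n => ModSite.unit O) i) V κ t)).trans ?_
  show (lam O F).val.app (op V) (cl O F (ModSite.unit O) V _) = _
  rw [cl_sum, map_sum]
  refine Finset.sum_congr rfl (fun k _ => ?_)
  exact lam_cl O F V _ _

lemma coord_cl_y0 (n : ℕ) (i : Fin n) (V : C) (s : Fin n → F.val.obj (op V)) :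
    (coord O F n i).val.app (op V) (cl O F (En O n) V (y0 O F V s)) = s i := by
  unfold y0
  refine (coord_cl O F n i V (fun i' => ei O n i' V) s).trans ?_
  have h : ∀ i', (show O.obj.obj (op V) from
      (biproduct.π (fun _ : Fin n => ModSite.unit O) i).val.app (op V) (ei O n i' V)) • s i' =
      if i' = i then s i' else 0 := by
    intro i'
    rw [pi_ei]
    split_ifs with h
    · exact one_smul _ _
    · exact zero_smul _ _
  rw [Finset.sum_congr rfl (fun i' _ => h i')]
  simp

/-- **Equational criterion of flatness**, on a site with a terminal object `T`, for a matrix of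
relations with coefficients in `O(T)`. -/
theorem eqFlat_terminal (hF : ModSite.IsFlat F) {n m : ℕ}
    (A : Fin n → Fin m → O.obj.obj (op T)) (s : Fin n → F.val.obj (op T))
    (hrel : ∀ j, ∑ i, A i j • s i = 0) :
    ∃ S ∈ J T, ∀ ⦃V : C⦄ (g : V ⟶ T), S g →
      ∃ (l : ℕ) (t : Fin l → F.val.obj (op V)) (a : Fin n → Fin l → O.obj.obj (op V)),
        (∀ i, F.val.map g.op (s i) = ∑ k, a i k • t k) ∧
        (∀ j k, ∑ i, a i k * resT O hT (A i j) V = 0) := by
  -- the section `z = [∑ eᵢ ⊗ sᵢ]` of `O^n ⊗ F` is killed by `α ⊗ F`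
  have hz : ((tF O F).map (alpha O hT A)).val.app (op T) (cl O F (En O n) T (y0 O F T s)) = 0 := by
    rw [cl_map]
    refine (congrArg (cl O F (En O m) T) (alpha_y0 O hT F A s hrel)).trans ?_
    exact cl_zero O F _ T
  obtain ⟨ξ, hξ⟩ := exists_lift_of_flat O F hF (alpha O hT A) T _ hz
  -- locally `ξ` comes from the presheaf tensor product
  let P : PM O := valObj O (kernel (alpha O hT A)) ⊗ valObj O F
  have hS := (unit_isLocallyBijective (RS O) P).2.imageSieve_mem ξ
  refine ⟨_, hS, ?_⟩
  intro V g hg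
  obtain ⟨y, hy⟩ := hg
  obtain ⟨l, κ, t, hκ⟩ := exists_fin_sum y
  refine ⟨l, t, fun i k => (biproduct.π (fun _ : Fin n => ModSite.unit O) i).val.app (op V)
    ((kernel.ι (alpha O hT A)).val.app (op V) (κ k)), ?_, ?_⟩
  · intro i
    have hy' : cl O F (kernel (alpha O hT A)) V y =
        ((tF O F).obj (kernel (alpha O hT A))).val.map g.op ξ := hy
    have e1 : F.val.map g.op (s i) = F.val.map g.op
        ((coord O F n i).val.app (op T) (cl O F (En O n) T (y0 O F T s))) := by
      rw [coord_cl_y0]
    have e2 : ((tF O F).obj (En O n)).val.map g.op (cl O F (En O n) T (y0 O F T s)) =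
        cl O F (En O n) V (∑ k, ((kernel.ι (alpha O hT A)).val.app (op V) (κ k))
          ⊗ₜ[O.obj.obj (op V)] t k) := by
      rw [← hξ, ← app_map, ← hy', cl_map, hκ]
      exact congrArg (cl O F (En O n) V) (whisker_sum O F (kernel.ι (alpha O hT A)) V κ t)
    rw [e1, ← app_map, e2]
    exact coord_cl O F n i V _ t
  · intro j k
    refine (pi_alpha_apply O hT A j V _).symm.trans ?_
    rw [← app_comp (kernel.ι (alpha O hT A)) (alpha O hT A), kernel.condition, app_zero]
    exact map_zero _

end Main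

section General

variable (F : ModSite.Mod O)

/-- **Equational criterion of flatness** (direct implication) on a ringed site, for a matrix of
relations. -/
theorem eqFlat (hF : ModSite.IsFlat F) (U : C) {n m : ℕ}
    (A : Fin n → Fin m → O.obj.obj (op U)) (s : Fin n → F.val.obj (op U))
    (hrel : ∀ j, ∑ i, A i j • s i = 0) :
    ∃ S ∈ J U, ∀ ⦃V : C⦄ (g : V ⟶ U), S g →
      ∃ (l : ℕ) (t : Fin l → F.val.obj (op V)) (a : Fin n → Fin l → O.obj.obj (op V)),
        (∀ i, F.val.map g.op (s i) = ∑ k, a i k • t k) ∧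
        (∀ j k, ∑ i, a i k * (O.obj.map g.op).hom (A i j) = 0) := by
  have hF' := isFlat_restr O F hF U
  have hT : IsTerminal (Over.mk (𝟙 U)) := Over.mkIdTerminal
  obtain ⟨S, hS, h⟩ := eqFlat_terminal (O.over U) hT ((ModSite.restr O U).obj F) hF' A s hrel
  refine ⟨Sieve.overEquiv _ S, (GrothendieckTopology.mem_over_iff _ _).mp hS, ?_⟩
  intro V g hg
  rw [Sieve.overEquiv_iff] at hg
  obtain ⟨l, t, a, h1, h2⟩ := h _ hg
  refine ⟨l, t, a, h1, ?_⟩
  intro j k
  have e : ∀ i, resT (O.over U) hT (A i j) (Over.mk (g ≫ (Over.mk (𝟙 U)).hom)) =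
      (O.obj.map g.op).hom (A i j) := by
    intro i
    unfold resT
    rw [hT.hom_ext (hT.from (Over.mk (g ≫ (Over.mk (𝟙 U)).hom)))
      (Over.homMk g : Over.mk (g ≫ (Over.mk (𝟙 U)).hom) ⟶ Over.mk (𝟙 U))]
    rfl
  have := h2 j k
  simp only [e] at this
  exact this

end General

end

end Groth.Agent.Lib.Helper30.EqFlat
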