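import Mathlib
import Groth.Agent.Lib.Helper32.DCoprod
import Groth.Prelude.Def_CohDer
import Groth.Prelude.Def_DerLim

/-!
# Decomposition property of compact objects, universe-flexible (helper30)

`DecompAt K J`: every morphism from `K` to a coproduct of a `J`-indexed family is a finite sum of
morphisms through the summands.  Transfer along equivalences of index types, derivation from the
Prelude's `homSumToHomCoprod`, the consequences for homotopy colimits (adapted from helper83's
`Brown.lean`, which assumes `HasCoproducts.{v}`), and the interaction with the chain-level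
coproducts of helper32's `DCoprod`.
-/

set_option autoImplicit false
universe w t t' v u
open CategoryTheory CategoryTheory.Limits

namespace Groth.Agent.Lib.Helper30.CptDecomp

section General

variable {D : Type u} [Category.{v} D] [Preadditive D]

/-- Decomposition property: every morphism from `K` to the point of a colimit cofan over `J` is a
finite sum of morphisms through the summands. -/
def DecompAt (K : D) (J : Type t) : Prop :=
  ∀ (E : J → D) (c : Cofan E) (_ : IsColimit c) (x : K ⟶ c.pt),
    ∃ (F : Finset J) (y : ∀ j, K ⟶ E j), x = ∑ j ∈ F, y j ≫ c.inj j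

lemma DecompAt.of_iso {K K' : D} (e : K ≅ K') {J : Type t} (h : DecompAt K J) : DecompAt K' J := by
  intro E c hc x
  obtain ⟨F, y, hy⟩ := h E c hc (e.hom ≫ x)
  refine ⟨F, fun j => e.inv ≫ y j, ?_⟩
  have : x = e.inv ≫ e.hom ≫ x := by rw [Iso.inv_hom_id_assoc]
  rw [this, hy, Preadditive.comp_sum]
  exact Finset.sum_congr rfl (fun j _ => (Category.assoc _ _ _).symm)

lemma DecompAt.of_equiv {K : D} {J : Type t} {J' : Type t'} (e : J ≃ J') (h : DecompAt K J) :
    DecompAt K J' := by
  classical
  intro E c hc x
  let c' : Cofan (fun j : J => E (e j)) := Cofan.mk c.pt (fun j => c.inj (e j))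
  have key : ∀ (j₁ j₂ : J') (hj : j₁ = j₂), eqToHom (congrArg E hj) ≫ c.inj j₂ = c.inj j₁ := by
    rintro _ _ rfl; simp
  have hc' : IsColimit c' := by
    refine Cofan.IsColimit.mk c'
      (fun s => Cofan.IsColimit.desc hc (fun j' =>
        eqToHom (congrArg E (e.apply_symm_apply j').symm) ≫ s.inj (e.symm j')))
      (fun s j => ?_) (fun s m hm => ?_)
    · change c.inj (e j) ≫ _ = _
      rw [Cofan.IsColimit.fac]
      have key2 : ∀ (j₁ j₂ : J) (hj : j₁ = j₂),
          eqToHom (congrArg (fun j => E (e j)) hj) ≫ s.inj j₂ = s.inj j₁ := by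
        rintro _ _ rfl; simp
      exact key2 _ _ (e.symm_apply_apply j).symm
    · apply Cofan.IsColimit.hom_ext hc
      intro j'
      rw [Cofan.IsColimit.fac, ← key _ _ (e.apply_symm_apply j').symm, Category.assoc]
      congr 1
      exact hm (e.symm j')
  obtain ⟨F, y, hy⟩ := h _ c' hc' x
  refine ⟨F.map e.toEmbedding,
    fun j' => y (e.symm j') ≫ eqToHom (congrArg E (e.apply_symm_apply j')), ?_⟩
  rw [hy, Finset.sum_map]
  refine Finset.sum_congr rfl (fun j _ => ?_)
  change y j ≫ c.inj (e j) = _
  have key3 : ∀ (j₁ j₂ : J) (hj : j₁ = j₂),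
      y j₁ ≫ eqToHom (congrArg (fun j => E (e j)) hj) = y j₂ := by
    rintro _ _ rfl; simp
  simp only [Equiv.coe_toEmbedding, Category.assoc]
  rw [key _ _ (e.apply_symm_apply (e j))]
  have := key3 _ _ (e.symm_apply_apply j)
  rw [← this, Category.assoc]
  congr 1
  exact key _ _ (congrArg e (e.symm_apply_apply j))

open Classical in
/-- Explicit formula for `homSumToHomCoprod` (after helper83, without `HasCoproducts`). -/
lemma homSum_apply (K : D) {ι : Type v} (X : ι → D) [HasCoproduct X]
    (s : DirectSum ι (fun i => K ⟶ X i)) :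
    CohDer.homSumToHomCoprod K X s = ∑ i ∈ DFinsupp.support s, s i ≫ Sigma.ι X i := by
  conv_lhs => rw [← DirectSum.sum_support_of s]
  rw [map_sum]
  refine Finset.sum_congr rfl (fun i _ => ?_)
  unfold CohDer.homSumToHomCoprod
  rw [DirectSum.toAddMonoid_of]
  rfl

open Classical in
lemma homSum_of (K : D) {ι : Type v} (X : ι → D) [HasCoproduct X] (i : ι) (y : K ⟶ X i) :
    CohDer.homSumToHomCoprod K X (DirectSum.of _ i y) = y ≫ Sigma.ι X i := by
  unfold CohDer.homSumToHomCoprod
  rw [DirectSum.toAddMonoid_of]
  rfl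

/-- `homSumToHomCoprod` is always injective. -/
lemma homSum_injective (K : D) {ι : Type v} (X : ι → D) [HasCoproduct X] :
    Function.Injective (CohDer.homSumToHomCoprod K X) := by
  classical
  rw [injective_iff_map_eq_zero]
  intro s hs
  rw [homSum_apply] at hs
  ext j
  by_cases hj : j ∈ DFinsupp.support s
  · let π : ∐ X ⟶ X j := Sigma.desc (fun i => if h : i = j then eqToHom (congrArg X h) else 0)
    have := congrArg (fun z => z ≫ π) hs
    simp only [Preadditive.sum_comp, Category.assoc, zero_comp] at this
    rw [Finset.sum_eq_single j] at this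
    · simpa [π] using this
    · intro i _ hij
      simp [π, dif_neg hij]
    · intro h; exact absurd hj h
  · rw [DFinsupp.notMem_support_iff] at hj
    rw [hj]; rfl

lemma decompAt_of_surjective (K : D) (J : Type v)
    (h : ∀ (E : J → D) [HasCoproduct E], Function.Surjective (CohDer.homSumToHomCoprod K E)) :
    DecompAt K J := by
  classical
  intro E c hc x
  have : HasCoproduct E := ⟨⟨⟨c, hc⟩⟩⟩
  let iso : ∐ E ≅ c.pt := colimit.isoColimitCocone ⟨c, hc⟩
  have hiso : ∀ j, Sigma.ι E j ≫ iso.hom = c.inj j := fun j =>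
    colimit.isoColimitCocone_ι_hom ⟨c, hc⟩ ⟨j⟩
  obtain ⟨s, hs⟩ := h E (x ≫ iso.inv)
  refine ⟨DFinsupp.support s, fun j => s j, ?_⟩
  have hx : x = (x ≫ iso.inv) ≫ iso.hom := by
    rw [Category.assoc, Iso.inv_hom_id, Category.comp_id]
  rw [hx, ← hs, homSum_apply, Preadditive.sum_comp]
  refine Finset.sum_congr rfl (fun j _ => ?_)
  rw [Category.assoc, hiso]

/-- Conversely, the decomposition property gives surjectivity of `homSumToHomCoprod`. -/
lemma surjective_of_decompAt (K : D) {J : Type v} (h : DecompAt K J) (E : J → D) [HasCoproduct E] :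
    Function.Surjective (CohDer.homSumToHomCoprod K E) := by
  classical
  intro x
  obtain ⟨F, y, hy⟩ := h E (Cofan.mk (∐ E) (Sigma.ι E)) (coproductIsCoproduct E) x
  refine ⟨∑ j ∈ F, DirectSum.of _ j (y j), ?_⟩
  rw [map_sum, hy]
  refine Finset.sum_congr rfl (fun j _ => ?_)
  rw [homSum_of]
  rfl

end General

end Groth.Agent.Lib.Helper30.CptDecomp
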