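import Mathlib
import Groth.Agent.Lib.Helper30.CptDecomp

/-!
# Morphisms from objects with the decomposition property to homotopy colimits (helper30)

Adapted from helper83's `Brown.lean` (`isHocolim_factor`), replacing `CohDer.IsCompactObject`
(which needs `HasCoproducts.{v}`) by `DecompAt C ℕ`.
-/

set_option autoImplicit false
set_option linter.unusedSectionVars false
universe w t t' v u
open CategoryTheory CategoryTheory.Limits CategoryTheory.Pretriangulated

namespace Groth.Agent.Lib.Helper30.CptDecomp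

section NatCofan

variable {D : Type u} [Category.{v} D] [Preadditive D] {J : Type t}
  {E : J → D} (c : Cofan E) (hc : IsColimit c)

open Classical in
/-- The projection from the point of a colimit cofan to a summand. -/
noncomputable def proj (m : J) : c.pt ⟶ E m :=
  Cofan.IsColimit.desc hc (fun j => if h : j = m then eqToHom (congrArg E h) else 0)

lemma inj_proj_self (m : J) : c.inj m ≫ proj c hc m = 𝟙 _ := by
  unfold proj
  rw [Cofan.IsColimit.fac, dif_pos rfl, eqToHom_refl]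

lemma inj_proj_ne {j m : J} (h : j ≠ m) : c.inj j ≫ proj c hc m = 0 := by
  unfold proj
  rw [Cofan.IsColimit.fac, dif_neg h]

/-- In a decomposition, the components are determined by the projections. -/
lemma eq_sum_proj {C : D} (hC : DecompAt C J) (x : C ⟶ c.pt) :
    ∃ F : Finset J, x = ∑ j ∈ F, (x ≫ proj c hc j) ≫ c.inj j := by
  classical
  obtain ⟨F, y, hy⟩ := hC E c hc x
  refine ⟨F, ?_⟩
  have hym : ∀ m ∈ F, x ≫ proj c hc m = y m := by
    intro m hm
    rw [hy, Preadditive.sum_comp, Finset.sum_eq_single m]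
    · rw [Category.assoc, inj_proj_self, Category.comp_id]
    · intro j _ hjm
      rw [Category.assoc, inj_proj_ne c hc hjm, comp_zero]
    · intro h; exact absurd hm h
  conv_lhs => rw [hy]
  exact Finset.sum_congr rfl (fun j hj => by rw [hym j hj])

lemma eq_zero_of_proj {C : D} (hC : DecompAt C J) (x : C ⟶ c.pt)
    (hx : ∀ m, x ≫ proj c hc m = 0) : x = 0 := by
  obtain ⟨F, hF⟩ := eq_sum_proj c hc hC x
  rw [hF]
  exact Finset.sum_eq_zero (fun j _ => by rw [hx j, zero_comp])

end NatCofan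

section Shift

variable {D : Type u} [Category.{v} D] [Preadditive D]
  {E : ℕ → D} (c : Cofan E)

/-- A morphism from an object with the decomposition property to a countable coproduct killed by
`1 - shift` is zero. -/
lemma eq_zero_of_comp_one_sub (hc : IsColimit c) (f : ∀ n, E n ⟶ E (n + 1)) (s : c.pt ⟶ c.pt)
    (hs : ∀ n, c.inj n ≫ s = f n ≫ c.inj (n + 1)) {C : D} (hC : DecompAt C ℕ)
    (u : C ⟶ c.pt) (hu : u ≫ (𝟙 c.pt - s) = 0) : u = 0 := by
  have hu' : u = u ≫ s := by
    rw [Preadditive.comp_sub, Category.comp_id] at hu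
    exact sub_eq_zero.mp hu
  have h0 : s ≫ proj c hc 0 = 0 := by
    apply Cofan.IsColimit.hom_ext hc
    intro j
    rw [← Category.assoc, hs, Category.assoc, inj_proj_ne c hc (Nat.succ_ne_zero j), comp_zero,
      comp_zero]
  have hsucc : ∀ m, s ≫ proj c hc (m + 1) = proj c hc m ≫ f m := by
    intro m
    apply Cofan.IsColimit.hom_ext hc
    intro j
    rw [← Category.assoc, hs, Category.assoc, ← Category.assoc (c.inj j)]
    by_cases h : j = m
    · subst h
      rw [inj_proj_self, inj_proj_self, Category.comp_id, Category.id_comp]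
    · have h' : j + 1 ≠ m + 1 := fun h'' => h (Nat.succ_injective h'')
      rw [inj_proj_ne c hc h, inj_proj_ne c hc h', comp_zero, zero_comp]
  apply eq_zero_of_proj c hc hC u
  intro m
  induction m with
  | zero => rw [hu', Category.assoc, h0, comp_zero]
  | succ m ih => rw [hu', Category.assoc, hsucc, ← Category.assoc, ih, zero_comp]

end Shift

section Hocolim

variable {D : Type u} [Category.{v} D] [Preadditive D] [HasZeroObject D] [HasShift D ℤ]
  [∀ n : ℤ, (shiftFunctor D n).Additive] [Pretriangulated D]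
  {K : ℕ → D} {f : ∀ n, K n ⟶ K (n + 1)} [HasCoproduct K]

lemma ι_shiftMap (n : ℕ) :
    Sigma.ι K n ≫ DerLim.shiftMap K f = f n ≫ Sigma.ι K (n + 1) := by
  unfold DerLim.shiftMap
  rw [Sigma.ι_desc]

lemma isHocolim_comp {L : D} {i : ∀ n, K n ⟶ L} (h : DerLim.IsHocolim K f L i) (n : ℕ) :
    i n = f n ≫ i (n + 1) := by
  obtain ⟨c, hT⟩ := h
  have h0 : (𝟙 (∐ K) - DerLim.shiftMap K f) ≫ Sigma.desc i = 0 :=
    comp_distTriang_mor_zero₁₂ _ hT
  have h1 := congrArg (fun z => Sigma.ι K n ≫ z) h0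
  simp only [Preadditive.sub_comp, Preadditive.comp_sub, Category.id_comp, comp_zero,
    Sigma.ι_desc] at h1
  rw [← Category.assoc, ι_shiftMap, Category.assoc, Sigma.ι_desc] at h1
  exact sub_eq_zero.mp h1

lemma exists_trans {L : D} {i : ∀ n, K n ⟶ L} (h : DerLim.IsHocolim K f L i) (n m : ℕ)
    (hnm : n ≤ m) : ∃ t : K n ⟶ K m, i n = t ≫ i m := by
  induction m, hnm using Nat.le_induction with
  | base => exact ⟨𝟙 _, (Category.id_comp _).symm⟩
  | succ m _ ih =>
    obtain ⟨t, ht⟩ := ih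
    exact ⟨t ≫ f m, by rw [Category.assoc, ← isHocolim_comp h m, ht]⟩

/-- A morphism from an object with the (countable) decomposition property to a homotopy colimit
factors through some stage. -/
lemma isHocolim_factor {L : D} {i : ∀ n, K n ⟶ L} (h : DerLim.IsHocolim K f L i) (C : D)
    (hC : DecompAt C ℕ) (g : C ⟶ L) : ∃ (N : ℕ) (g' : C ⟶ K N), g = g' ≫ i N := by
  classical
  have h' := h
  obtain ⟨c, hT⟩ := h'
  -- step 1: `g ≫ c = 0`
  have h1 : g ≫ c = 0 := by
    let c1 : Cofan (fun n => (K n)⟦(1 : ℤ)⟧) :=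
      Cofan.mk ((∐ K)⟦(1 : ℤ)⟧) (fun n => (Sigma.ι K n)⟦(1 : ℤ)⟧')
    have hc1 : IsColimit c1 :=
      isColimitCofanMkObjOfIsColimit (shiftFunctor D (1 : ℤ)) K (Sigma.ι K)
        (coproductIsCoproduct K)
    have h31 : c ≫ (𝟙 (∐ K) - DerLim.shiftMap K f)⟦(1 : ℤ)⟧' = 0 :=
      comp_distTriang_mor_zero₃₁ _ hT
    refine eq_zero_of_comp_one_sub c1 hc1 (fun n => (f n)⟦(1 : ℤ)⟧')
      ((DerLim.shiftMap K f)⟦(1 : ℤ)⟧') (fun n => ?_) hC (g ≫ c) ?_
    · change (Sigma.ι K n)⟦(1 : ℤ)⟧' ≫ _ = _ ≫ (Sigma.ι K (n + 1))⟦(1 : ℤ)⟧'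
      rw [← Functor.map_comp, ← Functor.map_comp, ι_shiftMap]
    · change (g ≫ c) ≫ (𝟙 ((∐ K)⟦(1 : ℤ)⟧) - (DerLim.shiftMap K f)⟦(1 : ℤ)⟧') = 0
      rw [Functor.map_sub, CategoryTheory.Functor.map_id] at h31
      rw [Category.assoc, h31, comp_zero]
  obtain ⟨g', hg'⟩ : ∃ g' : C ⟶ ∐ K, g = g' ≫ Sigma.desc i :=
    Triangle.coyoneda_exact₃ _ hT g h1
  obtain ⟨F, y, hy⟩ := hC K (Cofan.mk (∐ K) (Sigma.ι K)) (coproductIsCoproduct K) g'
  have hg : g = ∑ j ∈ F, y j ≫ i j := by
    rw [hg', hy, Preadditive.sum_comp]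
    refine Finset.sum_congr rfl (fun j _ => ?_)
    rw [Category.assoc]
    congr 1
    exact Sigma.ι_desc _ _
  have key : ∀ F : Finset ℕ, ∃ (N : ℕ) (g'' : C ⟶ K N), ∑ j ∈ F, y j ≫ i j = g'' ≫ i N := by
    intro F
    induction F using Finset.induction_on with
    | empty => exact ⟨0, 0, by simp⟩
    | insert a F ha ih =>
      obtain ⟨N, g'', hg''⟩ := ih
      obtain ⟨t₁, ht₁⟩ := exists_trans h N (max N a) (le_max_left _ _)
      obtain ⟨t₂, ht₂⟩ := exists_trans h a (max N a) (le_max_right _ _)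
      refine ⟨max N a, y a ≫ t₂ + g'' ≫ t₁, ?_⟩
      rw [Finset.sum_insert ha, hg'', Preadditive.add_comp, Category.assoc, Category.assoc,
        ← ht₁, ← ht₂]
  obtain ⟨N, g'', hg''⟩ := key F
  exact ⟨N, g'', hg.trans hg''⟩

end Hocolim

end Groth.Agent.Lib.Helper30.CptDecomp
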