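import Mathlib
import Groth.Agent.Lib.Helper30.CptHocolim

/-!
# Decomposition property in derived categories: chain-level coproducts and boundedness (helper30)
-/

set_option autoImplicit false
set_option linter.unusedSectionVars false
universe w t t' v u
open CategoryTheory CategoryTheory.Limits

namespace Groth.Agent.Lib.Helper30.CptDecomp

open Groth.Agent.Lib.Helper32.DCoprod DerivedCategory

section Derived

variable {A : Type u} [Category.{v} A] [Abelian A] [HasDerivedCategory.{w} A]
variable {J : Type t} [HasColimitsOfShape (Discrete J) A]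

/-- The termwise coproduct is a coproduct in the category of complexes. -/
noncomputable def isColimitSigmaCx (X : J → CochainComplex A ℤ) :
    IsColimit (Cofan.mk (sigmaCx X) (sigmaι X)) :=
  Cofan.IsColimit.mk _ (fun s => sigmaDesc s.inj) (fun s j => ι_sigmaDesc _ _)
    (fun s m hm => sigma_hom_ext _ _ (fun j => by rw [ι_sigmaDesc]; exact hm j))

open Classical in
/-- chain-level projection to a summand -/
noncomputable def sigmaπ (X : J → CochainComplex A ℤ) (j : J) : sigmaCx X ⟶ X j :=
  sigmaDesc (fun i => if h : i = j then eqToHom (congrArg X h) else 0)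

@[reassoc]
lemma ι_π_self (X : J → CochainComplex A ℤ) (j : J) : sigmaι X j ≫ sigmaπ X j = 𝟙 _ := by
  unfold sigmaπ
  rw [ι_sigmaDesc, dif_pos rfl, eqToHom_refl]

@[reassoc]
lemma ι_π_ne (X : J → CochainComplex A ℤ) {i j : J} (h : i ≠ j) :
    sigmaι X i ≫ sigmaπ X j = 0 := by
  unfold sigmaπ
  rw [ι_sigmaDesc, dif_neg h]

variable [HasExactColimitsOfShape (Discrete J) A]

instance preservesColimitsOfShape_Q :
    PreservesColimitsOfShape (Discrete J) (DerivedCategory.Q (C := A)) := by
  constructor
  intro F
  let X : J → CochainComplex A ℤ := F.obj ∘ Discrete.mk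
  have : PreservesColimit (Discrete.functor X) (DerivedCategory.Q (C := A)) := by
    apply preservesColimit_of_preserves_colimit_cocone (isColimitSigmaCx X)
    exact (isColimitMapCoconeCofanMkEquiv _ _ _).symm (isColimitCofanQ X)
  exact preservesColimit_of_iso_diagram _ (Discrete.natIsoFunctor (F := F)).symm

lemma Q_sigmaπ_eq_proj (X : J → CochainComplex A ℤ) (j : J) :
    Q.map (sigmaπ X j) = proj (cofanQ X) (isColimitCofanQ X) j := by
  apply Cofan.IsColimit.hom_ext (isColimitCofanQ X)
  intro i
  change Q.map (sigmaι X i) ≫ _ = (cofanQ X).inj i ≫ _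
  rw [← Functor.map_comp]
  by_cases h : i = j
  · subst h
    rw [ι_π_self, inj_proj_self, CategoryTheory.Functor.map_id]
  · rw [ι_π_ne X h, inj_proj_ne _ _ h, Functor.map_zero]

/-- Decomposition of a morphism to the image of a termwise coproduct. -/
lemma eq_sum_Q {K : DerivedCategory A} (hK : DecompAt K J) (X : J → CochainComplex A ℤ)
    (x : K ⟶ Q.obj (sigmaCx X)) :
    ∃ F : Finset J, x = ∑ j ∈ F, (x ≫ Q.map (sigmaπ X j)) ≫ Q.map (sigmaι X j) := by
  obtain ⟨F, hF⟩ := eq_sum_proj (cofanQ X) (isColimitCofanQ X) hK x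
  refine ⟨F, ?_⟩
  conv_lhs => rw [hF]
  refine Finset.sum_congr rfl (fun j _ => ?_)
  rw [Q_sigmaπ_eq_proj]
  rfl

end Derived

section Bounded

variable {A : Type u} [Category.{v} A] [Abelian A] [HasDerivedCategory.{w} A]
  [HasColimitsOfShape (Discrete ℤ) A] [HasExactColimitsOfShape (Discrete ℤ) A]
  (X : CochainComplex A ℤ)

/-- the test family: `opcycles` placed in single degrees -/
noncomputable abbrev Yfam (k : ℤ) : CochainComplex A ℤ :=
  (HomologicalComplex.single A (ComplexShape.up ℤ) k).obj (X.opcycles k)

/-- the canonical map `X ⟶ (opcycles k)[-k]` -/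
noncomputable def toSingle (k : ℤ) : X ⟶ Yfam X k :=
  HomologicalComplex.mkHomToSingle (X.pOpcycles k) (by
    intro i _
    exact X.d_pOpcycles i k)

lemma Yfam_d (k i j : ℤ) : (Yfam X k).d i j = 0 :=
  HomologicalComplex.single_obj_d _ _ _ _ _

/-- the map to the coproduct of the test family, using one injection in each degree -/
noncomputable def pB : X ⟶ sigmaCx (Yfam X) where
  f k := (toSingle X k).f k ≫ (sigmaι (Yfam X) k).f k
  comm' k k' _ := by
    rw [Category.assoc, (sigmaι (Yfam X) k).comm, Yfam_d, zero_comp, comp_zero,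
      ← Category.assoc, ← (toSingle X k').comm, Yfam_d, comp_zero, zero_comp]

lemma pB_π (k : ℤ) : pB X ≫ sigmaπ (Yfam X) k = toSingle X k := by
  apply HomologicalComplex.to_single_hom_ext
  rw [HomologicalComplex.comp_f]
  change ((toSingle X k).f k ≫ (sigmaι (Yfam X) k).f k) ≫ _ = _
  rw [Category.assoc, ← HomologicalComplex.comp_f, ι_π_self, HomologicalComplex.id_f,
    Category.comp_id]

lemma isZero_homology_of_Q_map_toSingle_eq_zero (k : ℤ) (h : Q.map (toSingle X k) = 0) :
    IsZero (X.homology k) := by
  have h1 : HomologicalComplex.homologyMap (toSingle X k) k = 0 := by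
    have this : (homologyFunctor A k).map (Q.map (toSingle X k)) ≫
        (homologyFunctorFactors A k).hom.app (Yfam X k) =
        (homologyFunctorFactors A k).hom.app X ≫
          HomologicalComplex.homologyMap (toSingle X k) k :=
      (homologyFunctorFactors A k).hom.naturality (toSingle X k)
    rw [h, Functor.map_zero, zero_comp] at this
    exact (cancel_epi ((homologyFunctorFactors A k).hom.app X)).1 (this.symm.trans comp_zero.symm)
  have h2 := HomologicalComplex.homologyι_naturality (toSingle X k) k
  rw [h1, zero_comp] at h2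
  have h3 : IsIso (HomologicalComplex.opcyclesMap (toSingle X k) k) := by
    have hp : IsIso ((Yfam X k).pOpcycles k) :=
      (Yfam X k).isIso_pOpcycles _ k rfl (Yfam_d X k _ _)
    have h4 : HomologicalComplex.opcyclesMap (toSingle X k) k =
        (HomologicalComplex.singleObjXSelf (ComplexShape.up ℤ) k (X.opcycles k)).inv ≫
          (Yfam X k).pOpcycles k := by
      rw [← cancel_epi (X.pOpcycles k), HomologicalComplex.p_opcyclesMap]
      have : (toSingle X k).f k = X.pOpcycles k ≫
          (HomologicalComplex.singleObjXSelf (ComplexShape.up ℤ) k (X.opcycles k)).inv :=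
        HomologicalComplex.mkHomToSingle_f _ _
      rw [this, Category.assoc]
    rw [h4]
    infer_instance
  have h5 : X.homologyι k = 0 := by
    rw [← cancel_mono (HomologicalComplex.opcyclesMap (toSingle X k) k), ← h2, zero_comp]
  rw [IsZero.iff_id_eq_zero, ← cancel_mono (X.homologyι k), h5, comp_zero, comp_zero]

/-- An object of `D(A)` with the decomposition property for `ℤ`-indexed coproducts has bounded
cohomology. -/
theorem exists_finset_isZero_homology (hK : DecompAt (Q.obj X) ℤ) :
    ∃ F : Finset ℤ, ∀ k : ℤ, k ∉ F → IsZero (X.homology k) := by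
  obtain ⟨F, hF⟩ := eq_sum_Q hK (Yfam X) (Q.map (pB X))
  refine ⟨F, fun k hk => ?_⟩
  apply isZero_homology_of_Q_map_toSingle_eq_zero
  have hx : Q.map (toSingle X k) = Q.map (pB X) ≫ Q.map (sigmaπ (Yfam X) k) := by
    rw [← Functor.map_comp, pB_π]
  rw [hx]
  generalize Q.map (pB X) = x at hF ⊢
  rw [hF, Preadditive.sum_comp]
  refine Finset.sum_eq_zero (fun j hj => ?_)
  have hjk : j ≠ k := fun h => hk (h ▸ hj)
  rw [Category.assoc, ← Functor.map_comp, ι_π_ne _ hjk, Functor.map_zero, comp_zero]

theorem exists_isLE (hK : DecompAt (Q.obj X) ℤ) : ∃ b : ℤ, X.IsLE b := by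
  obtain ⟨F, hF⟩ := exists_finset_isZero_homology X hK
  obtain ⟨b, hb⟩ := Finset.exists_le F
  refine ⟨b, ?_⟩
  rw [CochainComplex.isLE_iff]
  intro i hi
  rw [HomologicalComplex.exactAt_iff_isZero_homology]
  exact hF i (fun h => by have := hb i h; omega)

end Bounded

end Groth.Agent.Lib.Helper30.CptDecomp
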