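import Mathlib
import Groth.Prelude.Def_DCoh3
import Groth.Agent.Lib.Helper49.QCohLocal
import Groth.Agent.Lib.Helper49.FreeMod
import Groth.Agent.Lib.Helper14.ParaFFree
import Groth.Agent.Lib.Helper6.ExactDC

/-!
# Restriction calculus for perfect / pseudo-coherent objects of `D(O_X)` on schemes

* `isFinLocFree_restrict`, `isStrictlyPerfect_restrict/_of_iso/_shift`.
* `rC j`, `rD j`, `rDQ j`, `rCComp`, `rDComp`, `rDCongr`, `rDFac`: restriction along open immersions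
  on complexes / derived categories, compatibility with composition.
* `PerfObj L`, `PCObj m L`: `L ∈ D(O_U)` is (globally on `U`) iso to a strictly perfect complex /
  receives an `m`-pseudo-coherence witness. Stability under isos and restriction.
* `isPerfect_iff`, `isPseudoCoherentD_iff`: `DCoh.IsPerfect K ↔ ∀ x, ∃ V ∋ x, PerfObj (K|_V)`, and
  versions with arbitrary open immersions (`isPerfect_of_openImmersions`, ...).
-/

set_option autoImplicit false
universe u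
open CategoryTheory Limits Opposite TopologicalSpace AlgebraicGeometry
attribute [local instance] HasDerivedCategory.standard

namespace Groth.Agent.Lib.Helper30.PerfRestrict
open Groth.Agent.Lib.Helper49 Groth.Agent.Lib.Helper6

noncomputable section

variable {X U U' : Scheme.{u}}

/-- restriction of a finite locally free module along an open immersion is finite locally free -/
theorem isFinLocFree_restrict (j : U ⟶ X) [IsOpenImmersion j] (M : X.Modules)
    (h : FlatMod.IsFinLocFree M) : FlatMod.IsFinLocFree ((Scheme.Modules.restrictFunctor j).obj M) := by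
  intro y
  obtain ⟨V, n, hxV, ⟨e⟩⟩ := h (j y)
  let W : U.Opens := j ⁻¹ᵁ V
  have hyW : y ∈ W := hxV
  have hrange : Set.range (W.ι ≫ j) ⊆ Set.range V.ι := by
    rintro _ ⟨z, rfl⟩
    rw [Scheme.Opens.range_ι]
    exact z.2
  let g : (W : Scheme.{u}) ⟶ (V : Scheme.{u}) := IsOpenImmersion.lift V.ι (W.ι ≫ j) hrange
  have hg : g ≫ V.ι = W.ι ≫ j := IsOpenImmersion.lift_fac _ _ _
  have : IsOpenImmersion g := IsOpenImmersion.of_comp g V.ι
  refine ⟨W, n, hyW, ⟨?_⟩⟩
  exact (Scheme.Modules.restrictFunctorComp W.ι j).symm.app M ≪≫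
    (Scheme.Modules.restrictFunctorCongr hg.symm).app M ≪≫
    (Scheme.Modules.restrictFunctorComp g V.ι).app M ≪≫
    (Scheme.Modules.restrictFunctor g).mapIso e ≪≫ restrictFreeIso n g

/-- restriction of complexes along an open immersion -/
abbrev rC (j : U ⟶ X) [IsOpenImmersion j] :
    CochainComplex X.Modules ℤ ⥤ CochainComplex U.Modules ℤ :=
  (Scheme.Modules.restrictFunctor j).mapHomologicalComplex (ComplexShape.up ℤ)

/-- restriction of derived categories along an open immersion -/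
abbrev rD (j : U ⟶ X) [IsOpenImmersion j] : DCoh.D X ⥤ DCoh.D U := DCoh.restrictD j

/-- `Q` commutes with restriction. -/
abbrev rDQ (j : U ⟶ X) [IsOpenImmersion j] :
    DerivedCategory.Q ⋙ rD j ≅ rC j ⋙ DerivedCategory.Q :=
  (Scheme.Modules.restrictFunctor j).mapDerivedCategoryFactors

theorem isStrictlyPerfect_restrict (j : U ⟶ X) [IsOpenImmersion j]
    (E : CochainComplex X.Modules ℤ) (hE : DCoh.IsStrictlyPerfect E) :
    DCoh.IsStrictlyPerfect ((rC j).obj E) := by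
  obtain ⟨⟨a, b, hab⟩, hfl⟩ := hE
  refine ⟨⟨a, b, fun i hi => ?_⟩, fun i => ?_⟩
  · exact (Scheme.Modules.restrictFunctor j).map_isZero (hab i hi)
  · exact isFinLocFree_restrict j _ (hfl i)

theorem isStrictlyPerfect_of_iso {E E' : CochainComplex X.Modules ℤ} (e : E ≅ E')
    (hE : DCoh.IsStrictlyPerfect E) : DCoh.IsStrictlyPerfect E' := by
  obtain ⟨⟨a, b, hab⟩, hfl⟩ := hE
  refine ⟨⟨a, b, fun i hi => ?_⟩, fun i => ?_⟩
  · exact (hab i hi).of_iso ((HomologicalComplex.eval _ _ i).mapIso e.symm)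
  · exact Groth.Agent.Lib.Helper14.isFinLocFree_of_iso ((HomologicalComplex.eval _ _ i).mapIso e) (hfl i)

theorem isStrictlyPerfect_shift (E : CochainComplex X.Modules ℤ) (n : ℤ)
    (hE : DCoh.IsStrictlyPerfect E) : DCoh.IsStrictlyPerfect (E⟦n⟧) := by
  obtain ⟨⟨a, b, hab⟩, hfl⟩ := hE
  refine ⟨⟨a - n, b - n, fun i hi => ?_⟩, fun i => ?_⟩
  · exact hab (i + n) (by omega)
  · exact hfl (i + n)

/-- restriction of complexes in two steps -/
def rCComp (k : U' ⟶ U) (j : U ⟶ X) [IsOpenImmersion k] [IsOpenImmersion j] :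
    rC (k ≫ j) ≅ rC j ⋙ rC k :=
  (Functor.mapHomologicalComplexCompIso (Scheme.Modules.restrictFunctorComp k j).symm
    (ComplexShape.up ℤ)).symm

/-- restriction of derived categories in two steps -/
def rDComp (k : U' ⟶ U) (j : U ⟶ X) [IsOpenImmersion k] [IsOpenImmersion j] :
    rD (k ≫ j) ≅ rD j ⋙ rD k := by
  letI : Localization.Lifting DerivedCategory.Q
      (HomologicalComplex.quasiIso X.Modules (ComplexShape.up ℤ))
      ((rC j ⋙ rC k) ⋙ DerivedCategory.Q) (rD j ⋙ rD k) :=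
    ⟨(Functor.associator _ _ _).symm ≪≫ Functor.isoWhiskerRight (rDQ j) (rD k) ≪≫
      Functor.associator _ _ _ ≪≫ Functor.isoWhiskerLeft (rC j) (rDQ k) ≪≫
      (Functor.associator _ _ _).symm⟩
  exact Localization.liftNatIso DerivedCategory.Q
    (HomologicalComplex.quasiIso X.Modules (ComplexShape.up ℤ))
    (rC (k ≫ j) ⋙ DerivedCategory.Q) ((rC j ⋙ rC k) ⋙ DerivedCategory.Q) _ _
    (Functor.isoWhiskerRight (rCComp k j) DerivedCategory.Q)

/-- equal open immersions give isomorphic restrictions -/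
def rDCongr {j j' : U ⟶ X} [IsOpenImmersion j] [IsOpenImmersion j'] (h : j = j') :
    rD j ≅ rD j' := by
  subst h
  exact Iso.refl _

/-! ### Perfect and pseudo-coherent objects, "globally on a scheme" -/

/-- `L ∈ D(O_U)` is isomorphic to a strictly perfect complex. -/
def PerfObj (L : DCoh.D U) : Prop :=
  ∃ E : CochainComplex U.Modules ℤ, DCoh.IsStrictlyPerfect E ∧
    Nonempty (L ≅ DerivedCategory.Q.obj E)

/-- `L ∈ D(O_U)` receives a map from a strictly perfect complex which is an isomorphism on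
`H^i` for `i > m` and an epimorphism on `H^m`. -/
def PCObj (m : ℤ) (L : DCoh.D U) : Prop :=
  ∃ (E : CochainComplex U.Modules ℤ) (α : DerivedCategory.Q.obj E ⟶ L),
    DCoh.IsStrictlyPerfect E ∧
    (∀ i : ℤ, m < i → IsIso ((DerivedCategory.homologyFunctor _ i).map α)) ∧
    Epi ((DerivedCategory.homologyFunctor _ m).map α)

lemma PerfObj.of_iso {L L' : DCoh.D U} (e : L ≅ L') (h : PerfObj L) : PerfObj L' := by
  obtain ⟨E, hE, ⟨f⟩⟩ := h
  exact ⟨E, hE, ⟨e.symm ≪≫ f⟩⟩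

lemma PCObj.of_iso {m : ℤ} {L L' : DCoh.D U} (e : L ≅ L') (h : PCObj m L) : PCObj m L' := by
  obtain ⟨E, α, hE, h1, h2⟩ := h
  refine ⟨E, α ≫ e.hom, hE, fun i hi => ?_, ?_⟩
  · have := h1 i hi
    rw [Functor.map_comp]
    infer_instance
  · rw [Functor.map_comp]
    infer_instance

lemma PerfObj.restrict (k : U' ⟶ U) [IsOpenImmersion k] {L : DCoh.D U} (h : PerfObj L) :
    PerfObj ((rD k).obj L) := by
  obtain ⟨E, hE, ⟨f⟩⟩ := h
  exact ⟨(rC k).obj E, isStrictlyPerfect_restrict k E hE,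
    ⟨(rD k).mapIso f ≪≫ (rDQ k).app E⟩⟩

lemma PCObj.restrict (k : U' ⟶ U) [IsOpenImmersion k] {m : ℤ} {L : DCoh.D U} (h : PCObj m L) :
    PCObj m ((rD k).obj L) := by
  obtain ⟨E, α, hE, h1, h2⟩ := h
  refine ⟨(rC k).obj E, (rDQ k).inv.app E ≫ (rD k).map α, isStrictlyPerfect_restrict k E hE,
    fun i hi => ?_, ?_⟩
  · have := ExactDC.isIso_homology_map (F := Scheme.Modules.restrictFunctor k) α i (h1 i hi)
    rw [Functor.map_comp]
    infer_instance
  · have := ExactDC.epi_homology_map (F := Scheme.Modules.restrictFunctor k) α m h2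
    rw [Functor.map_comp]
    infer_instance

lemma PerfObj.pcObj {L : DCoh.D U} (h : PerfObj L) (m : ℤ) : PCObj m L := by
  obtain ⟨E, hE, ⟨f⟩⟩ := h
  exact ⟨E, f.inv, hE, fun i _ => inferInstance, inferInstance⟩

/-- iso of objects for a factorization `k ≫ j = j'`. -/
def rDFac (k : U' ⟶ U) (j : U ⟶ X) (j' : U' ⟶ X) [IsOpenImmersion k] [IsOpenImmersion j]
    [IsOpenImmersion j'] (h : k ≫ j = j') (K : DCoh.D X) :
    (rD j').obj K ≅ (rD k).obj ((rD j).obj K) :=
  (rDCongr h.symm).app K ≪≫ (rDComp k j).app K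

lemma PerfObj.of_fac (k : U' ⟶ U) (j : U ⟶ X) (j' : U' ⟶ X) [IsOpenImmersion k]
    [IsOpenImmersion j] [IsOpenImmersion j'] (h : k ≫ j = j') {K : DCoh.D X}
    (hK : PerfObj ((rD j).obj K)) : PerfObj ((rD j').obj K) :=
  (hK.restrict k).of_iso (rDFac k j j' h K).symm

lemma PCObj.of_fac (k : U' ⟶ U) (j : U ⟶ X) (j' : U' ⟶ X) [IsOpenImmersion k]
    [IsOpenImmersion j] [IsOpenImmersion j'] (h : k ≫ j = j') {m : ℤ} {K : DCoh.D X}
    (hK : PCObj m ((rD j).obj K)) : PCObj m ((rD j').obj K) :=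
  (hK.restrict k).of_iso (rDFac k j j' h K).symm

lemma PerfObj.of_le {V' V : X.Opens} (h : V' ≤ V) {K : DCoh.D X}
    (hK : PerfObj ((rD V.ι).obj K)) : PerfObj ((rD V'.ι).obj K) :=
  hK.of_fac (X.homOfLE h) V.ι V'.ι (X.homOfLE_ι h)

lemma PCObj.of_le {V' V : X.Opens} (h : V' ≤ V) {m : ℤ} {K : DCoh.D X}
    (hK : PCObj m ((rD V.ι).obj K)) : PCObj m ((rD V'.ι).obj K) :=
  hK.of_fac (X.homOfLE h) V.ι V'.ι (X.homOfLE_ι h)

lemma PerfObj.opensRange (j : U ⟶ X) [IsOpenImmersion j] {K : DCoh.D X}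
    (hK : PerfObj ((rD j).obj K)) : PerfObj ((rD j.opensRange.ι).obj K) :=
  hK.of_fac j.isoOpensRange.inv j j.opensRange.ι (by simp)

lemma PCObj.opensRange (j : U ⟶ X) [IsOpenImmersion j] {m : ℤ} {K : DCoh.D X}
    (hK : PCObj m ((rD j).obj K)) : PCObj m ((rD j.opensRange.ι).obj K) :=
  hK.of_fac j.isoOpensRange.inv j j.opensRange.ι (by simp)

theorem isPerfect_iff (K : DCoh.D X) :
    DCoh.IsPerfect K ↔ ∀ x : X, ∃ V : X.Opens, x ∈ V ∧ PerfObj ((rD V.ι).obj K) := by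
  constructor
  · intro h x
    obtain ⟨V, hxV, hV⟩ := h x
    refine ⟨V, hxV, ?_⟩
    let F := DerivedCategory.Q.objPreimage K
    let e : DerivedCategory.Q.obj F ≅ K := DerivedCategory.Q.objObjPreimageIso K
    obtain ⟨E, hE, ⟨f⟩⟩ := hV F ⟨e⟩
    exact ⟨E, hE, ⟨(rD V.ι).mapIso e.symm ≪≫ (rDQ V.ι).app F ≪≫ f⟩⟩
  · intro h x
    obtain ⟨V, hxV, E, hE, ⟨f⟩⟩ := h x
    refine ⟨V, hxV, fun F ⟨e⟩ => ⟨E, hE, ⟨?_⟩⟩⟩
    exact ((rDQ V.ι).app F).symm ≪≫ (rD V.ι).mapIso e ≪≫ f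

theorem isPseudoCoherentD_iff (m : ℤ) (K : DCoh.D X) :
    DCoh.IsPseudoCoherentD m K ↔ ∀ x : X, ∃ V : X.Opens, x ∈ V ∧ PCObj m ((rD V.ι).obj K) := by
  constructor
  · intro h x
    obtain ⟨V, hxV, hV⟩ := h x
    refine ⟨V, hxV, ?_⟩
    let F := DerivedCategory.Q.objPreimage K
    let e : DerivedCategory.Q.obj F ≅ K := DerivedCategory.Q.objObjPreimageIso K
    obtain ⟨E, α, hE, h1, h2⟩ := hV F ⟨e⟩
    exact PCObj.of_iso (((rDQ V.ι).app F).symm ≪≫ (rD V.ι).mapIso e) ⟨E, α, hE, h1, h2⟩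
  · intro h x
    obtain ⟨V, hxV, hV⟩ := h x
    refine ⟨V, hxV, fun F ⟨e⟩ => ?_⟩
    obtain ⟨E, α, hE, h1, h2⟩ := PCObj.of_iso ((rD V.ι).mapIso e.symm ≪≫ (rDQ V.ι).app F) hV
    exact ⟨E, α, hE, h1, h2⟩

/-- perfectness can be checked on arbitrary open immersions -/
theorem isPerfect_of_openImmersions (K : DCoh.D X)
    (h : ∀ x : X, ∃ (U : Scheme.{u}) (j : U ⟶ X) (_ : IsOpenImmersion j),
      x ∈ Set.range j ∧ PerfObj ((rD j).obj K)) : DCoh.IsPerfect K := by
  rw [isPerfect_iff]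
  intro x
  obtain ⟨U, j, hj, hx, hK⟩ := h x
  exact ⟨j.opensRange, hx, hK.opensRange j⟩

theorem isPseudoCoherentD_of_openImmersions (m : ℤ) (K : DCoh.D X)
    (h : ∀ x : X, ∃ (U : Scheme.{u}) (j : U ⟶ X) (_ : IsOpenImmersion j),
      x ∈ Set.range j ∧ PCObj m ((rD j).obj K)) : DCoh.IsPseudoCoherentD m K := by
  rw [isPseudoCoherentD_iff]
  intro x
  obtain ⟨U, j, hj, hx, hK⟩ := h x
  exact ⟨j.opensRange, hx, hK.opensRange j⟩

end

end Groth.Agent.Lib.Helper30.PerfRestrict
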