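import Mathlib

/-!
# Mapping cones: vanishing of homology and lifting up to homotopy

* `isZero_homology_mappingCone`: if `H^j(f)` is epi and `H^{j+1}(f)` is mono then `H^j(cone f) = 0`.
* `exists_lift_of_homotopy_inr`: if `α ≫ inr f` is null-homotopic then `α` lifts through `f` up to
  homotopy.
-/

set_option autoImplicit false
universe u v
open CategoryTheory Limits

namespace Groth.Agent.Lib.Helper30.ConeLift

variable {A : Type u} [Category.{v} A] [Abelian A]

open CochainComplex in
lemma isZero_homology_mappingCone {G F : CochainComplex A ℤ} (f : G ⟶ F) (j : ℤ)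
    (h1 : Epi (HomologicalComplex.homologyMap f j))
    (h2 : Mono (HomologicalComplex.homologyMap f (j + 1))) :
    IsZero ((mappingCone f).homology j) := by
  let H := HomotopyCategory.homologyFunctor A (ComplexShape.up ℤ) 0
  let T := mappingCone.triangleh f
  have hT : T ∈ distTriang _ := HomotopyCategory.mappingCone_triangleh_distinguished f
  have key : ∀ n : ℤ, (H.shift n).map T.mor₁ =
      ((HomotopyCategory.homologyFunctorFactors A (ComplexShape.up ℤ) n).app G).hom ≫
        (HomologicalComplex.homologyFunctor A (ComplexShape.up ℤ) n).map f ≫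
        ((HomotopyCategory.homologyFunctorFactors A (ComplexShape.up ℤ) n).app F).inv := by
    intro n
    have hn := (HomotopyCategory.homologyFunctorFactors A (ComplexShape.up ℤ) n).hom.naturality f
    rw [Iso.app_hom, Iso.app_inv, ← Category.assoc, ← hn, Category.assoc, Iso.hom_inv_id_app,
      Category.comp_id]
    rfl
  have h1' : Epi ((HomologicalComplex.homologyFunctor A (ComplexShape.up ℤ) j).map f) := h1
  have h2' : Mono ((HomologicalComplex.homologyFunctor A (ComplexShape.up ℤ) (j + 1)).map f) := h2
  have e1 : Epi ((H.shift j).map T.mor₁) := by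
    rw [key j]
    have := @epi_comp _ _ _ _ _ _ h1' _ (IsIso.epi_of_iso
      ((HomotopyCategory.homologyFunctorFactors A (ComplexShape.up ℤ) j).app F).inv)
    exact @epi_comp _ _ _ _ _ _ (IsIso.epi_of_iso
      ((HomotopyCategory.homologyFunctorFactors A (ComplexShape.up ℤ) j).app G).hom) _ this
  have m1 : Mono ((H.shift (j + 1)).map T.mor₁) := by
    rw [key (j + 1)]
    have := @mono_comp _ _ _ _ _ _ h2' _ (IsIso.mono_of_iso
      ((HomotopyCategory.homologyFunctorFactors A (ComplexShape.up ℤ) (j + 1)).app F).inv)
    exact @mono_comp _ _ _ _ _ _ (IsIso.mono_of_iso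
      ((HomotopyCategory.homologyFunctorFactors A (ComplexShape.up ℤ) (j + 1)).app G).hom) _ this
  have z1 := (H.homologySequence_epi_shift_map_mor₁_iff T hT j).mp e1
  have z2 := (H.homologySequence_mono_shift_map_mor₁_iff T hT j (j + 1) rfl).mp m1
  have hz := (H.homologySequence_exact₃ T hT j (j + 1) rfl).isZero_of_both_zeros z1 z2
  exact hz.of_iso ((HomotopyCategory.homologyFunctorFactors A (ComplexShape.up ℤ) j).app (mappingCone f)).symm

end Groth.Agent.Lib.Helper30.ConeLift

namespace Groth.Agent.Lib.Helper30.ConeLift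
variable {A : Type u} [Category.{v} A] [Abelian A]

open CochainComplex Pretriangulated in
lemma exists_lift_of_homotopy_inr {E G F : CochainComplex A ℤ} (f : G ⟶ F) (α : E ⟶ F)
    (h : Homotopy (α ≫ mappingCone.inr f) 0) :
    ∃ β : E ⟶ G, Nonempty (Homotopy (β ≫ f) α) := by
  let Q := HomotopyCategory.quotient A (ComplexShape.up ℤ)
  let T := mappingCone.triangleh f
  have hT : T ∈ distTriang _ := HomotopyCategory.mappingCone_triangleh_distinguished f
  have h0 : Q.map α ≫ T.mor₂ = 0 := by
    have : Q.map (α ≫ mappingCone.inr f) = Q.map 0 := HomotopyCategory.eq_of_homotopy _ _ h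
    rw [Functor.map_comp, Functor.map_zero] at this
    exact this
  obtain ⟨g, hg⟩ := Triangle.coyoneda_exact₂ T hT (Q.map α) h0
  obtain ⟨β, rfl⟩ := Q.map_surjective g
  refine ⟨β, ⟨HomotopyCategory.homotopyOfEq _ _ ?_⟩⟩
  rw [Functor.map_comp]
  exact hg.symm

end Groth.Agent.Lib.Helper30.ConeLift
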