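import Mathlib

/-!
# Free sheaves of modules on a site with a terminal object

Sections of a sheaf of modules on a site with a terminal object `T` are determined by their value
at `T`; morphisms out of `unit R` and `free I` are described by elements over `T`, and for finite
`I` the elements of `free I` have coordinates.
-/

set_option autoImplicit false
universe u
open CategoryTheory Limits Opposite

namespace Groth.Agent.Lib.Helper30.FreeTerminal

noncomputable section

variable {D : Type u} [SmallCategory D] {K : GrothendieckTopology D} {R : Sheaf K RingCat.{u}}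
  {T : D} (hT : IsTerminal T)

open SheafOfModules

/-- the section of `N` with prescribed value at the terminal object. -/
def secOf (N : SheafOfModules.{u} R) (x : N.val.obj (op T)) : N.sections :=
  PresheafOfModules.sectionsMk (fun V => N.val.map (hT.from V.unop).op x) (by
    intro V W f
    have h : (hT.from V.unop).op ≫ f = (hT.from W.unop).op :=
      Quiver.Hom.unop_inj (hT.hom_ext _ _)
    rw [← h, N.val.map_comp]
    rfl)

lemma secOf_val (N : SheafOfModules.{u} R) (x : N.val.obj (op T)) (V : D) :
    (secOf hT N x).val (op V) = N.val.map (hT.from V).op x := rfl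

lemma secOf_val_T (N : SheafOfModules.{u} R) (x : N.val.obj (op T)) :
    (secOf hT N x).val (op T) = x := by
  rw [secOf_val, hT.hom_ext (hT.from T) (𝟙 T), op_id, N.val.map_id]
  rfl

/-- the morphism `unit R ⟶ N` with prescribed value on `1` at the terminal object. -/
def unitHom (N : SheafOfModules.{u} R) (x : N.val.obj (op T)) : unit R ⟶ N :=
  N.unitHomEquiv.symm (secOf hT N x)

lemma unitHom_app_one (N : SheafOfModules.{u} R) (x : N.val.obj (op T)) :
    (unitHom hT N x).val.app (op T) (1 : R.obj.obj (op T)) = x := by
  have h := N.unitHomEquiv.apply_symm_apply (secOf hT N x)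
  have h2 := congrArg (fun s : N.sections => s.val (op T)) h
  exact h2.trans (secOf_val_T hT N x)

include hT in
/-- morphisms out of `unit R` are determined by the image of `1` over the terminal object. -/
lemma unit_hom_ext {N : SheafOfModules.{u} R} (v v' : unit R ⟶ N)
    (h : v.val.app (op T) (1 : R.obj.obj (op T)) = v'.val.app (op T) (1 : R.obj.obj (op T))) :
    v = v' := by
  apply N.unitHomEquiv.injective
  apply PresheafOfModules.sections_ext
  intro V
  have e1 := (N.unitHomEquiv v).property (hT.from V.unop).op
  have e2 := (N.unitHomEquiv v').property (hT.from V.unop).op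
  have h' : (N.unitHomEquiv v).val (op T) = (N.unitHomEquiv v').val (op T) := h
  exact e1.symm.trans ((congrArg _ h').trans e2)

section Free

variable {I : Type u}

/-- the basis element `e_i` of `free I` over an object `V`. -/
def eF (i : I) (V : D) : (free (R := R) I).val.obj (op V) :=
  (ιFree (R := R) i).val.app (op V) (1 : R.obj.obj (op V))

/-- the morphism `free I ⟶ N` with prescribed values on the basis over the terminal object. -/
def freeDesc (N : SheafOfModules.{u} R) (x : I → N.val.obj (op T)) : free I ⟶ N :=
  N.freeHomEquiv.symm (fun i => secOf hT N (x i))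

lemma ιFree_freeDesc (N : SheafOfModules.{u} R) (x : I → N.val.obj (op T)) (i : I) :
    ιFree i ≫ freeDesc hT N x = unitHom hT N (x i) := by
  have h := unitHomEquiv_symm_freeHomEquiv_apply (freeDesc hT N x) i
  rw [← h]
  unfold freeDesc unitHom
  rw [Equiv.apply_symm_apply]

lemma freeDesc_eF (N : SheafOfModules.{u} R) (x : I → N.val.obj (op T)) (i : I) :
    (freeDesc hT N x).val.app (op T) (eF i T) = x i := by
  have h := congrArg (fun v : unit R ⟶ N => v.val.app (op T) (1 : R.obj.obj (op T)))
    (ιFree_freeDesc hT N x i)
  exact h.trans (unitHom_app_one hT N (x i))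

include hT in
/-- morphisms out of `free I` are determined by the images of the basis over the terminal
object. -/
lemma free_hom_ext {N : SheafOfModules.{u} R} (v v' : free I ⟶ N)
    (h : ∀ i, v.val.app (op T) (eF i T) = v'.val.app (op T) (eF i T)) : v = v' := by
  refine Cofan.IsColimit.hom_ext (isColimitFreeCofan I) _ _ (fun i => ?_)
  exact unit_hom_ext hT _ _ (h i)

lemma eF_map (i : I) {V W : D} (g : W ⟶ V) :
    (free (R := R) I).val.map g.op (eF i V) = eF i W := by
  unfold eF
  rw [← PresheafOfModules.naturality_apply]
  congr 1
  exact (R.obj.map g.op).hom.map_one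

end Free

section Coordinates

variable {I : Type u} [Fintype I] [DecidableEq I]

/-- the coordinate projections of a finite free module. -/
def pr (j : I) : free (R := R) I ⟶ unit R :=
  Cofan.IsColimit.desc (isColimitFreeCofan I) (fun i => if i = j then 𝟙 _ else 0)

omit [Fintype I] in
lemma ιFree_pr (i j : I) : ιFree (R := R) i ≫ pr j = if i = j then 𝟙 _ else 0 :=
  Cofan.IsColimit.fac (isColimitFreeCofan I) _ i

lemma sum_pr_ιFree : ∑ j : I, pr (R := R) j ≫ ιFree j = 𝟙 (free I) := by
  refine Cofan.IsColimit.hom_ext (isColimitFreeCofan I) _ _ (fun i => ?_)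
  show ιFree i ≫ _ = ιFree i ≫ _
  rw [Preadditive.comp_sum, Category.comp_id]
  have h : ∀ j ∈ (Finset.univ : Finset I), ιFree (R := R) i ≫ pr j ≫ ιFree j =
      if i = j then ιFree i else 0 := by
    intro j _
    rw [← Category.assoc, ιFree_pr]
    split_ifs with hij
    · subst hij; simp
    · simp
  rw [Finset.sum_congr rfl h]
  simp

lemma app_sum' {M N : SheafOfModules.{u} R} {ι : Type u} (s : Finset ι) (f : ι → (M ⟶ N)) (V : D)
    (x : M.val.obj (op V)) :
    (∑ i ∈ s, f i).val.app (op V) x = ∑ i ∈ s, (f i).val.app (op V) x := by
  classical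
  induction s using Finset.induction_on with
  | empty => simp only [Finset.sum_empty]; rfl
  | insert a s ha ih =>
    rw [Finset.sum_insert ha, Finset.sum_insert ha]
    exact (congrArg (fun w => (f a).val.app (op V) x + w) ih)

/-- the coordinates of an element of a finite free module. -/
lemma coords (V : D) (τ : (free (R := R) I).val.obj (op V)) :
    τ = ∑ j : I, (show R.obj.obj (op V) from (pr j).val.app (op V) τ) • eF j V := by
  have h := congrArg (fun v : free (R := R) I ⟶ free I => v.val.app (op V) τ)
    (sum_pr_ιFree (R := R) (I := I))
  have h2 : τ = ∑ j : I, (pr (R := R) j ≫ ιFree j).val.app (op V) τ :=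
    (h.symm.trans (app_sum' Finset.univ _ V τ)).symm ▸ rfl
  refine h2.trans (Finset.sum_congr rfl (fun j _ => ?_))
  show (ιFree (R := R) j).val.app (op V) ((pr j).val.app (op V) τ) = _
  generalize (pr (R := R) j).val.app (op V) τ = c
  have h3 : c = (show R.obj.obj (op V) from c) • (1 : R.obj.obj (op V)) :=
    (mul_one (show R.obj.obj (op V) from c)).symm
  exact (congrArg (fun w => (ιFree (R := R) j).val.app (op V) w) h3).trans
    (((ιFree (R := R) j).val.app (op V)).hom.map_smul _ _)

end Coordinates

end

end Groth.Agent.Lib.Helper30.FreeTerminal
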