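import Mathlib
import Groth.Prelude.Def_DCoh2
import Groth.Agent.Lib.Helper30.ModEpi
import Groth.Agent.Lib.Helper30.FreeTerminal
import Groth.Agent.Lib.Helper49.QCohLocal

/-!
# Local lifting of maps out of finite locally free modules on a scheme

* `cIso h : rV' ≅ rV ⋙ r_(V' ⊆ V)` and the transport `Tr h` of morphisms `rV A ⟶ rV B` to
  `rV' A ⟶ rV' B` for opens `V' ≤ V` (compatible with composition, sums, restriction of global maps).
* `exists_lift_section(s)`: an epimorphism of `O_X`-modules is locally surjective at a point, also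
  for finitely many sections.
* `exists_local_lift`: relative local lifting: `p : G ⟶ F` epi on `X`, `A` free over `U`,
  `φ' : A|_U ⟶ F|_U`; near every point of `U` there is `ψ : A|_V ⟶ G|_V` with
  `ψ ≫ p|_V = Tr φ'`.
* `exists_restrict_free`: a finite locally free module is free on a neighbourhood inside any given
  neighbourhood.
* `exists_local_lift_exact`: lifting through an exact sequence `B ⟶ C ⟶ D`.
-/

set_option autoImplicit false
universe u
open CategoryTheory Limits Opposite TopologicalSpace AlgebraicGeometry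

namespace Groth.Agent.Lib.Helper30.LocalLift
open Groth.Agent.Lib.Helper30

variable {X : Scheme.{u}}

noncomputable section

/-- restriction to `V' ≤ V` in two steps. -/
def cIso {V' V : X.Opens} (h : V' ≤ V) :
    Scheme.Modules.restrictFunctor V'.ι ≅
      Scheme.Modules.restrictFunctor V.ι ⋙ Scheme.Modules.restrictFunctor (X.homOfLE h) :=
  Scheme.Modules.restrictFunctorCongr (X.homOfLE_ι h).symm ≪≫
    Scheme.Modules.restrictFunctorComp (X.homOfLE h) V.ι

/-- transport of a morphism over `V` to a morphism over `V' ≤ V`. -/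
def Tr {V' V : X.Opens} (h : V' ≤ V) {A B : X.Modules}
    (f : (Scheme.Modules.restrictFunctor V.ι).obj A ⟶ (Scheme.Modules.restrictFunctor V.ι).obj B) :
    (Scheme.Modules.restrictFunctor V'.ι).obj A ⟶ (Scheme.Modules.restrictFunctor V'.ι).obj B :=
  (cIso h).hom.app A ≫ (Scheme.Modules.restrictFunctor (X.homOfLE h)).map f ≫ (cIso h).inv.app B

lemma cIso_inv_hom_app {V' V : X.Opens} (h : V' ≤ V) (A : X.Modules) :
    (cIso h).inv.app A ≫ (cIso h).hom.app A = 𝟙 _ := by
  rw [← NatTrans.comp_app, Iso.inv_hom_id]; rfl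

lemma cIso_hom_inv_app {V' V : X.Opens} (h : V' ≤ V) (A : X.Modules) :
    (cIso h).hom.app A ≫ (cIso h).inv.app A = 𝟙 _ := by
  rw [← NatTrans.comp_app, Iso.hom_inv_id]; rfl

lemma Tr_comp {V' V : X.Opens} (h : V' ≤ V) {A B C : X.Modules}
    (f : (Scheme.Modules.restrictFunctor V.ι).obj A ⟶ (Scheme.Modules.restrictFunctor V.ι).obj B)
    (g : (Scheme.Modules.restrictFunctor V.ι).obj B ⟶ (Scheme.Modules.restrictFunctor V.ι).obj C) :
    Tr h (f ≫ g) = Tr h f ≫ Tr h g := by
  unfold Tr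
  simp only [Functor.map_comp, Category.assoc]
  rw [reassoc_of% (cIso_inv_hom_app h B)]

lemma Tr_add {V' V : X.Opens} (h : V' ≤ V) {A B : X.Modules}
    (f g : (Scheme.Modules.restrictFunctor V.ι).obj A ⟶ (Scheme.Modules.restrictFunctor V.ι).obj B) :
    Tr h (f + g) = Tr h f + Tr h g := by
  unfold Tr
  rw [Functor.map_add, Preadditive.add_comp, Preadditive.comp_add]

lemma Tr_sub {V' V : X.Opens} (h : V' ≤ V) {A B : X.Modules}
    (f g : (Scheme.Modules.restrictFunctor V.ι).obj A ⟶ (Scheme.Modules.restrictFunctor V.ι).obj B) :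
    Tr h (f - g) = Tr h f - Tr h g := by
  unfold Tr
  rw [Functor.map_sub, Preadditive.sub_comp, Preadditive.comp_sub]

lemma Tr_zero {V' V : X.Opens} (h : V' ≤ V) {A B : X.Modules} :
    Tr h (0 : (Scheme.Modules.restrictFunctor V.ι).obj A ⟶ (Scheme.Modules.restrictFunctor V.ι).obj B) = 0 := by
  unfold Tr
  rw [Functor.map_zero, zero_comp, comp_zero]

lemma Tr_map {V' V : X.Opens} (h : V' ≤ V) {A B : X.Modules} (φ : A ⟶ B) :
    Tr h ((Scheme.Modules.restrictFunctor V.ι).map φ) = (Scheme.Modules.restrictFunctor V'.ι).map φ := by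
  unfold Tr
  have hn := (cIso h).hom.naturality φ
  have h2 : (Scheme.Modules.restrictFunctor (X.homOfLE h)).map ((Scheme.Modules.restrictFunctor V.ι).map φ) =
      (Scheme.Modules.restrictFunctor V.ι ⋙ Scheme.Modules.restrictFunctor (X.homOfLE h)).map φ := rfl
  rw [h2, ← Category.assoc, ← hn, Category.assoc, cIso_hom_inv_app, Category.comp_id]

/-- an epimorphism of `O_X`-modules is locally surjective on sections, at a point. -/
lemma exists_lift_section {F G : X.Modules} (p : G ⟶ F) [Epi p] (W : X.Opens) (x : X) (hx : x ∈ W)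
    (s : Γ(F, W)) :
    ∃ (V : X.Opens) (hV : V ≤ W), x ∈ V ∧ ∃ t : Γ(G, V), p.app V t = F.presheaf.map (homOfLE hV).op s := by
  have hp : Epi (show (G : SheafOfModules.{u} X.ringCatSheaf) ⟶ F from p) := ‹Epi p›
  have h := @ModEpi.isLocallySurjective_of_epi _ _ _ X.ringCatSheaf G F p hp
  have h2 := h.imageSieve_mem (U := W) s
  obtain ⟨V, f, ⟨t, ht⟩, hxV⟩ := h2 x hx
  exact ⟨V, leOfHom f, hxV, t, ht⟩

lemma lift_mono {F G : X.Modules} (p : G ⟶ F) {W V V' : X.Opens} (hV : V ≤ W) (hV' : V' ≤ V)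
    (s : Γ(F, W)) (h : ∃ t : Γ(G, V), p.app V t = F.presheaf.map (homOfLE hV).op s) :
    ∃ t : Γ(G, V'), p.app V' t = F.presheaf.map (homOfLE (hV'.trans hV)).op s := by
  obtain ⟨t, ht⟩ := h
  refine ⟨G.presheaf.map (homOfLE hV').op t, ?_⟩
  have hn := ConcreteCategory.congr_hom (p.mapPresheaf.naturality (homOfLE hV').op) t
  simp only [Scheme.Modules.mapPresheaf_app, ConcreteCategory.comp_apply] at hn
  rw [hn, ht, ← ConcreteCategory.comp_apply, ← F.presheaf.map_comp]
  rfl

/-- finitely many sections lift simultaneously on a neighbourhood. -/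
lemma exists_lift_sections {F G : X.Modules} (p : G ⟶ F) [Epi p] (W : X.Opens) (x : X) (hx : x ∈ W)
    {n : ℕ} (s : Fin n → Γ(F, W)) :
    ∃ (V : X.Opens) (hV : V ≤ W), x ∈ V ∧
      ∀ k, ∃ t : Γ(G, V), p.app V t = F.presheaf.map (homOfLE hV).op (s k) := by
  suffices H : ∀ S : Finset (Fin n), ∃ (V : X.Opens) (hV : V ≤ W), x ∈ V ∧
      ∀ k ∈ S, ∃ t : Γ(G, V), p.app V t = F.presheaf.map (homOfLE hV).op (s k) by
    obtain ⟨V, hV, hxV, h⟩ := H Finset.univ
    exact ⟨V, hV, hxV, fun k => h k (Finset.mem_univ k)⟩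
  intro S
  induction S using Finset.induction_on with
  | empty => exact ⟨W, le_rfl, hx, fun k hk => absurd hk (Finset.notMem_empty k)⟩
  | insert a S ha ih =>
    obtain ⟨V, hV, hxV, h⟩ := ih
    obtain ⟨V₁, hV₁, hxV₁, h₁⟩ := exists_lift_section p W x hx (s a)
    refine ⟨V ⊓ V₁, inf_le_left.trans hV, ⟨hxV, hxV₁⟩, fun k hk => ?_⟩
    rcases Finset.mem_insert.mp hk with rfl | hk
    · exact lift_mono p hV₁ inf_le_right (s k) h₁
    · exact lift_mono p hV inf_le_left (s k) (h k hk)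

lemma map3 {Y : TopCat.{u}} (P : (Opens Y)ᵒᵖ ⥤ Ab.{u}) {A B C D : (Opens Y)ᵒᵖ}
    (f : A ⟶ B) (g : B ⟶ C) (h : C ⟶ D) (k : A ⟶ D) :
    P.map f ≫ P.map g ≫ P.map h = P.map k := by
  rw [← P.map_comp, ← P.map_comp]
  congr 1

noncomputable def hTop (U : Scheme.{u}) : IsTerminal (⊤ : U.Opens) := isTerminalTop

open Scheme.Modules in
/-- relative local lifting through an epimorphism, out of a module which is free over `U`. -/
theorem exists_local_lift {E F G : X.Modules} (p : G ⟶ F) [Epi p]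
    (U : X.Opens) (n : ℕ) (e : E.restrict U.ι ≅ FlatMod.freeMod (↑U) n)
    (φ' : (Scheme.Modules.restrictFunctor U.ι).obj E ⟶ (Scheme.Modules.restrictFunctor U.ι).obj F)
    (x : X) (hxU : x ∈ U) :
    ∃ (V : X.Opens) (hVU : V ≤ U) (ψ : E.restrict V.ι ⟶ G.restrict V.ι), x ∈ V ∧
      ψ ≫ (Scheme.Modules.restrictFunctor V.ι).map p = Tr hVU φ' := by
  let rU := Scheme.Modules.restrictFunctor U.ι
  let W : X.Opens := U.ι ''ᵁ ⊤
  have hWU : W ≤ U := U.ι_image_le ⊤
  have hxW : x ∈ W := by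
    have : W = U := U.ι_image_top
    rw [this]; exact hxU
  let σ : ∀ k : Fin n, Coh.structureModule (↑U) ⟶ rU.obj F := fun k =>
    Sigma.ι (fun _ : Fin n => Coh.structureModule (↑U)) k ≫ e.inv ≫ φ'
  let s : Fin n → Γ(F, W) := fun k =>
    ((σ k).val.app (op (⊤ : (↑U : Scheme.{u}).Opens))) (1 : (↑U : Scheme.{u}).ringCatSheaf.obj.obj (op ⊤))
  obtain ⟨V, hVW, hxV, ht⟩ := exists_lift_sections p W x hxW s
  choose t ht using ht
  have hVU : V ≤ U := hVW.trans hWU
  let j : (↑V : Scheme.{u}) ⟶ ↑U := X.homOfLE hVU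
  let rV := Scheme.Modules.restrictFunctor V.ι
  let c : rV ≅ rU ⋙ Scheme.Modules.restrictFunctor j :=
    Scheme.Modules.restrictFunctorCongr (X.homOfLE_ι hVU).symm ≪≫
      Scheme.Modules.restrictFunctorComp j U.ι
  let adj := Scheme.Modules.restrictAdjunction j
  let N : (↑U : Scheme.{u}).Modules := (Scheme.Modules.pushforward j).obj (rV.obj G)
  let NF : (↑U : Scheme.{u}).Modules := (Scheme.Modules.pushforward j).obj (rV.obj F)
  -- the open over which sections of `N` over `⊤` live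
  let V' : X.Opens := V.ι ''ᵁ (j ⁻¹ᵁ ⊤)
  have hV'V : V' ≤ V := V.ι_image_le _
  let t' : Fin n → Γ(N, (⊤ : (↑U : Scheme.{u}).Opens)) := fun k =>
    G.presheaf.map (homOfLE hV'V).op (t k)
  let u : ∀ k : Fin n, Coh.structureModule (↑U) ⟶ N := fun k =>
    FreeTerminal.unitHom (R := (↑U : Scheme.{u}).ringCatSheaf) (hTop ↑U) N (t' k)
  let B : rU.obj E ⟶ N := e.hom ≫ Sigma.desc u
  let ψ : rV.obj E ⟶ rV.obj G := c.hom.app E ≫ (adj.homEquiv _ _).symm B
  refine ⟨V, hVU, ψ, hxV, ?_⟩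
  let rj := Scheme.Modules.restrictFunctor j
  let pf := Scheme.Modules.pushforward j
  let η : rU.obj F ⟶ NF := adj.homEquiv _ _ (c.inv.app F)
  -- key identity on `U`
  have key : B ≫ pf.map (rV.map p) = φ' ≫ η := by
    change (e.hom ≫ Sigma.desc u) ≫ pf.map (rV.map p) = φ' ≫ η
    rw [Category.assoc, ← Iso.eq_inv_comp]
    apply Sigma.hom_ext
    intro k
    rw [Sigma.ι_desc_assoc]
    change u k ≫ pf.map (rV.map p) = σ k ≫ η
    apply FreeTerminal.unit_hom_ext (R := (↑U : Scheme.{u}).ringCatSheaf) (hTop ↑U)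
    -- left side
    have hL : ((u k ≫ pf.map (rV.map p)).val.app (op (⊤ : (↑U : Scheme.{u}).Opens)))
        (1 : (↑U : Scheme.{u}).ringCatSheaf.obj.obj (op ⊤)) =
        p.app V' (t' k) := by
      have h0 := FreeTerminal.unitHom_app_one (R := (↑U : Scheme.{u}).ringCatSheaf) (hTop ↑U) N (t' k)
      change ((pf.map (rV.map p)).val.app (op (⊤ : (↑U : Scheme.{u}).Opens)))
        (((u k).val.app (op (⊤ : (↑U : Scheme.{u}).Opens)))
          (1 : (↑U : Scheme.{u}).ringCatSheaf.obj.obj (op ⊤))) = _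
      erw [h0]
      rfl
    have hR : ((σ k ≫ η).val.app (op (⊤ : (↑U : Scheme.{u}).Opens)))
        (1 : (↑U : Scheme.{u}).ringCatSheaf.obj.obj (op ⊤)) =
        η.app ⊤ (s k) := rfl
    refine hL.trans (Eq.trans ?_ hR.symm)
    -- compute `η` on sections over `⊤`
    have hη : ∃ (hW : V' ≤ W), η.app ⊤ = F.presheaf.map (homOfLE hW).op := by
      refine ⟨hV'V.trans hVW, ?_⟩
      have e1 : η = adj.unit.app (rU.obj F) ≫ pf.map (c.inv.app F) :=
        Adjunction.homEquiv_unit adj _ _ _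
      rw [e1, Scheme.Modules.Hom.comp_app]
      have e2 : (adj.unit.app (rU.obj F)).app ⊤ =
          (rU.obj F).presheaf.map (homOfLE (j.image_preimage_le ⊤)).op :=
        Scheme.Modules.restrictAdjunction_unit_app_app j (rU.obj F) ⊤
      have e3 : (pf.map (c.inv.app F)).app ⊤ = (c.inv.app F).app (j ⁻¹ᵁ ⊤) := rfl
      have e4 : c.inv.app F = (Scheme.Modules.restrictFunctorComp j U.ι).inv.app F ≫
          (Scheme.Modules.restrictFunctorCongr (X.homOfLE_ι hVU).symm).inv.app F := rfl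
      rw [e2, e3, e4, Scheme.Modules.Hom.comp_app,
        Scheme.Modules.restrictFunctorComp_inv_app_app,
        Scheme.Modules.restrictFunctorCongr_inv_app_app]
      have e5 : (rU.obj F).presheaf.map (homOfLE (j.image_preimage_le ⊤)).op =
          F.presheaf.map (U.ι.opensFunctor.map (homOfLE (j.image_preimage_le ⊤))).op := rfl
      rw [e5]
      exact map3 F.presheaf _ _ _ _
    obtain ⟨hW, hη⟩ := hη
    rw [hη]
    have hn := ConcreteCategory.congr_hom (p.mapPresheaf.naturality (homOfLE hV'V).op) (t k)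
    simp only [Scheme.Modules.mapPresheaf_app, ConcreteCategory.comp_apply] at hn
    change p.app V' (G.presheaf.map (homOfLE hV'V).op (t k)) = _
    erw [hn, ht k, ← ConcreteCategory.comp_apply, ← F.presheaf.map_comp]
    rfl
  have h1 : Tr hVU φ' = c.hom.app E ≫ rj.map φ' ≫ c.inv.app F := rfl
  rw [h1]
  change c.hom.app E ≫ (adj.homEquiv _ _).symm B ≫ rV.map p = _
  congr 1
  rw [← Adjunction.homEquiv_naturality_right_symm]
  apply (adj.homEquiv _ _).injective
  rw [Equiv.apply_symm_apply, Adjunction.homEquiv_naturality_left]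
  exact key


/-- a finite locally free module is free on a neighbourhood contained in a given neighbourhood. -/
theorem exists_restrict_free {A : X.Modules} (hA : FlatMod.IsFinLocFree A) (V : X.Opens) (x : X)
    (hxV : x ∈ V) :
    ∃ (U : X.Opens) (_ : U ≤ V) (n : ℕ), x ∈ U ∧ Nonempty (A.restrict U.ι ≅ FlatMod.freeMod (↑U) n) := by
  obtain ⟨U₀, n, hxU₀, ⟨e₀⟩⟩ := hA x
  refine ⟨U₀ ⊓ V, inf_le_right, n, ⟨hxU₀, hxV⟩, ⟨?_⟩⟩
  let h : U₀ ⊓ V ≤ U₀ := inf_le_left
  let j₀ := X.homOfLE h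
  let rj := Scheme.Modules.restrictFunctor j₀
  refine (cIso h).app A ≪≫ rj.mapIso e₀ ≪≫
    PreservesCoproduct.iso rj (fun _ : Fin n => Coh.structureModule (↑U₀)) ≪≫
    Sigma.mapIso (fun _ => Scheme.Modules.restrictUnitIso j₀)

/-- local lifting through an exact sequence `S.X₁ ⟶ S.X₂ ⟶ S.X₃` of a map defined over `V` from a
finite locally free module and killed by `S.g`; the result lives over `V' ≤ U ≤ V`. -/
theorem exists_local_lift_exact {A : X.Modules} (hA : FlatMod.IsFinLocFree A)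
    (S : ShortComplex X.Modules) (hS : S.Exact) (V : X.Opens) (x : X) (hxV : x ∈ V)
    (β : (Scheme.Modules.restrictFunctor V.ι).obj A ⟶ (Scheme.Modules.restrictFunctor V.ι).obj S.X₂)
    (hβ : β ≫ (Scheme.Modules.restrictFunctor V.ι).map S.g = 0) :
    ∃ (U : X.Opens) (hUV : U ≤ V) (V' : X.Opens) (hV'U : V' ≤ U)
      (ℓ : A.restrict V'.ι ⟶ S.X₁.restrict V'.ι), x ∈ V' ∧
      ℓ ≫ (Scheme.Modules.restrictFunctor V'.ι).map S.f = Tr hV'U (Tr hUV β) := by
  obtain ⟨U, hUV, n, hxU, ⟨e⟩⟩ := exists_restrict_free hA V x hxV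
  let rU := Scheme.Modules.restrictFunctor U.ι
  let βU := Tr hUV β
  have hβU : βU ≫ rU.map S.g = 0 := by
    have : βU ≫ rU.map S.g = Tr hUV (β ≫ (Scheme.Modules.restrictFunctor V.ι).map S.g) := by
      rw [Tr_comp, Tr_map]
    rw [this, hβ, Tr_zero]
  have hlim := KernelFork.mapIsLimit _ S.cyclesIsKernel rU
  obtain ⟨βt0, hβt⟩ := KernelFork.IsLimit.lift' hlim βU hβU
  let βt : rU.obj A ⟶ rU.obj S.cycles := βt0
  have hβt' : βt ≫ rU.map S.iCycles = βU := hβt
  have : Epi S.toCycles := hS.epi_toCycles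
  obtain ⟨V', hV'U, ψ, hxV', hψ⟩ := exists_local_lift S.toCycles U n e βt x hxU
  refine ⟨U, hUV, V', hV'U, ψ, hxV', ?_⟩
  have h1 : (Scheme.Modules.restrictFunctor V'.ι).map S.f =
      (Scheme.Modules.restrictFunctor V'.ι).map S.toCycles ≫
        (Scheme.Modules.restrictFunctor V'.ι).map S.iCycles := by
    rw [← Functor.map_comp, S.toCycles_i]
  rw [h1, reassoc_of% hψ, ← Tr_map hV'U S.iCycles, ← Tr_comp]
  exact congrArg (Tr hV'U) hβt'

end

end Groth.Agent.Lib.Helper30.LocalLift
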