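import Mathlib
import Groth.Agent.Lib.Helper30.PerfRestrict
import Groth.Agent.S0944
import Groth.Agent.S6516

set_option autoImplicit false
universe u
open CategoryTheory Limits Opposite TopologicalSpace AlgebraicGeometry Pretriangulated
attribute [local instance] HasDerivedCategory.standard

namespace Groth.Agent.Lib.Helper30.PerfTriangle
open Groth.Agent.Lib.Helper30.PerfRestrict

noncomputable section

variable {X U U' : Scheme.{u}}

lemma PerfObj.shift {L : DCoh.D U} (h : PerfObj L) (n : ℤ) : PerfObj (L⟦n⟧) := by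
  obtain ⟨E, hE, ⟨f⟩⟩ := h
  exact ⟨E⟦n⟧, isStrictlyPerfect_shift E n hE,
    ⟨(shiftFunctor (DCoh.D U) n).mapIso f ≪≫ ((DerivedCategory.Q.commShiftIso n).app E).symm⟩⟩

lemma PerfObj.of_shift {L : DCoh.D U} (n : ℤ) (h : PerfObj (L⟦n⟧)) : PerfObj L :=
  PerfRestrict.PerfObj.of_iso ((shiftEquiv (DCoh.D U) n).unitIso.app L).symm (PerfObj.shift h (-n))

/-- local form of two-out-of-three: if the first two vertices of a distinguished triangle are
strictly perfect, the third is locally strictly perfect -/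
theorem exists_perfObj_obj₃ (T : Triangle (DCoh.D U)) (hT : T ∈ distTriang _)
    (h1 : PerfObj T.obj₁) (h2 : PerfObj T.obj₂) (x : U) :
    ∃ W : U.Opens, x ∈ W ∧ PerfObj ((rD W.ι).obj T.obj₃) := by
  obtain ⟨E₁, hE₁, ⟨e₁⟩⟩ := h1
  obtain ⟨E₂, hE₂, ⟨e₂⟩⟩ := h2
  let α : DCoh.toD U E₁ ⟶ DCoh.toD U E₂ := e₁.inv ≫ T.mor₁ ≫ e₂.hom
  obtain ⟨W, hxW, hW⟩ := Groth.Agent.S0944.result hE₁ α x
  obtain ⟨β, hβ⟩ := hW
  refine ⟨W, hxW, CochainComplex.mappingCone β, ?_, ⟨?_⟩⟩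
  · exact Groth.Agent.S6516.result β (isStrictlyPerfect_restrict W.ι E₁ hE₁)
      (isStrictlyPerfect_restrict W.ι E₂ hE₂)
  · let T' := (rD W.ι).mapTriangle.obj T
    have hT' : T' ∈ distTriang _ := (rD W.ι).map_distinguished T hT
    let T'' := DerivedCategory.Q.mapTriangle.obj (CochainComplex.mappingCone.triangle β)
    have hT'' : T'' ∈ distTriang _ := DerivedCategory.mappingCone_triangle_distinguished β
    let f₁ : T'.obj₁ ≅ T''.obj₁ := (rD W.ι).mapIso e₁ ≪≫ (rDQ W.ι).app E₁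
    let f₂ : T'.obj₂ ≅ T''.obj₂ := (rD W.ι).mapIso e₂ ≪≫ (rDQ W.ι).app E₂
    have comm : T'.mor₁ ≫ f₂.hom = f₁.hom ≫ T''.mor₁ := by
      change (rD W.ι).map T.mor₁ ≫ (rD W.ι).map e₂.hom ≫ (rDQ W.ι).hom.app E₂ =
        ((rD W.ι).map e₁.hom ≫ (rDQ W.ι).hom.app E₁) ≫ DerivedCategory.Q.map β
      have h3 : (rD W.ι).map α = (rD W.ι).map e₁.inv ≫ (rD W.ι).map T.mor₁ ≫ (rD W.ι).map e₂.hom := by
        simp only [α, Functor.map_comp]
      have h4 : (rD W.ι).map T.mor₁ ≫ (rD W.ι).map e₂.hom =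
          (rD W.ι).map e₁.hom ≫ (rD W.ι).map α := by
        rw [h3, ← Functor.map_comp_assoc, e₁.hom_inv_id, CategoryTheory.Functor.map_id,
          Category.id_comp]
      rw [← Category.assoc, h4, hβ]
      simp only [Category.assoc]
      erw [Iso.inv_hom_id_app]
      erw [Category.comp_id]
    exact Triangle.π₃.mapIso (isoTriangleOfIso₁₂ T' T'' hT' hT'' f₁ f₂ comm)

theorem isPerfect_shift (K : DCoh.D X) (n : ℤ) (h : DCoh.IsPerfect K) : DCoh.IsPerfect (K⟦n⟧) := by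
  rw [isPerfect_iff] at h ⊢
  intro x
  obtain ⟨V, hxV, hV⟩ := h x
  exact ⟨V, hxV, PerfRestrict.PerfObj.of_iso (((rD V.ι).commShiftIso n).app K).symm
    (PerfObj.shift hV n)⟩

theorem isPerfect_of_shift (K : DCoh.D X) (n : ℤ) (h : DCoh.IsPerfect (K⟦n⟧)) : DCoh.IsPerfect K := by
  rw [isPerfect_iff] at h ⊢
  intro x
  obtain ⟨V, hxV, hV⟩ := h x
  exact ⟨V, hxV, PerfObj.of_shift n
    (PerfRestrict.PerfObj.of_iso (((rD V.ι).commShiftIso n).app K) hV)⟩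

theorem isPerfect_obj₃ (T : Triangle (DCoh.D X)) (hT : T ∈ distTriang _)
    (h1 : DCoh.IsPerfect T.obj₁) (h2 : DCoh.IsPerfect T.obj₂) : DCoh.IsPerfect T.obj₃ := by
  rw [isPerfect_iff] at h1 h2
  apply isPerfect_of_openImmersions
  intro x
  obtain ⟨V₁, hxV₁, hV₁⟩ := h1 x
  obtain ⟨V₂, hxV₂, hV₂⟩ := h2 x
  let V : X.Opens := V₁ ⊓ V₂
  have hxV : x ∈ V := ⟨hxV₁, hxV₂⟩
  have hV₁' : PerfObj ((rD V.ι).obj T.obj₁) := PerfRestrict.PerfObj.of_le inf_le_left hV₁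
  have hV₂' : PerfObj ((rD V.ι).obj T.obj₂) := PerfRestrict.PerfObj.of_le inf_le_right hV₂
  obtain ⟨W, hxW, hW⟩ := exists_perfObj_obj₃ ((rD V.ι).mapTriangle.obj T)
    ((rD V.ι).map_distinguished T hT) hV₁' hV₂' (⟨x, hxV⟩ : V)
  refine ⟨W, W.ι ≫ V.ι, inferInstance, ⟨⟨⟨x, hxV⟩, hxW⟩, rfl⟩, ?_⟩
  exact PerfRestrict.PerfObj.of_iso ((rDComp W.ι V.ι).app T.obj₃).symm hW

end

end Groth.Agent.Lib.Helper30.PerfTriangle
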