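import Mathlib

set_option autoImplicit false
universe v u
open CategoryTheory Limits

namespace Groth.Agent.Lib.Helper30.SigmaGE

variable {A : Type u} [Category.{v} A] [Abelian A]

noncomputable section

/-- the embedding for the truncation `σ_{≤ m-1}` -/
abbrev eLE (m : ℤ) : ComplexShape.Embedding (ComplexShape.down ℕ) (ComplexShape.up ℤ) :=
  ComplexShape.embeddingUpIntLE (m - 1)

/-- the quotient complex `σ_{< m} K` -/
abbrev sigmaLT (K : CochainComplex A ℤ) (m : ℤ) : CochainComplex A ℤ := K.stupidTrunc (eLE m)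

/-- the projection `K ⟶ σ_{<m} K` -/
lemma hasLift_id (K : CochainComplex A ℤ) (m : ℤ) :
    (eLE m).HasLift (𝟙 (K.restriction (eLE m))) :=
  fun _ hj => (hj.false_of_isTruncLE).elim

def πLT (K : CochainComplex A ℤ) (m : ℤ) : K ⟶ sigmaLT K m :=
  (eLE m).liftExtend (𝟙 (K.restriction (eLE m))) (hasLift_id K m)

lemma eLE_f (m : ℤ) (n : ℕ) : (eLE m).f n = m - 1 - n := rfl

lemma isIso_πLT_f (K : CochainComplex A ℤ) (m i : ℤ) (hi : i < m) : IsIso ((πLT K m).f i) := by
  obtain ⟨n, hn⟩ : ∃ n : ℕ, (eLE m).f n = i := ⟨(m - 1 - i).toNat, by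
    rw [eLE_f]; have := Int.toNat_of_nonneg (show 0 ≤ m - 1 - i by omega); omega⟩
  exact ((eLE m).isIso_liftExtend_f_iff (𝟙 (K.restriction (eLE m))) (hasLift_id K m) hn).mpr
    inferInstance

lemma isZero_sigmaLT_X (K : CochainComplex A ℤ) (m i : ℤ) (hi : m ≤ i) : IsZero ((sigmaLT K m).X i) := by
  apply HomologicalComplex.isZero_stupidTrunc_X
  intro n hn
  rw [eLE_f] at hn
  omega

instance epi_πLT (K : CochainComplex A ℤ) (m : ℤ) : Epi (πLT K m) := by
  have : ∀ i, Epi ((πLT K m).f i) := fun i => by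
    by_cases hi : i < m
    · have := isIso_πLT_f K m i hi
      infer_instance
    · exact ⟨fun _ _ _ => (isZero_sigmaLT_X K m i (by omega)).eq_of_src _ _⟩
  exact HomologicalComplex.epi_of_epi_f _ this

/-- the subcomplex `σ_{≥ m} K` -/
def sigmaGE (K : CochainComplex A ℤ) (m : ℤ) : CochainComplex A ℤ := kernel (πLT K m)

/-- the inclusion `σ_{≥ m} K ⟶ K` -/
def ιGE (K : CochainComplex A ℤ) (m : ℤ) : sigmaGE K m ⟶ K := kernel.ι (πLT K m)

instance (K : CochainComplex A ℤ) (m : ℤ) : Mono (ιGE K m) := by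
  unfold ιGE; exact equalizer.ι_mono

/-- the short exact sequence `0 → σ_{≥m} K → K → σ_{<m} K → 0` -/
def sc (K : CochainComplex A ℤ) (m : ℤ) : ShortComplex (CochainComplex A ℤ) :=
  ShortComplex.mk (ιGE K m) (πLT K m) (kernel.condition _)

lemma sc_shortExact (K : CochainComplex A ℤ) (m : ℤ) : (sc K m).ShortExact where
  exact := ShortComplex.exact_of_f_is_kernel _ (kernelIsKernel _)
  mono_f := by dsimp [sc]; infer_instance
  epi_g := by dsimp [sc]; infer_instance

lemma sc_shortExact_eval (K : CochainComplex A ℤ) (m i : ℤ) :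
    ((sc K m).map (HomologicalComplex.eval A (ComplexShape.up ℤ) i)).ShortExact :=
  (sc_shortExact K m).map_of_exact _

lemma isIso_ιGE_f (K : CochainComplex A ℤ) (m i : ℤ) (hi : m ≤ i) : IsIso ((ιGE K m).f i) := by
  have h := sc_shortExact_eval K m i
  have : Mono ((ιGE K m).f i) := h.mono_f
  have : Epi ((ιGE K m).f i) :=
    h.exact.epi_f ((isZero_sigmaLT_X K m i hi).eq_of_tgt _ _)
  exact isIso_of_mono_of_epi _

lemma isZero_sigmaGE_X (K : CochainComplex A ℤ) (m i : ℤ) (hi : i < m) :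
    IsZero ((sigmaGE K m).X i) := by
  have h := sc_shortExact_eval K m i
  have : Mono ((ιGE K m).f i) := h.mono_f
  have := isIso_πLT_f K m i hi
  have h0 : (ιGE K m).f i = 0 := by
    have hz : (ιGE K m).f i ≫ (πLT K m).f i = 0 :=
      ((sc K m).map (HomologicalComplex.eval A (ComplexShape.up ℤ) i)).zero
    rw [← cancel_mono ((πLT K m).f i), hz, zero_comp]
  exact IsZero.of_mono_eq_zero _ h0

lemma isZero_homology_sigmaLT (K : CochainComplex A ℤ) (m i : ℤ) (hi : m ≤ i) :
    IsZero ((sigmaLT K m).homology i) :=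
  ShortComplex.isZero_homology_of_isZero_X₂ _ (isZero_sigmaLT_X K m i hi)

lemma epi_homologyMap_ιGE (K : CochainComplex A ℤ) (m i : ℤ) (hi : m ≤ i) :
    Epi (HomologicalComplex.homologyMap (ιGE K m) i) :=
  ((sc_shortExact K m).homology_exact₂ i).epi_f
    ((isZero_homology_sigmaLT K m i hi).eq_of_tgt _ _)

lemma mono_homologyMap_ιGE (K : CochainComplex A ℤ) (m i : ℤ) (hi : m < i) :
    Mono (HomologicalComplex.homologyMap (ιGE K m) i) :=
  ((sc_shortExact K m).homology_exact₁ (i - 1) i (by simp)).mono_g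
    ((isZero_homology_sigmaLT K m (i - 1) (by omega)).eq_of_src _ _)

lemma isIso_homologyMap_ιGE (K : CochainComplex A ℤ) (m i : ℤ) (hi : m < i) :
    IsIso (HomologicalComplex.homologyMap (ιGE K m) i) := by
  have := epi_homologyMap_ιGE K m i hi.le
  have := mono_homologyMap_ιGE K m i hi
  exact isIso_of_mono_of_epi _

end

end Groth.Agent.Lib.Helper30.SigmaGE
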