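import Mathlib

set_option autoImplicit false
universe v u
open CategoryTheory Limits

namespace Groth.Agent.Lib.Helper30.TriFive

section Four

variable {C : Type u} [Category.{v} C] [Abelian C]
  {A₁ A₂ A₃ A₄ B₁ B₂ B₃ B₄ : C}
  (f₁ : A₁ ⟶ A₂) (f₂ : A₂ ⟶ A₃) (f₃ : A₃ ⟶ A₄)
  (g₁ : B₁ ⟶ B₂) (g₂ : B₂ ⟶ B₃) (g₃ : B₃ ⟶ B₄)
  (a₁ : A₁ ⟶ B₁) (a₂ : A₂ ⟶ B₂) (a₃ : A₃ ⟶ B₃) (a₄ : A₄ ⟶ B₄)
  (c₁ : f₁ ≫ a₂ = a₁ ≫ g₁) (c₂ : f₂ ≫ a₃ = a₂ ≫ g₂) (c₃ : f₃ ≫ a₄ = a₃ ≫ g₃)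

open ComposableArrows in
include c₁ c₂ c₃ in
theorem four_mono (z₁ : f₁ ≫ f₂ = 0) (z₂ : f₂ ≫ f₃ = 0) (w₁ : g₁ ≫ g₂ = 0)
    (hf : (ShortComplex.mk f₂ f₃ z₂).Exact) (hg : (ShortComplex.mk g₁ g₂ w₁).Exact)
    (h₁ : Epi a₁) (h₂ : Mono a₂) (h₄ : Mono a₄) : Mono a₃ := by
  let φ : mk₃ f₁ f₂ f₃ ⟶ mk₃ g₁ g₂ g₃ := homMk₃ a₁ a₂ a₃ a₄ c₁ c₂ c₃
  exact Abelian.mono_of_epi_of_mono_of_mono' φ z₁ hf.exact_toComposableArrows
    hg.exact_toComposableArrows h₁ h₂ h₄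

open ComposableArrows in
include c₁ c₂ c₃ in
theorem four_epi (z₂ : f₂ ≫ f₃ = 0) (w₁ : g₁ ≫ g₂ = 0) (w₂ : g₂ ≫ g₃ = 0)
    (hf : (ShortComplex.mk f₂ f₃ z₂).Exact) (hg : (ShortComplex.mk g₁ g₂ w₁).Exact)
    (h₁ : Epi a₁) (h₃ : Epi a₃) (h₄ : Mono a₄) : Epi a₂ := by
  let φ : mk₃ f₁ f₂ f₃ ⟶ mk₃ g₁ g₂ g₃ := homMk₃ a₁ a₂ a₃ a₄ c₁ c₂ c₃
  exact Abelian.epi_of_epi_of_epi_of_mono' φ hf.exact_toComposableArrows
    hg.exact_toComposableArrows w₂ h₁ h₃ h₄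

end Four

section Tri

open DerivedCategory Pretriangulated

variable {C : Type u} [Category.{v} C] [Abelian C] [HasDerivedCategory C]

theorem epi_hom₃ (T₁ T₂ : Triangle (DerivedCategory C)) (h₁ : T₁ ∈ distTriang _)
    (h₂ : T₂ ∈ distTriang _) (φ : T₁ ⟶ T₂) (i : ℤ)
    (ha : Epi ((homologyFunctor C i).map φ.hom₂))
    (hb : Epi ((homologyFunctor C (i + 1)).map φ.hom₁))
    (hc : Mono ((homologyFunctor C (i + 1)).map φ.hom₂)) :
    Epi ((homologyFunctor C i).map φ.hom₃) := by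
  refine four_epi ((homologyFunctor C i).map T₁.mor₂) (HomologySequence.δ T₁ i (i + 1) rfl)
    ((homologyFunctor C (i + 1)).map T₁.mor₁)
    ((homologyFunctor C i).map T₂.mor₂) (HomologySequence.δ T₂ i (i + 1) rfl)
    ((homologyFunctor C (i + 1)).map T₂.mor₁)
    ((homologyFunctor C i).map φ.hom₂) ((homologyFunctor C i).map φ.hom₃)
    ((homologyFunctor C (i + 1)).map φ.hom₁) ((homologyFunctor C (i + 1)).map φ.hom₂)
    ?_ ?_ ?_ (HomologySequence.δ_comp T₁ h₁ i (i + 1) rfl) (HomologySequence.comp_δ T₂ h₂ i (i + 1) rfl)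
    (HomologySequence.δ_comp T₂ h₂ i (i + 1) rfl)
    (HomologySequence.exact₁ T₁ h₁ i (i + 1) rfl) (HomologySequence.exact₃ T₂ h₂ i (i + 1) rfl)
    ha hb hc
  · rw [← Functor.map_comp, ← Functor.map_comp, φ.comm₂]
  · exact ((homologyFunctor C 0).homologySequenceδ_naturality T₁ T₂ φ i (i + 1) rfl).symm
  · rw [← Functor.map_comp, ← Functor.map_comp, φ.comm₁]

theorem mono_hom₃ (T₁ T₂ : Triangle (DerivedCategory C)) (h₁ : T₁ ∈ distTriang _)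
    (h₂ : T₂ ∈ distTriang _) (φ : T₁ ⟶ T₂) (i : ℤ)
    (ha : Epi ((homologyFunctor C i).map φ.hom₁))
    (hb : Mono ((homologyFunctor C i).map φ.hom₂))
    (hc : Mono ((homologyFunctor C (i + 1)).map φ.hom₁)) :
    Mono ((homologyFunctor C i).map φ.hom₃) := by
  refine four_mono ((homologyFunctor C i).map T₁.mor₁) ((homologyFunctor C i).map T₁.mor₂)
    (HomologySequence.δ T₁ i (i + 1) rfl)
    ((homologyFunctor C i).map T₂.mor₁) ((homologyFunctor C i).map T₂.mor₂)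
    (HomologySequence.δ T₂ i (i + 1) rfl)
    ((homologyFunctor C i).map φ.hom₁) ((homologyFunctor C i).map φ.hom₂)
    ((homologyFunctor C i).map φ.hom₃) ((homologyFunctor C (i + 1)).map φ.hom₁)
    ?_ ?_ ?_ ?_ (HomologySequence.comp_δ T₁ h₁ i (i + 1) rfl) ?_
    (HomologySequence.exact₃ T₁ h₁ i (i + 1) rfl) (HomologySequence.exact₂ T₂ h₂ i)
    ha hb hc
  · rw [← Functor.map_comp, ← Functor.map_comp, φ.comm₁]
  · rw [← Functor.map_comp, ← Functor.map_comp, φ.comm₂]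
  · exact ((homologyFunctor C 0).homologySequenceδ_naturality T₁ T₂ φ i (i + 1) rfl).symm
  · rw [← Functor.map_comp, comp_distTriang_mor_zero₁₂ _ h₁, Functor.map_zero]
  · rw [← Functor.map_comp, comp_distTriang_mor_zero₁₂ _ h₂, Functor.map_zero]

/-- the "five lemma" for pseudo-coherence: a morphism of distinguished triangles whose first
component is an iso on `H^i` for `i > m + 1` and epi on `H^{m+1}`, and whose second component is an
iso on `H^i` for `i > m` and epi on `H^m`, has third component iso on `H^i` for `i > m` and epi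
on `H^m`. -/
theorem tri_five (T₁ T₂ : Triangle (DerivedCategory C)) (h₁ : T₁ ∈ distTriang _)
    (h₂ : T₂ ∈ distTriang _) (φ : T₁ ⟶ T₂) (m : ℤ)
    (hφ₁ : ∀ i, m + 1 < i → IsIso ((homologyFunctor C i).map φ.hom₁))
    (hφ₁' : Epi ((homologyFunctor C (m + 1)).map φ.hom₁))
    (hφ₂ : ∀ i, m < i → IsIso ((homologyFunctor C i).map φ.hom₂))
    (hφ₂' : Epi ((homologyFunctor C m).map φ.hom₂)) :
    (∀ i, m < i → IsIso ((homologyFunctor C i).map φ.hom₃)) ∧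
      Epi ((homologyFunctor C m).map φ.hom₃) := by
  have e1 : ∀ i, m + 1 ≤ i → Epi ((homologyFunctor C i).map φ.hom₁) := fun i hi => by
    rcases eq_or_lt_of_le hi with rfl | hi
    · exact hφ₁'
    · have := hφ₁ i hi; infer_instance
  have e2 : ∀ i, m ≤ i → Epi ((homologyFunctor C i).map φ.hom₂) := fun i hi => by
    rcases eq_or_lt_of_le hi with rfl | hi
    · exact hφ₂'
    · have := hφ₂ i hi; infer_instance
  have hepi : ∀ i, m ≤ i → Epi ((homologyFunctor C i).map φ.hom₃) := fun i hi =>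
    epi_hom₃ T₁ T₂ h₁ h₂ φ i (e2 i hi) (e1 (i + 1) (by omega))
      (by have := hφ₂ (i + 1) (by omega); infer_instance)
  refine ⟨fun i hi => ?_, hepi m le_rfl⟩
  have := hepi i hi.le
  have := mono_hom₃ T₁ T₂ h₁ h₂ φ i (e1 i (by omega))
    (by have := hφ₂ i hi; infer_instance) (by have := hφ₁ (i + 1) (by omega); infer_instance)
  exact isIso_of_mono_of_epi _

end Tri

end Groth.Agent.Lib.Helper30.TriFive
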