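import Mathlib
import Groth.Agent.Lib.Helper30.PerfTriangle
import Groth.Agent.Lib.Helper30.SigmaGE
import Groth.Agent.Lib.Helper30.TriFive
import Groth.Agent.S0932

set_option autoImplicit false
universe u
open CategoryTheory Limits Opposite TopologicalSpace AlgebraicGeometry Pretriangulated ZeroObject
attribute [local instance] HasDerivedCategory.standard

namespace Groth.Agent.Lib.Helper30.PCTriangle
open Groth.Agent.Lib.Helper30.PerfRestrict Groth.Agent.Lib.Helper30.PerfTriangle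
open Groth.Agent.Lib.Helper6

noncomputable section

variable {X U U' : Scheme.{u}}

/-- neighbourhoods of a point, given by open immersions -/
structure Nb (x : U) where
  V : Scheme.{u}
  j : V ⟶ U
  [hj : IsOpenImmersion j]
  y : V
  hy : j y = x

attribute [instance] Nb.hj

/-- an open containing `x` as a neighbourhood -/
def Nb.ofOpens {x : U} (W : U.Opens) (hx : x ∈ W) : Nb x := ⟨W, W.ι, ⟨x, hx⟩, rfl⟩

/-- composition of neighbourhoods -/
def Nb.comp {x : U} (n : Nb x) (n' : Nb n.y) : Nb x :=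
  ⟨n'.V, n'.j ≫ n.j, n'.y, by rw [Scheme.Hom.comp_apply, n'.hy, n.hy]⟩

lemma Nb.mem_range {x : U} (n : Nb x) : x ∈ Set.range n.j := ⟨n.y, n.hy⟩

lemma rD_comp_map_eq_zero (k : U' ⟶ U) (j : U ⟶ X) [IsOpenImmersion k] [IsOpenImmersion j]
    {K L : DCoh.D X} (γ : K ⟶ L) (h : (rD k).map ((rD j).map γ) = 0) :
    (rD (k ≫ j)).map γ = 0 := by
  have := (rDComp k j).hom.naturality γ
  rw [← cancel_mono ((rDComp k j).hom.app L), this]
  simp only [Functor.comp_map, h, comp_zero, zero_comp]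

/-- a map in `D` from a strictly perfect complex in degrees `≥ a` to an object with no cohomology
in degrees `≥ a` is locally zero -/
theorem locZero {E : CochainComplex U.Modules ℤ} (hE : DCoh.IsStrictlyPerfect E) (a : ℤ)
    (hEa : ∀ j : ℤ, j < a → IsZero (E.X j)) {C : DCoh.D U}
    (hC : ∀ i : ℤ, a ≤ i → IsZero ((DerivedCategory.homologyFunctor _ i).obj C))
    (γ : DerivedCategory.Q.obj E ⟶ C) (x : U) : ∃ n : Nb x, (rD n.j).map γ = 0 := by
  let F := DerivedCategory.Q.objPreimage C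
  let e : DerivedCategory.Q.obj F ≅ C := DerivedCategory.Q.objObjPreimageIso C
  have hF : ∀ i : ℤ, a ≤ i → IsZero (F.homology i) := fun i hi =>
    (hC i hi).of_iso (((DerivedCategory.homologyFunctorFactors _ i).app F).symm ≪≫
      (DerivedCategory.homologyFunctor _ i).mapIso e)
  let γ' : DCoh.toD U E ⟶ DCoh.toD U F := γ ≫ e.inv
  obtain ⟨W, hxW, hW⟩ := Groth.Agent.S0944.result hE γ' x
  obtain ⟨β, hβ⟩ := hW
  have hF' : ∀ i : ℤ, a ≤ i → IsZero (((rC W.ι).obj F).homology i) := fun i hi =>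
    ((Scheme.Modules.restrictFunctor W.ι).map_isZero (hF i hi)).of_iso
      ((ExactDC.homologyIsoCx (Scheme.Modules.restrictFunctor W.ι) i).app F)
  obtain ⟨W', hxW', ⟨H⟩⟩ := Groth.Agent.S0932.result β (isStrictlyPerfect_restrict W.ι E hE) a
    (fun j hj => (Scheme.Modules.restrictFunctor W.ι).map_isZero (hEa j hj)) hF' (⟨x, hxW⟩ : W)
  refine ⟨(Nb.ofOpens W hxW).comp (Nb.ofOpens W' hxW'), ?_⟩
  refine rD_comp_map_eq_zero W'.ι W.ι γ ?_
  have h1 : γ = γ' ≫ e.hom := by simp [γ']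
  have h2 : DerivedCategory.Q.map ((rC W'.ι).map β) = 0 := by
    rw [DerivedCategory.Q_map_eq_of_homotopy (h := H), Functor.map_zero]
  have h3 : (rD W'.ι).map (DerivedCategory.Q.map β) = 0 := by
    have := (rDQ W'.ι).hom.naturality β
    rw [← cancel_mono ((rDQ W'.ι).hom.app _)]
    erw [this]
    erw [h2]
    simp
  rw [h1, Functor.map_comp, Functor.map_comp, hβ]
  simp only [Functor.map_comp, h3, zero_comp, comp_zero]

/-- the cone of a map which is an iso on `H^j` for `j > a` and epi on `H^a` has no cohomology in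
degrees `≥ a` -/
lemma isZero_homology_cone {G F Z : DCoh.D U} (f : G ⟶ F) (g : F ⟶ Z) (h : Z ⟶ G⟦(1 : ℤ)⟧)
    (hT : Triangle.mk f g h ∈ distTriang _) (a : ℤ)
    (hf : ∀ j : ℤ, a < j → IsIso ((DerivedCategory.homologyFunctor _ j).map f))
    (hfa : Epi ((DerivedCategory.homologyFunctor _ a).map f)) (i : ℤ) (hi : a ≤ i) :
    IsZero ((DerivedCategory.homologyFunctor _ i).obj Z) := by
  have hepi : Epi ((DerivedCategory.homologyFunctor _ i).map f) := by
    rcases eq_or_lt_of_le hi with rfl | hi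
    · exact hfa
    · have := hf i hi; infer_instance
  have hmono : Mono ((DerivedCategory.homologyFunctor _ (i + 1)).map f) := by
    have := hf (i + 1) (by omega); infer_instance
  have h1 := (DerivedCategory.HomologySequence.epi_homologyMap_mor₁_iff _ hT i).mp hepi
  have h2 := (DerivedCategory.HomologySequence.mono_homologyMap_mor₁_iff _ hT i (i + 1) rfl).mp hmono
  exact (DerivedCategory.HomologySequence.exact₃ _ hT i (i + 1) rfl).isZero_of_both_zeros h1 h2

/-- local lifting in the derived category -/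
theorem locLift {E : CochainComplex U.Modules ℤ} (hE : DCoh.IsStrictlyPerfect E) (a : ℤ)
    (hEa : ∀ j : ℤ, j < a → IsZero (E.X j)) {G F : DCoh.D U} (f : G ⟶ F)
    (hf : ∀ j : ℤ, a < j → IsIso ((DerivedCategory.homologyFunctor _ j).map f))
    (hfa : Epi ((DerivedCategory.homologyFunctor _ a).map f))
    (α : DerivedCategory.Q.obj E ⟶ F) (x : U) :
    ∃ (n : Nb x) (β : (rD n.j).obj (DerivedCategory.Q.obj E) ⟶ (rD n.j).obj G),
      β ≫ (rD n.j).map f = (rD n.j).map α := by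
  obtain ⟨Z, g, h, hT⟩ := distinguished_cocone_triangle f
  obtain ⟨n, hn⟩ := locZero hE a hEa (isZero_homology_cone f g h hT a hf hfa) (α ≫ g) x
  refine ⟨n, ?_⟩
  have hT' := (rD n.j).map_distinguished _ hT
  obtain ⟨β, hβ⟩ := Triangle.coyoneda_exact₂ _ hT' ((rD n.j).map α)
    (by
      have h2 : (rD n.j).map α ≫ (rD n.j).map g = 0 := by rw [← Functor.map_comp, hn]
      exact h2)
  exact ⟨β, hβ.symm⟩

lemma isFinLocFree_of_isZero {M : U.Modules} (h : IsZero M) : FlatMod.IsFinLocFree M := by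
  intro x
  refine ⟨⊤, 0, trivial, ⟨(((Scheme.Modules.restrictFunctor (⊤ : U.Opens).ι).map_isZero h).iso ?_)⟩⟩
  exact (IsZero.iff_id_eq_zero _).mpr (Sigma.hom_ext _ _ (fun b => b.elim0))

lemma isStrictlyPerfect_zero : DCoh.IsStrictlyPerfect (0 : CochainComplex U.Modules ℤ) :=
  ⟨⟨0, 0, fun i _ => (HomologicalComplex.eval _ _ i).map_isZero (isZero_zero _)⟩,
    fun i => isFinLocFree_of_isZero ((HomologicalComplex.eval _ _ i).map_isZero (isZero_zero _))⟩

open Groth.Agent.Lib.Helper30.SigmaGE in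
lemma isStrictlyPerfect_sigmaGE (E : CochainComplex U.Modules ℤ) (hE : DCoh.IsStrictlyPerfect E)
    (m : ℤ) : DCoh.IsStrictlyPerfect (sigmaGE E m) := by
  obtain ⟨⟨a, b, hab⟩, hfl⟩ := hE
  refine ⟨⟨a, b, fun i hi => ?_⟩, fun i => ?_⟩
  · by_cases him : i < m
    · exact isZero_sigmaGE_X E m i him
    · have := isIso_ιGE_f E m i (by omega)
      exact (hab i hi).of_iso (asIso ((ιGE E m).f i))
  · by_cases him : i < m
    · exact isFinLocFree_of_isZero (isZero_sigmaGE_X E m i him)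
    · have := isIso_ιGE_f E m i (by omega)
      exact Groth.Agent.Lib.Helper14.isFinLocFree_of_iso (asIso ((ιGE E m).f i)).symm (hfl i)

lemma isIso_homology_map_Q_iff {K L : CochainComplex U.Modules ℤ} (φ : K ⟶ L) (i : ℤ) :
    IsIso ((DerivedCategory.homologyFunctor _ i).map (DerivedCategory.Q.map φ)) ↔
      IsIso (HomologicalComplex.homologyMap φ i) :=
  NatIso.isIso_map_iff (DerivedCategory.homologyFunctorFactors U.Modules i) φ

lemma epi_homology_map_Q_iff {K L : CochainComplex U.Modules ℤ} (φ : K ⟶ L) (i : ℤ) :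
    Epi ((DerivedCategory.homologyFunctor _ i).map (DerivedCategory.Q.map φ)) ↔
      Epi (HomologicalComplex.homologyMap φ i) :=
  (MorphismProperty.epimorphisms U.Modules).arrow_iso_iff
    (((Functor.mapArrowFunctor _ _).mapIso
      (DerivedCategory.homologyFunctorFactors U.Modules i)).app (Arrow.mk φ))

open Groth.Agent.Lib.Helper30.SigmaGE in
/-- an `m`-pseudo-coherence witness may be taken with terms zero below `m` -/
lemma PCObj.exists_ge {m : ℤ} {L : DCoh.D U} (h : PCObj m L) :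
    ∃ (E : CochainComplex U.Modules ℤ) (α : DerivedCategory.Q.obj E ⟶ L),
      DCoh.IsStrictlyPerfect E ∧ (∀ j : ℤ, j < m → IsZero (E.X j)) ∧
      (∀ i : ℤ, m < i → IsIso ((DerivedCategory.homologyFunctor _ i).map α)) ∧
      Epi ((DerivedCategory.homologyFunctor _ m).map α) := by
  obtain ⟨E, α, hE, h1, h2⟩ := h
  refine ⟨sigmaGE E m, DerivedCategory.Q.map (ιGE E m) ≫ α, isStrictlyPerfect_sigmaGE E hE m,
    fun j hj => isZero_sigmaGE_X E m j hj, fun i hi => ?_, ?_⟩
  · have := h1 i hi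
    have := (isIso_homology_map_Q_iff (ιGE E m) i).mpr (isIso_homologyMap_ιGE E m i hi)
    rw [Functor.map_comp]
    infer_instance
  · have := (epi_homology_map_Q_iff (ιGE E m) m).mpr (epi_homologyMap_ιGE E m m le_rfl)
    rw [Functor.map_comp]
    infer_instance

lemma perfObj_Q {E : CochainComplex U.Modules ℤ} (hE : DCoh.IsStrictlyPerfect E) :
    PerfObj (DerivedCategory.Q.obj E) := ⟨E, hE, ⟨Iso.refl _⟩⟩

/-- local form of two-out-of-three for pseudo-coherence, part (1) -/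
theorem exists_pcObj_obj₃ (T : Triangle (DCoh.D U)) (hT : T ∈ distTriang _) (m : ℤ)
    (h1 : PCObj (m + 1) T.obj₁) (h2 : PCObj m T.obj₂) (x : U) :
    ∃ n : Nb x, PCObj m ((rD n.j).obj T.obj₃) := by
  obtain ⟨P, α, hP, hPz, hα, hα'⟩ := PCObj.exists_ge h1
  obtain ⟨Q', β, hQ, hβ, hβ'⟩ := h2
  obtain ⟨n₁, γ, hγ⟩ := locLift hP (m + 1) hPz β (fun j hj => hβ j (by omega))
    (by have := hβ (m + 1) (by omega); infer_instance) (α ≫ T.mor₁) x
  obtain ⟨Z, g, h, hT₀⟩ := distinguished_cocone_triangle γ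
  obtain ⟨W, hW, hZ⟩ := exists_perfObj_obj₃ (Triangle.mk γ g h) hT₀
    ((perfObj_Q hP).restrict n₁.j) ((perfObj_Q hQ).restrict n₁.j) n₁.y
  have hT' := (rD n₁.j).map_distinguished T hT
  obtain ⟨c, hc₁, hc₂⟩ := complete_distinguished_triangle_morphism (Triangle.mk γ g h)
    ((rD n₁.j).mapTriangle.obj T) hT₀ hT' ((rD n₁.j).map α) ((rD n₁.j).map β)
    (by rw [Functor.map_comp] at hγ; exact hγ)
  let φ : Triangle.mk γ g h ⟶ (rD n₁.j).mapTriangle.obj T :=
    { hom₁ := (rD n₁.j).map α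
      hom₂ := (rD n₁.j).map β
      hom₃ := c
      comm₁ := by rw [Functor.map_comp] at hγ; exact hγ
      comm₂ := hc₁
      comm₃ := hc₂ }
  obtain ⟨hc, hc'⟩ := Groth.Agent.Lib.Helper30.TriFive.tri_five _ _ hT₀ hT' φ m
    (fun i hi => ExactDC.isIso_homology_map (F := Scheme.Modules.restrictFunctor n₁.j) α i (hα i hi))
    (ExactDC.epi_homology_map (F := Scheme.Modules.restrictFunctor n₁.j) α (m + 1) hα')
    (fun i hi => ExactDC.isIso_homology_map (F := Scheme.Modules.restrictFunctor n₁.j) β i (hβ i hi))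
    (ExactDC.epi_homology_map (F := Scheme.Modules.restrictFunctor n₁.j) β m hβ')
  have key : PCObj m ((rD W.ι).obj ((rD n₁.j).obj T.obj₃)) := by
    obtain ⟨E'', hE'', ⟨f⟩⟩ := hZ
    refine ⟨E'', f.inv ≫ (rD W.ι).map c, hE'', fun i hi => ?_, ?_⟩
    · have h5 := ExactDC.isIso_homology_map (F := Scheme.Modules.restrictFunctor W.ι) c i (hc i hi)
      rw [Functor.map_comp]
      have h6 : IsIso ((DerivedCategory.homologyFunctor (↑W : Scheme.{u}).Modules i).map f.inv) :=
        inferInstance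
      exact @IsIso.comp_isIso _ _ _ _ _ _ _ h6 h5
    · have h5 := ExactDC.epi_homology_map (F := Scheme.Modules.restrictFunctor W.ι) c m hc'
      rw [Functor.map_comp]
      have h6 : Epi ((DerivedCategory.homologyFunctor (↑W : Scheme.{u}).Modules m).map f.inv) :=
        inferInstance
      exact @epi_comp _ _ _ _ _ _ h6 _ h5
  exact ⟨n₁.comp (Nb.ofOpens W hW), PCObj.of_iso ((rDComp W.ι n₁.j).app T.obj₃).symm key⟩

lemma isIso_homology_shift_iff {K L : DCoh.D U} (α : K ⟶ L) (n i i' : ℤ) (h : n + i = i') :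
    IsIso ((DerivedCategory.homologyFunctor _ i).map (α⟦n⟧')) ↔
      IsIso ((DerivedCategory.homologyFunctor _ i').map α) :=
  NatIso.isIso_map_iff ((DerivedCategory.homologyFunctor U.Modules 0).shiftIso n i i' h) α

lemma epi_homology_shift_iff {K L : DCoh.D U} (α : K ⟶ L) (n i i' : ℤ) (h : n + i = i') :
    Epi ((DerivedCategory.homologyFunctor _ i).map (α⟦n⟧')) ↔
      Epi ((DerivedCategory.homologyFunctor _ i').map α) :=
  (MorphismProperty.epimorphisms U.Modules).arrow_iso_iff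
    (((Functor.mapArrowFunctor _ _).mapIso
      ((DerivedCategory.homologyFunctor U.Modules 0).shiftIso n i i' h)).app (Arrow.mk α))

lemma PCObj.shift {m : ℤ} {L : DCoh.D U} (h : PCObj m L) (n : ℤ) : PCObj (m - n) (L⟦n⟧) := by
  obtain ⟨E, α, hE, h1, h2⟩ := h
  refine ⟨E⟦n⟧, (DerivedCategory.Q.commShiftIso n).hom.app E ≫ α⟦n⟧',
    isStrictlyPerfect_shift E n hE, fun i hi => ?_, ?_⟩
  · have h5 := (isIso_homology_shift_iff α n i (n + i) rfl).mpr (h1 _ (by omega))
    rw [Functor.map_comp]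
    have h6 : IsIso ((DerivedCategory.homologyFunctor U.Modules i).map
        ((DerivedCategory.Q.commShiftIso n).hom.app E)) := inferInstance
    exact @IsIso.comp_isIso _ _ _ _ _ _ _ h6 h5
  · have h5 := (epi_homology_shift_iff α n (m - n) m (by omega)).mpr h2
    rw [Functor.map_comp]
    have h6 : Epi ((DerivedCategory.homologyFunctor U.Modules (m - n)).map
        ((DerivedCategory.Q.commShiftIso n).hom.app E)) := inferInstance
    exact @epi_comp _ _ _ _ _ _ h6 _ h5

lemma PCObj.mono {m m' : ℤ} (hm : m ≤ m') {L : DCoh.D U} (h : PCObj m L) : PCObj m' L := by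
  obtain ⟨E, α, hE, h1, h2⟩ := h
  refine ⟨E, α, hE, fun i hi => h1 i (by omega), ?_⟩
  rcases eq_or_lt_of_le hm with rfl | hm
  · exact h2
  · have := h1 m' hm; infer_instance

theorem isPseudoCoherentD_mono {m m' : ℤ} (hm : m ≤ m') (K : DCoh.D X)
    (h : DCoh.IsPseudoCoherentD m K) : DCoh.IsPseudoCoherentD m' K := by
  rw [isPseudoCoherentD_iff] at h ⊢
  intro x
  obtain ⟨V, hxV, hV⟩ := h x
  exact ⟨V, hxV, PCObj.mono hm hV⟩

theorem isPseudoCoherentD_shift (K : DCoh.D X) (m n : ℤ) (h : DCoh.IsPseudoCoherentD m K) :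
    DCoh.IsPseudoCoherentD (m - n) (K⟦n⟧) := by
  rw [isPseudoCoherentD_iff] at h ⊢
  intro x
  obtain ⟨V, hxV, hV⟩ := h x
  exact ⟨V, hxV, PCObj.of_iso (((rD V.ι).commShiftIso n).app K).symm (PCObj.shift hV n)⟩

theorem isPseudoCoherentD_of_iso {K K' : DCoh.D X} (e : K ≅ K') (m : ℤ)
    (h : DCoh.IsPseudoCoherentD m K) : DCoh.IsPseudoCoherentD m K' := by
  rw [isPseudoCoherentD_iff] at h ⊢
  intro x
  obtain ⟨V, hxV, hV⟩ := h x
  exact ⟨V, hxV, PCObj.of_iso ((rD V.ι).mapIso e) hV⟩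

/-- two-out-of-three for pseudo-coherence, part (1) -/
theorem isPseudoCoherentD_obj₃ (T : Triangle (DCoh.D X)) (hT : T ∈ distTriang _) (m : ℤ)
    (h1 : DCoh.IsPseudoCoherentD (m + 1) T.obj₁) (h2 : DCoh.IsPseudoCoherentD m T.obj₂) :
    DCoh.IsPseudoCoherentD m T.obj₃ := by
  rw [isPseudoCoherentD_iff] at h1 h2
  apply isPseudoCoherentD_of_openImmersions
  intro x
  obtain ⟨V₁, hxV₁, hV₁⟩ := h1 x
  obtain ⟨V₂, hxV₂, hV₂⟩ := h2 x
  let V : X.Opens := V₁ ⊓ V₂
  have hxV : x ∈ V := ⟨hxV₁, hxV₂⟩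
  have hV₁' : PCObj (m + 1) ((rD V.ι).obj T.obj₁) := PCObj.of_le inf_le_left hV₁
  have hV₂' : PCObj m ((rD V.ι).obj T.obj₂) := PCObj.of_le inf_le_right hV₂
  obtain ⟨n, hn⟩ := exists_pcObj_obj₃ ((rD V.ι).mapTriangle.obj T)
    ((rD V.ι).map_distinguished T hT) m hV₁' hV₂' (⟨x, hxV⟩ : V)
  refine ⟨n.V, n.j ≫ V.ι, inferInstance, ⟨n.y, ?_⟩, ?_⟩
  · rw [Scheme.Hom.comp_apply, n.hy]
    rfl
  · exact PCObj.of_iso ((rDComp n.j V.ι).app T.obj₃).symm hn

end

end Groth.Agent.Lib.Helper30.PCTriangle
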