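import Mathlib
import Groth.Agent.Lib.Helper30.PCTriangle

set_option autoImplicit false
universe u
open CategoryTheory Limits Opposite TopologicalSpace AlgebraicGeometry Pretriangulated ZeroObject
attribute [local instance] HasDerivedCategory.standard

namespace Groth.Agent.Lib.Helper30.PCSummand
open Groth.Agent.Lib.Helper30.PerfRestrict Groth.Agent.Lib.Helper30.PerfTriangle
open Groth.Agent.Lib.Helper30.PCTriangle
open Groth.Agent.Lib.Helper6

noncomputable section

variable {X U U' : Scheme.{u}}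

theorem isPseudoCoherentD_of_pcObj {m : ℤ} {L : DCoh.D U} (h : PCObj m L) :
    DCoh.IsPseudoCoherentD m L := by
  rw [isPseudoCoherentD_iff]
  intro x
  exact ⟨⊤, trivial, h.restrict _⟩

/-- an object with no cohomology in degrees `≥ N` is `N`-pseudo-coherent -/
lemma pcObj_of_isZero_homology {N : ℤ} {L : DCoh.D U}
    (h : ∀ i : ℤ, N ≤ i → IsZero ((DerivedCategory.homologyFunctor _ i).obj L)) : PCObj N L := by
  have hz : IsZero (DerivedCategory.Q.obj (0 : CochainComplex U.Modules ℤ)) :=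
    DerivedCategory.Q.map_isZero (isZero_zero _)
  refine ⟨0, 0, isStrictlyPerfect_zero, fun i hi => ?_, ?_⟩
  · have h1 : IsZero ((DerivedCategory.homologyFunctor U.Modules i).obj
        (DerivedCategory.Q.obj (0 : CochainComplex U.Modules ℤ))) :=
      (DerivedCategory.homologyFunctor U.Modules i).map_isZero hz
    have h2 := h i hi.le
    exact ⟨⟨0, h1.eq_of_src _ _, h2.eq_of_src _ _⟩⟩
  · exact ⟨fun _ _ _ => (h N le_rfl).eq_of_src _ _⟩

lemma isZero_homology_of_biprod_left {K L : DCoh.D U} [HasBinaryBiproduct K L] (i : ℤ)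
    (h : IsZero ((DerivedCategory.homologyFunctor _ i).obj (K ⊞ L))) :
    IsZero ((DerivedCategory.homologyFunctor _ i).obj K) := by
  rw [IsZero.iff_id_eq_zero]
  have : 𝟙 ((DerivedCategory.homologyFunctor U.Modules i).obj K) =
      (DerivedCategory.homologyFunctor U.Modules i).map (biprod.inl : K ⟶ K ⊞ L) ≫
        (DerivedCategory.homologyFunctor U.Modules i).map (biprod.fst : K ⊞ L ⟶ K) := by
    rw [← Functor.map_comp, biprod.inl_fst (X := K) (Y := L), CategoryTheory.Functor.map_id]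
  rw [this, h.eq_of_tgt ((DerivedCategory.homologyFunctor U.Modules i).map (biprod.inl : K ⟶ K ⊞ L)) 0, zero_comp]

lemma isZero_homology_of_biprod_right {K L : DCoh.D U} [HasBinaryBiproduct K L] (i : ℤ)
    (h : IsZero ((DerivedCategory.homologyFunctor _ i).obj (K ⊞ L))) :
    IsZero ((DerivedCategory.homologyFunctor _ i).obj L) := by
  rw [IsZero.iff_id_eq_zero]
  have : 𝟙 ((DerivedCategory.homologyFunctor U.Modules i).obj L) =
      (DerivedCategory.homologyFunctor U.Modules i).map (biprod.inr : L ⟶ K ⊞ L) ≫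
        (DerivedCategory.homologyFunctor U.Modules i).map (biprod.snd : K ⊞ L ⟶ L) := by
    rw [← Functor.map_comp, biprod.inr_snd (X := K) (Y := L), CategoryTheory.Functor.map_id]
  rw [this, h.eq_of_tgt ((DerivedCategory.homologyFunctor U.Modules i).map (biprod.inr : L ⟶ K ⊞ L)) 0, zero_comp]

/-- summands of a bounded above `m`-pseudo-coherent object -/
theorem summands_of_bounded (m N : ℤ) (K L : DCoh.D U) [HasBinaryBiproduct K L]
    (hS : DCoh.IsPseudoCoherentD m (K ⊞ L))
    (hN : ∀ i : ℤ, N ≤ i → IsZero ((DerivedCategory.homologyFunctor _ i).obj (K ⊞ L))) (k : ℕ) :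
    m ≤ N - k → DCoh.IsPseudoCoherentD (N - k) K ∧ DCoh.IsPseudoCoherentD (N - k) L := by
  induction k with
  | zero =>
    intro _
    simp only [Nat.cast_zero, sub_zero]
    exact ⟨isPseudoCoherentD_of_pcObj (pcObj_of_isZero_homology
        (fun i hi => isZero_homology_of_biprod_left i (hN i hi))),
      isPseudoCoherentD_of_pcObj (pcObj_of_isZero_homology
        (fun i hi => isZero_homology_of_biprod_right i (hN i hi)))⟩
  | succ k ih =>
    intro hk
    push_cast at hk ⊢
    obtain ⟨hK, hL⟩ := ih (by omega)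
    have e : N - (k : ℤ) = (N - ((k : ℤ) + 1)) + 1 := by omega
    rw [e] at hK hL
    have hS' : DCoh.IsPseudoCoherentD (N - ((k : ℤ) + 1)) (K ⊞ L) :=
      isPseudoCoherentD_mono hk _ hS
    constructor
    · have hS'' : DCoh.IsPseudoCoherentD (N - ((k : ℤ) + 1)) (L ⊞ K) :=
        isPseudoCoherentD_of_iso (biprod.braiding K L) _ hS'
      exact isPseudoCoherentD_obj₃ (binaryBiproductTriangle L K)
        (binaryBiproductTriangle_distinguished L K) _ hL hS''
    · exact isPseudoCoherentD_obj₃ (binaryBiproductTriangle K L)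
        (binaryBiproductTriangle_distinguished K L) _ hK hS'

lemma isZero_homology_Q_of_isZero_X (E : CochainComplex U.Modules ℤ) (i : ℤ)
    (h : IsZero (E.X i)) : IsZero ((DerivedCategory.homologyFunctor _ i).obj (DerivedCategory.Q.obj E)) :=
  (ShortComplex.isZero_homology_of_isZero_X₂ _ h).of_iso
    ((DerivedCategory.homologyFunctorFactors U.Modules i).app E)

/-- local form: near every point both summands are pseudo-coherent -/
theorem exists_pcObj_summands (m : ℤ) (K L : DCoh.D X) [HasBinaryBiproduct K L]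
    (h : DCoh.IsPseudoCoherentD m (K ⊞ L)) (x : X) :
    ∃ (U : Scheme.{u}) (j : U ⟶ X) (_ : IsOpenImmersion j), x ∈ Set.range j ∧
      PCObj m ((rD j).obj K) ∧ PCObj m ((rD j).obj L) := by
  rw [isPseudoCoherentD_iff] at h
  obtain ⟨V, hxV, hV⟩ := h x
  let K' := (rD V.ι).obj K
  let L' := (rD V.ι).obj L
  have := preservesBinaryBiproducts_of_preservesBiproducts (rD V.ι)
  let e : (rD V.ι).obj (K ⊞ L) ≅ K' ⊞ L' := (rD V.ι).mapBiprod K L
  have hV' : PCObj m (K' ⊞ L') := hV.of_iso e
  have hS' : DCoh.IsPseudoCoherentD m (K' ⊞ L') := isPseudoCoherentD_of_pcObj hV'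
  obtain ⟨E, α, ⟨⟨a, b, hab⟩, -⟩, h1, -⟩ := hV'
  let N : ℤ := max b m + 1
  have hN : ∀ i : ℤ, N ≤ i →
      IsZero ((DerivedCategory.homologyFunctor _ i).obj (K' ⊞ L')) := fun i hi => by
    have hb : b < i := lt_of_le_of_lt (le_max_left b m) (by omega)
    have hm : m < i := lt_of_le_of_lt (le_max_right b m) (by omega)
    have := h1 i hm
    exact (isZero_homology_Q_of_isZero_X E i (hab i (Or.inr hb))).of_iso
      (asIso ((DerivedCategory.homologyFunctor _ i).map α)).symm
  have hmN : m ≤ N := le_trans (le_max_right b m) (by omega)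
  have hk : N - ((N - m).toNat : ℤ) = m := by
    have := Int.toNat_of_nonneg (show 0 ≤ N - m by omega)
    omega
  obtain ⟨hK, hL⟩ := summands_of_bounded m N K' L' hS' hN (N - m).toNat (by omega)
  rw [hk, isPseudoCoherentD_iff] at hK hL
  obtain ⟨W₁, hW₁, hK'⟩ := hK ⟨x, hxV⟩
  obtain ⟨W₂, hW₂, hL'⟩ := hL ⟨x, hxV⟩
  let W : (V : Scheme.{u}).Opens := W₁ ⊓ W₂
  refine ⟨W, W.ι ≫ V.ι, inferInstance, ⟨⟨⟨x, hxV⟩, ⟨hW₁, hW₂⟩⟩, rfl⟩, ?_, ?_⟩
  · exact PCObj.of_iso ((rDComp W.ι V.ι).app K).symm (PCObj.of_le inf_le_left hK')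
  · exact PCObj.of_iso ((rDComp W.ι V.ι).app L).symm (PCObj.of_le inf_le_right hL')

theorem summands (m : ℤ) (K L : DCoh.D X) [HasBinaryBiproduct K L]
    (h : DCoh.IsPseudoCoherentD m (K ⊞ L)) :
    DCoh.IsPseudoCoherentD m K ∧ DCoh.IsPseudoCoherentD m L := by
  constructor
  · apply isPseudoCoherentD_of_openImmersions
    intro x
    obtain ⟨U, j, hj, hx, hK, -⟩ := exists_pcObj_summands m K L h x
    exact ⟨U, j, hj, hx, hK⟩
  · apply isPseudoCoherentD_of_openImmersions
    intro x
    obtain ⟨U, j, hj, hx, -, hL⟩ := exists_pcObj_summands m K L h x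
    exact ⟨U, j, hj, hx, hL⟩

end

end Groth.Agent.Lib.Helper30.PCSummand
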