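import Mathlib
import Groth.Agent.Lib.Helper30.PerfRestrict
import Groth.Agent.Lib.Helper49.FinLocFreeRetract
import Groth.Agent.Lib.Helper49.FinitePresentation2
import Groth.Agent.Lib.Helper49.FiniteTypeLocal
import Groth.Agent.S4652
import Groth.Agent.S0934

set_option autoImplicit false
universe u
open CategoryTheory Limits Opposite TopologicalSpace AlgebraicGeometry
attribute [local instance] HasDerivedCategory.standard

namespace Groth.Agent.Lib.Helper30.StrictPerfHomology
open Groth.Agent.Lib.Helper30.PerfRestrict Groth.Agent.Lib.Helper49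

noncomputable section

variable {X : Scheme.{u}}

/-- finite local freeness is local -/
theorem isFinLocFree_of_forall_restrict (M : X.Modules)
    (h : ∀ x : X, ∃ V : X.Opens, x ∈ V ∧ FlatMod.IsFinLocFree (M.restrict V.ι)) :
    FlatMod.IsFinLocFree M := by
  intro x
  obtain ⟨V, hxV, hV⟩ := h x
  obtain ⟨W, n, hxW, ⟨φ⟩⟩ := hV ⟨x, hxV⟩
  let f : (W : Scheme.{u}) ⟶ X := W.ι ≫ V.ι
  let φ' : M.restrict f ≅ FlatMod.freeMod (↑W) n :=
    (Scheme.Modules.restrictFunctorComp W.ι V.ι).app M ≪≫ φ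
  obtain ⟨ψ⟩ := Groth.Agent.S4652.nonempty_iso_freeMod_opensRange M f n φ'
  exact ⟨f.opensRange, n, ⟨⟨⟨x, hxV⟩, hxW⟩, rfl⟩, ⟨ψ⟩⟩

/-- the kernel of an epimorphism between finite locally free modules is finite locally free -/
theorem isFinLocFree_kernel_of_epi {F G : X.Modules} (p : F ⟶ G) [Epi p]
    (hF : FlatMod.IsFinLocFree F) (hG : FlatMod.IsFinLocFree G) :
    FlatMod.IsFinLocFree (kernel p) := by
  apply isFinLocFree_of_forall_restrict
  intro x
  obtain ⟨V, s, hxV, hs⟩ := Groth.Agent.S0934.result p (𝟙 G) hG x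
  refine ⟨V, hxV, ?_⟩
  let rV := Scheme.Modules.restrictFunctor V.ι
  let p' : rV.obj F ⟶ rV.obj G := rV.map p
  have hs' : s ≫ p' = 𝟙 _ := by rw [hs]; exact rV.map_id G
  let r : rV.obj F ⟶ kernel p' := kernel.lift p' (𝟙 _ - p' ≫ s) (by
    rw [Preadditive.sub_comp, Category.id_comp, Category.assoc, hs', Category.comp_id, sub_self])
  have hr : kernel.ι p' ≫ r = 𝟙 _ := by
    apply equalizer.hom_ext
    simp only [r, Category.assoc, kernel.lift_ι, Preadditive.comp_sub, Category.comp_id,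
      kernel.condition_assoc, zero_comp, sub_zero, Category.id_comp]
  have h1 : FlatMod.IsFinLocFree (kernel p') :=
    isFinLocFree_of_retract (kernel.ι p') r hr (isFinLocFree_restrict V.ι F hF)
  exact Groth.Agent.Lib.Helper14.isFinLocFree_of_iso (PreservesKernel.iso rV p).symm h1

/-- the cokernel of a map of finite free modules has a finite presentation -/
theorem exists_finite_presentation_cokernel_free {n k : ℕ}
    (φ : FlatMod.freeMod X n ⟶ FlatMod.freeMod X k) :
    ∃ P : (cokernel φ).Presentation, P.IsFinite := by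
  let A : X.Modules := SheafOfModules.free (R := X.ringCatSheaf) (ULift.{u} (Fin n))
  let B : X.Modules := SheafOfModules.free (R := X.ringCatSheaf) (ULift.{u} (Fin k))
  let eA : FlatMod.freeMod X n ≅ A := freeModIsoFree X n
  let eB : FlatMod.freeMod X k ≅ B := freeModIsoFree X k
  let f : A ⟶ B := eA.inv ≫ φ ≫ eB.hom
  let g : B ⟶ cokernel φ := eB.inv ≫ cokernel.π φ
  have H : f ≫ g = 0 := by simp [f, g]
  have H' : IsColimit (CokernelCofork.ofπ g H) := by
    refine CokernelCofork.IsColimit.ofπ _ _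
      (fun {Z} a ha => cokernel.desc φ (eB.hom ≫ a) ?_) ?_ ?_
    · have : eA.inv ≫ φ ≫ eB.hom ≫ a = 0 := by
        simpa [f] using ha
      rw [← cancel_epi eA.inv, this, comp_zero]
    · intro Z a ha
      simp [g]
    · intro Z a ha b hb
      rw [← cancel_epi (cokernel.π φ), ← cancel_epi eB.inv]
      simpa [g] using hb
  refine ⟨SheafOfModules.presentationOfIsCokernelFree f g H H', ?_⟩
  exact { isFiniteType_generators := ⟨inferInstanceAs (Finite (ULift.{u} (Fin k)))⟩
          isFiniteType_relations := ⟨inferInstanceAs (Finite (ULift.{u} (Fin n)))⟩ }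

/-- the cokernel of a map between finite locally free modules is finitely presented -/
theorem isFP_cokernel {F G : X.Modules} (φ : F ⟶ G)
    (hF : FlatMod.IsFinLocFree F) (hG : FlatMod.IsFinLocFree G) : CohB1.IsFP (cokernel φ) := by
  have key : ∀ x : X, ∃ V : X.Opens, x ∈ V ∧
      ∃ P : ((cokernel φ).restrict V.ι).Presentation, P.IsFinite := by
    intro x
    obtain ⟨V₁, n, hx₁, ⟨e₁⟩⟩ := hF x
    obtain ⟨V₂, k, hx₂, ⟨e₂⟩⟩ := hG x
    let V : X.Opens := V₁ ⊓ V₂
    let eF := isoFreeOfLE (inf_le_left : V ≤ V₁) F n e₁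
    let eG := isoFreeOfLE (inf_le_right : V ≤ V₂) G k e₂
    refine ⟨V, ⟨hx₁, hx₂⟩, ?_⟩
    let rV := Scheme.Modules.restrictFunctor V.ι
    let ψ : FlatMod.freeMod (↑V) n ⟶ FlatMod.freeMod (↑V) k := eF.inv ≫ rV.map φ ≫ eG.hom
    obtain ⟨P, hP⟩ := exists_finite_presentation_cokernel_free ψ
    let c : cokernel ψ ≅ (cokernel φ).restrict V.ι :=
      cokernel.mapIso ψ (rV.map φ) eF.symm eG.symm (by simp [ψ]) ≪≫
        (PreservesCokernel.iso rV φ).symm
    exact ⟨P.ofIsIso c.hom, inferInstance⟩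
  choose V hxV hP using key
  exact isFinitePresentation_of_forall_restrict (cokernel φ) (fun x : X => (V x : Scheme.{u}))
    (fun x => (V x).ι) (fun x => ⟨x, ⟨⟨x, hxV x⟩, rfl⟩⟩) hP

lemma isFinLocFree_of_isZero {M : X.Modules} (h : IsZero M) : FlatMod.IsFinLocFree M := by
  intro x
  refine ⟨⊤, 0, trivial, ⟨(((Scheme.Modules.restrictFunctor (⊤ : X.Opens).ι).map_isZero h).iso ?_)⟩⟩
  exact (IsZero.iff_id_eq_zero _).mpr (Sigma.hom_ext _ _ (fun b => b.elim0))

/-- the map `E^j ⟶ Z^{j+1}` -/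
abbrev toZ (E : CochainComplex X.Modules ℤ) (j : ℤ) :
    E.X j ⟶ kernel (E.d (j + 1) (j + 1 + 1)) :=
  kernel.lift (E.d (j + 1) (j + 1 + 1)) (E.d j (j + 1)) (E.d_comp_d _ _ _)

lemma epi_toZ (E : CochainComplex X.Modules ℤ) (j : ℤ) (h : IsZero (E.homology (j + 1))) :
    Epi (toZ E j) := by
  have h1 : (E.sc' j (j + 1) (j + 1 + 1)).Exact :=
    (E.exactAt_iff' j (j + 1) (j + 1 + 1) (by simp) (by simp)).mp
      ((E.exactAt_iff_isZero_homology (j + 1)).mpr h)
  exact (ShortComplex.exact_iff_epi_kernel_lift _).mp h1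

/-- in a strictly perfect complex with no cohomology above degree `n`, the cycles in degrees `≥ n`
are finite locally free -/
lemma isFinLocFree_cycles (E : CochainComplex X.Modules ℤ) (hfl : ∀ i, FlatMod.IsFinLocFree (E.X i))
    (b : ℤ) (hb : ∀ i, b < i → IsZero (E.X i)) (n : ℤ)
    (h : ∀ i, n < i → IsZero (E.homology i)) (k : ℕ) :
    ∀ j : ℤ, j + k = b + 1 → n ≤ j → FlatMod.IsFinLocFree (kernel (E.d j (j + 1))) := by
  induction k with
  | zero =>
    intro j hj _
    have hz : IsZero (E.X j) := hb j (by simp at hj; omega)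
    exact isFinLocFree_of_isZero (IsZero.of_mono (kernel.ι _) hz)
  | succ k ih =>
    intro j hj hn
    have h1 := ih (j + 1) (by push_cast at hj; omega) (by omega)
    have := epi_toZ E j (h (j + 1) (by omega))
    have h2 := isFinLocFree_kernel_of_epi (toZ E j) (hfl j) h1
    have e : kernel (toZ E j) ≅ kernel (E.d j (j + 1)) :=
      (kernelCompMono (toZ E j) (kernel.ι _)).symm ≪≫
        kernelIsoOfEq (kernel.lift_ι _ _ _)
    exact Groth.Agent.Lib.Helper14.isFinLocFree_of_iso e h2

/-- the top cohomology sheaf of a strictly perfect complex is finitely presented -/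
theorem isFP_homology_top (E : CochainComplex X.Modules ℤ) (hE : DCoh.IsStrictlyPerfect E) (n : ℤ)
    (h : ∀ i, n < i → IsZero (E.homology i)) : CohB1.IsFP (E.homology n) := by
  obtain ⟨⟨a, b, hab⟩, hfl⟩ := hE
  have hb : ∀ i, b < i → IsZero (E.X i) := fun i hi => hab i (Or.inr hi)
  have hZ : FlatMod.IsFinLocFree (kernel (E.d n (n + 1))) := by
    by_cases hnb : n ≤ b + 1
    · have := Int.toNat_of_nonneg (show 0 ≤ b + 1 - n by omega)
      exact isFinLocFree_cycles E hfl b hb n h (b + 1 - n).toNat n (by omega) le_rfl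
    · exact isFinLocFree_of_isZero (IsZero.of_mono (kernel.ι _) (hb n (by omega)))
  let S := E.sc' (n - 1) n (n + 1)
  have e : E.homology n ≅ cokernel (kernel.lift S.g S.f S.zero) :=
    E.homologyIsoSc' (n - 1) n (n + 1) (by simp) (by simp) ≪≫ S.homologyIsoCokernelLift
  have h1 : CohB1.IsFP (cokernel (kernel.lift S.g S.f S.zero)) :=
    isFP_cokernel _ (hfl (n - 1)) hZ
  exact isFinitePresentation_of_iso e.symm h1

end

end Groth.Agent.Lib.Helper30.StrictPerfHomology
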