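import Mathlib
import Groth.Agent.Lib.Helper30.StrictPerfHomology
import Groth.Agent.Lib.Helper49.FlatSES
import Groth.Agent.Lib.Helper49.FinLocFree
import Groth.Agent.Lib.Helper12.FlatOverSections

set_option autoImplicit false
universe u
open CategoryTheory Limits Opposite TopologicalSpace AlgebraicGeometry

namespace Groth.Agent.Lib.Helper30.FlatRestrict
open Groth.Agent.Lib.Helper49

noncomputable section

variable {X U : Scheme.{u}}

/-- the stalk map of an open immersion sends the germ of `(j.appIso V).inv r` to the germ of `r` -/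
lemma stalkMap_germ_appIso_inv (j : U ⟶ X) [IsOpenImmersion j] (V : U.Opens) (y : U) (hy : y ∈ V)
    (r : Γ(U, V)) :
    (j.stalkMap y).hom (X.presheaf.germ (j ''ᵁ V) (j y) ⟨y, hy, rfl⟩ ((j.appIso V).inv r)) =
      U.presheaf.germ V y hy r := by
  have h1 := Scheme.Hom.germ_stalkMap_apply j (j ''ᵁ V) y ⟨y, hy, rfl⟩ ((j.appIso V).inv r)
  refine h1.trans ?_
  have h2 := Scheme.Hom.appIso_inv_app_apply j V r
  rw [h2]
  exact TopCat.Presheaf.germ_res_apply U.presheaf _ y _ r

lemma restrictStalkIso_germ (j : U ⟶ X) [IsOpenImmersion j] (M : X.Modules) (y : U) (V : U.Opens)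
    (hy : y ∈ V) (s : Γ((Scheme.Modules.restrictFunctor j).obj M, V)) :
    (restrictStalkIso j M y).hom.hom
      (((Scheme.Modules.restrictFunctor j).obj M).presheaf.germ V y hy s) =
      M.presheaf.germ (j ''ᵁ V) (j y) ⟨y, hy, rfl⟩ s := by
  have := Scheme.Modules.germ_restrictStalkNatIso_hom_app j y M (U := V) hy
  exact congrArg (fun g => g.hom s) this

/-- semilinearity of the identification of stalks of a restriction -/
lemma restrictStalk_semilinear' (j : U ⟶ X) [IsOpenImmersion j] (M : X.Modules) (y : U)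
    (r' : U.presheaf.stalk y)
    (a : ((Scheme.Modules.restrictFunctor j).obj M).presheaf.stalk y) :
    ∃ r : X.presheaf.stalk (j y), (j.stalkMap y).hom r = r' ∧
    (restrictStalkIso j M y).hom.hom (r' • a) = r • (restrictStalkIso j M y).hom.hom a := by
  obtain ⟨V₁, hy₁, r₁, rfl⟩ := TopCat.Presheaf.exists_germ_eq U.presheaf r'
  obtain ⟨V₂, hy₂, a₂, rfl⟩ := TopCat.Presheaf.exists_germ_eq
    ((Scheme.Modules.restrictFunctor j).obj M).presheaf a
  have hyW : y ∈ V₁ ⊓ V₂ := ⟨hy₁, hy₂⟩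
  let N := (Scheme.Modules.restrictFunctor j).obj M
  let r₀ : Γ(U, V₁ ⊓ V₂) := U.presheaf.map (homOfLE (inf_le_left : V₁ ⊓ V₂ ≤ V₁)).op r₁
  let a₀ : Γ(N, V₁ ⊓ V₂) := N.presheaf.map (homOfLE (inf_le_right : V₁ ⊓ V₂ ≤ V₂)).op a₂
  have hr : U.presheaf.germ V₁ y hy₁ r₁ = U.presheaf.germ (V₁ ⊓ V₂) y hyW r₀ :=
    (TopCat.Presheaf.germ_res_apply U.presheaf (homOfLE (inf_le_left : V₁ ⊓ V₂ ≤ V₁)) y hyW r₁).symm
  have ha : N.presheaf.germ V₂ y hy₂ a₂ = N.presheaf.germ (V₁ ⊓ V₂) y hyW a₀ :=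
    (TopCat.Presheaf.germ_res_apply N.presheaf (homOfLE (inf_le_right : V₁ ⊓ V₂ ≤ V₂)) y hyW a₂).symm
  refine ⟨X.presheaf.germ (j ''ᵁ (V₁ ⊓ V₂)) (j y) ⟨y, hyW, rfl⟩ ((j.appIso (V₁ ⊓ V₂)).inv r₀), ?_, ?_⟩
  · rw [stalkMap_germ_appIso_inv, hr]
  · rw [hr, ha, ← Helper45.germ_smul, restrictStalkIso_germ, restrictStalkIso_germ]
    exact Helper45.germ_smul M (j y) (j ''ᵁ (V₁ ⊓ V₂)) ⟨y, hyW, rfl⟩ ((j.appIso (V₁ ⊓ V₂)).inv r₀) a₀

lemma restrictStalk_semilinear (j : U ⟶ X) [IsOpenImmersion j] (M : X.Modules) (y : U)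
    (r : X.presheaf.stalk (j y))
    (a : ((Scheme.Modules.restrictFunctor j).obj M).presheaf.stalk y) :
    (restrictStalkIso j M y).hom.hom ((j.stalkMap y).hom r • a) =
      r • (restrictStalkIso j M y).hom.hom a := by
  obtain ⟨r₀, h1, h2⟩ := restrictStalk_semilinear' j M y ((j.stalkMap y).hom r) a
  have hinj : Function.Injective (j.stalkMap y).hom :=
    ((ConcreteCategory.isIso_iff_bijective (j.stalkMap y)).mp inferInstance).1
  rw [h2, hinj h1]

/-- flatness is preserved by restriction along open immersions -/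
theorem isFlat_restrict (j : U ⟶ X) [IsOpenImmersion j] (M : X.Modules) (h : FlatMod.IsFlat M) :
    FlatMod.IsFlat ((Scheme.Modules.restrictFunctor j).obj M) := by
  intro y
  let N := (Scheme.Modules.restrictFunctor j).obj M
  have hM : Module.Flat (X.presheaf.stalk (j y)) ↑(M.presheaf.stalk (j y)) := h (j y)
  let _ : Algebra (X.presheaf.stalk (j y)) (U.presheaf.stalk y) := (j.stalkMap y).hom.toAlgebra
  let _ : Module (X.presheaf.stalk (j y)) ↑(N.presheaf.stalk y) :=
    Module.compHom _ (j.stalkMap y).hom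
  have : IsScalarTower (X.presheaf.stalk (j y)) (U.presheaf.stalk y) ↑(N.presheaf.stalk y) :=
    IsScalarTower.of_compHom _ _ _
  have hbij : Function.Bijective (algebraMap (X.presheaf.stalk (j y)) (U.presheaf.stalk y)) :=
    (ConcreteCategory.isIso_iff_bijective (j.stalkMap y)).mp inferInstance
  let l : ↑(N.presheaf.stalk y) ≃ₗ[X.presheaf.stalk (j y)] ↑(M.presheaf.stalk (j y)) :=
    LinearEquiv.ofBijective
      { toFun := (restrictStalkIso j M y).hom.hom
        map_add' := map_add _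
        map_smul' := fun r a => restrictStalk_semilinear j M y r a }
      (restrictStalkIso_hom_bijective j M y)
  have h1 : Module.Flat (X.presheaf.stalk (j y)) ↑(N.presheaf.stalk y) :=
    Module.Flat.of_linearEquiv l
  exact (Groth.Agent.Lib.Helper12.FlatOver.flat_iff_of_bijective hbij _).mpr h1

end

end Groth.Agent.Lib.Helper30.FlatRestrict
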