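import Mathlib
import Groth.Agent.Lib.Helper30.StrictPerfHomology
import Groth.Agent.Lib.Helper49.FlatSES
import Groth.Agent.Lib.Helper49.FinLocFree
import Groth.Agent.Lib.Helper30.ConeLift

set_option autoImplicit false
universe u
open CategoryTheory Limits Opposite TopologicalSpace AlgebraicGeometry
attribute [local instance] HasDerivedCategory.standard

namespace Groth.Agent.Lib.Helper30.PerfFlat
open Groth.Agent.Lib.Helper30.PerfRestrict Groth.Agent.Lib.Helper30.StrictPerfHomology
open Groth.Agent.Lib.Helper49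

noncomputable section

variable {X : Scheme.{u}}

/-- in a short exact sequence with flat middle and right terms, the left term is flat -/
theorem isFlat_X₁_of_shortExact (S : ShortComplex X.Modules) (hS : S.ShortExact)
    (h2 : FlatMod.IsFlat S.X₂) (h3 : FlatMod.IsFlat S.X₃) : FlatMod.IsFlat S.X₁ := by
  intro x
  have : Mono S.f := hS.mono_f
  have : Epi S.g := hS.epi_g
  have : Module.Flat (X.presheaf.stalk x) ↑(S.X₃.presheaf.stalk x) := h3 x
  exact (flat_iff_of_exact_of_flat (stalkMapLinear S.f x) (stalkMapLinear S.g x)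
    (stalkMap_injective_of_mono S.f x) (stalkMap_surjective_of_epi S.g x)
    (stalkMap_exact_of_shortExact S hS x)).mp (h2 x)

/-- in a short exact sequence with flat outer terms, the middle term is flat -/
theorem isFlat_X₂_of_shortExact (S : ShortComplex X.Modules) (hS : S.ShortExact)
    (h1 : FlatMod.IsFlat S.X₁) (h3 : FlatMod.IsFlat S.X₃) : FlatMod.IsFlat S.X₂ := by
  intro x
  have : Mono S.f := hS.mono_f
  have : Epi S.g := hS.epi_g
  have : Module.Flat (X.presheaf.stalk x) ↑(S.X₃.presheaf.stalk x) := h3 x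
  exact (flat_iff_of_exact_of_flat (stalkMapLinear S.f x) (stalkMapLinear S.g x)
    (stalkMap_injective_of_mono S.f x) (stalkMap_surjective_of_epi S.g x)
    (stalkMap_exact_of_shortExact S hS x)).mpr (h1 x)

theorem isFlat_of_isZero {M : X.Modules} (h : IsZero M) : FlatMod.IsFlat M :=
  isFlat_of_isFinLocFree M (isFinLocFree_of_isZero h)

theorem isFlat_of_iso {M N : X.Modules} (e : M ≅ N) (h : FlatMod.IsFlat M) : FlatMod.IsFlat N := by
  intro x
  have : Module.Flat (X.presheaf.stalk x) ↑(M.presheaf.stalk x) := h x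
  let l : ↑(M.presheaf.stalk x) ≃ₗ[X.presheaf.stalk x] ↑(N.presheaf.stalk x) :=
    LinearEquiv.ofBijective (stalkMapLinear e.hom x)
      ⟨stalkMap_injective_of_mono e.hom x, stalkMap_surjective_of_epi e.hom x⟩
  exact Module.Flat.of_linearEquiv l.symm

theorem isFlat_biprod {M N : X.Modules} (hM : FlatMod.IsFlat M) (hN : FlatMod.IsFlat N) :
    FlatMod.IsFlat (M ⊞ N) :=
  isFlat_X₂_of_shortExact (ShortComplex.mk (biprod.inl : M ⟶ M ⊞ N) biprod.snd biprod.inl_snd)
    (ShortComplex.Splitting.ofHasBinaryBiproduct M N).shortExact hM hN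

/-- the kernel of an epimorphism between flat modules is flat -/
theorem isFlat_kernel_of_epi {F G : X.Modules} (p : F ⟶ G) [Epi p]
    (hF : FlatMod.IsFlat F) (hG : FlatMod.IsFlat G) : FlatMod.IsFlat (kernel p) :=
  isFlat_X₁_of_shortExact (ShortComplex.mk (kernel.ι p) p (kernel.condition p))
    { exact := ShortComplex.exact_of_f_is_kernel _ (kernelIsKernel p)
      mono_f := by dsimp; infer_instance
      epi_g := by dsimp; infer_instance } hF hG

/-- in an acyclic complex, bounded above, whose terms in degrees `≥ a` are flat, the cycles in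
degrees `≥ a` are flat -/
lemma isFlat_cycles (C : CochainComplex X.Modules ℤ) (a b : ℤ)
    (hfl : ∀ i, a ≤ i → FlatMod.IsFlat (C.X i)) (hb : ∀ i, b < i → IsZero (C.X i))
    (h : ∀ i, IsZero (C.homology i)) (k : ℕ) :
    ∀ j : ℤ, j + k = b + 1 → a ≤ j → FlatMod.IsFlat (kernel (C.d j (j + 1))) := by
  induction k with
  | zero =>
    intro j hj _
    have hz : IsZero (C.X j) := hb j (by simp at hj; omega)
    exact isFlat_of_isZero (IsZero.of_mono (kernel.ι _) hz)
  | succ k ih =>
    intro j hj hn
    have h1 := ih (j + 1) (by push_cast at hj; omega) (by omega)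
    have := epi_toZ C j (h (j + 1))
    have h2 := isFlat_kernel_of_epi (toZ C j) (hfl j hn) h1
    have e : kernel (toZ C j) ≅ kernel (C.d j (j + 1)) :=
      (kernelCompMono (toZ C j) (kernel.ι _)).symm ≪≫
        kernelIsoOfEq (kernel.lift_ι _ _ _)
    exact isFlat_of_iso e h2

/-- in an acyclic complex, bounded above, zero in degrees `< a - 1`, whose terms in degrees `≥ a`
are flat, the term in degree `a - 1` is flat -/
theorem isFlat_of_acyclic (C : CochainComplex X.Modules ℤ) (a b : ℤ)
    (hfl : ∀ i, a ≤ i → FlatMod.IsFlat (C.X i)) (hb : ∀ i, b < i → IsZero (C.X i))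
    (hz : ∀ i, i < a - 1 → IsZero (C.X i))
    (h : ∀ i, IsZero (C.homology i)) : FlatMod.IsFlat (C.X (a - 1)) := by
  have hZ : FlatMod.IsFlat (kernel (C.d (a - 1 + 1) (a - 1 + 1 + 1))) := by
    by_cases hab : a ≤ b + 1
    · have := Int.toNat_of_nonneg (show 0 ≤ b + 1 - a by omega)
      exact isFlat_cycles C a b hfl hb h (b + 1 - a).toNat (a - 1 + 1) (by omega) (by omega)
    · exact isFlat_of_isZero (IsZero.of_mono (kernel.ι _) (hb _ (by omega)))
  have hepi := epi_toZ C (a - 1) (h (a - 1 + 1))
  have hmono : Mono (toZ C (a - 1)) := by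
    have h1 : (C.sc' (a - 1 - 1) (a - 1) (a - 1 + 1)).Exact :=
      (C.exactAt_iff' (a - 1 - 1) (a - 1) (a - 1 + 1) (by simp) (by simp)).mp
        ((C.exactAt_iff_isZero_homology (a - 1)).mpr (h (a - 1)))
    have h2 : Mono (C.d (a - 1) (a - 1 + 1)) :=
      h1.mono_g ((hz (a - 1 - 1) (by omega)).eq_of_src _ _)
    exact mono_of_mono_fac (kernel.lift_ι _ _ _)
  have : IsIso (toZ C (a - 1)) := isIso_of_mono_of_epi _
  exact isFlat_of_iso (asIso (toZ C (a - 1))).symm hZ

lemma isFlat_of_biprod_isZero {M N : X.Modules} (hN : IsZero N) (h : FlatMod.IsFlat (M ⊞ N)) :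
    FlatMod.IsFlat M := by
  have e : M ⊞ N ≅ M :=
    { hom := biprod.fst
      inv := biprod.inl
      hom_inv_id := by
        have := biprod.total (X := M) (Y := N)
        rw [hN.eq_of_tgt (biprod.snd : M ⊞ N ⟶ N) 0, zero_comp, add_zero] at this
        exact this
      inv_hom_id := biprod.inl_fst }
  exact isFlat_of_iso e h

/-- **Core lemma**: if a chain map `α : P ⟶ G` between bounded above complexes of flat modules, with
`G` concentrated in degrees `≥ a`, is a quasi-isomorphism in degrees `≥ a`, then the lowest term of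
the canonical truncation `τ_{≥ a} P` is flat. -/
theorem isFlat_truncGE_X (P G : CochainComplex X.Modules ℤ) (a b : ℤ)
    (hPfl : ∀ i, FlatMod.IsFlat (P.X i)) (hPb : ∀ i, b < i → IsZero (P.X i))
    (hGfl : ∀ i, FlatMod.IsFlat (G.X i)) (hGb : ∀ i, b < i → IsZero (G.X i))
    [G.IsStrictlyGE a] (α : P ⟶ G) (hα : ∀ i, a ≤ i → QuasiIsoAt α i) :
    FlatMod.IsFlat ((P.truncGE a).X a) := by
  let φ : P.truncGE a ⟶ G.truncGE a := CochainComplex.truncGEMap α a
  have hφ : QuasiIso φ := (CochainComplex.quasiIso_truncGEMap_iff α a).mpr hα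
  let C := CochainComplex.mappingCone φ
  have hiso : ∀ i : ℤ, C.X i ≅ (P.truncGE a).X (i + 1) ⊞ (G.truncGE a).X i := fun i =>
    HomologicalComplex.homotopyCofiber.XIsoBiprod φ i (i + 1) rfl
  have hτG : ∀ i, (G.truncGE a).X i ≅ G.X i := fun i =>
    (asIso ((G.πTruncGE a).f i)).symm
  have hτGz : ∀ i, i < a → IsZero ((G.truncGE a).X i) := fun i hi =>
    CochainComplex.isZero_of_isStrictlyGE _ a i hi
  have hτPz : ∀ i, i < a → IsZero ((P.truncGE a).X i) := fun i hi =>
    CochainComplex.isZero_of_isStrictlyGE _ a i hi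
  have hτP : ∀ i, a < i → ((P.truncGE a).X i ≅ P.X i) := fun i hi => P.truncGEXIso a i hi
  have hacyc : ∀ i, IsZero (C.homology i) := fun i => by
    have h1 : ∀ j, IsIso (HomologicalComplex.homologyMap φ j) := fun j =>
      (quasiIsoAt_iff_isIso_homologyMap φ j).mp (hφ.quasiIsoAt j)
    have := h1 i
    have := h1 (i + 1)
    exact Groth.Agent.Lib.Helper30.ConeLift.isZero_homology_mappingCone φ i inferInstance
      inferInstance
  have hC : FlatMod.IsFlat (C.X (a - 1)) := by
    refine isFlat_of_acyclic C a b (fun i hi => ?_) (fun i hi => ?_) (fun i hi => ?_) hacyc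
    · exact isFlat_of_iso (hiso i).symm (isFlat_biprod
        (isFlat_of_iso (hτP (i + 1) (by omega)).symm (hPfl (i + 1)))
        (isFlat_of_iso (hτG i).symm (hGfl i)))
    · refine IsZero.of_iso ?_ (hiso i)
      rw [biprod_isZero_iff]
      refine ⟨?_, (hGb i hi).of_iso (hτG i)⟩
      by_cases hia : a < i + 1
      · exact (hPb (i + 1) (by omega)).of_iso (hτP (i + 1) hia)
      · by_cases hia' : i + 1 = a
        · -- the lowest term of the truncation is a quotient of `P.X a`
          have : Epi ((P.πTruncGE a).f (i + 1)) := by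
            dsimp [CochainComplex.πTruncGE]
            infer_instance
          exact IsZero.of_epi ((P.πTruncGE a).f (i + 1)) (hPb (i + 1) (by omega))
        · exact hτPz (i + 1) (by omega)
    · refine IsZero.of_iso ?_ (hiso i)
      rw [biprod_isZero_iff]
      exact ⟨hτPz (i + 1) (by omega), hτGz i (by omega)⟩
  have h2 : FlatMod.IsFlat ((P.truncGE a).X (a - 1 + 1) ⊞ (G.truncGE a).X (a - 1)) :=
    isFlat_of_iso (hiso (a - 1)) hC
  have h3 := isFlat_of_biprod_isZero (hτGz (a - 1) (by omega)) h2
  have e : a - 1 + 1 = a := by omega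
  rw [e] at h3
  exact h3

/-- `opcycles` of a complex of finite locally free modules is finitely presented -/
theorem isFP_opcycles (P : CochainComplex X.Modules ℤ) (hP : ∀ i, FlatMod.IsFinLocFree (P.X i))
    (a : ℤ) : CohB1.IsFP (P.opcycles a) := by
  have h1 : CohB1.IsFP (cokernel (P.sc a).f) := isFP_cokernel _ (hP _) (hP _)
  exact isFinitePresentation_of_iso (P.sc a).opcyclesIsoCokernel.symm h1

/-- if the lowest term of `τ_{≥ a} P` is flat, for `P` strictly perfect, then `τ_{≥ a} P` is strictly
perfect -/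
theorem isStrictlyPerfect_truncGE (P : CochainComplex X.Modules ℤ) (a : ℤ)
    (hP : DCoh.IsStrictlyPerfect P) (hfl : FlatMod.IsFlat ((P.truncGE a).X a)) :
    DCoh.IsStrictlyPerfect (P.truncGE a) := by
  obtain ⟨⟨a', b', hab⟩, hflP⟩ := hP
  refine ⟨⟨a, max a b', fun i hi => ?_⟩, fun i => ?_⟩
  · rcases hi with hi | hi
    · exact CochainComplex.isZero_of_isStrictlyGE _ a i hi
    · have h1 : a < i := lt_of_le_of_lt (le_max_left _ _) hi
      have h2 : b' < i := lt_of_le_of_lt (le_max_right _ _) hi
      exact (hab i (Or.inr h2)).of_iso (P.truncGEXIso a i h1)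
  · rcases lt_trichotomy i a with hi | hi | hi
    · exact isFinLocFree_of_isZero (CochainComplex.isZero_of_isStrictlyGE _ a i hi)
    · subst hi
      rw [isFinLocFree_iff_isFlat_and_isFinitePresentation]
      exact ⟨hfl, isFinitePresentation_of_iso (P.truncGEXIsoOpcycles i).symm
        (isFP_opcycles P hflP i)⟩
    · exact Groth.Agent.Lib.Helper14.isFinLocFree_of_iso (P.truncGEXIso a i hi).symm (hflP i)

end

end Groth.Agent.Lib.Helper30.PerfFlat

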