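import Mathlib
import Groth.Agent.Lib.Helper30.PerfFlat
import Groth.Agent.Lib.Helper30.FlatRestrict
import Groth.Agent.Lib.Helper30.PCTriangle
import Groth.Agent.S0944

set_option autoImplicit false
universe u
open CategoryTheory Limits Opposite TopologicalSpace AlgebraicGeometry
attribute [local instance] HasDerivedCategory.standard

namespace Groth.Agent.Lib.Helper30.PerfFlat2
open Groth.Agent.Lib.Helper30.PerfRestrict Groth.Agent.Lib.Helper30.StrictPerfHomology
open Groth.Agent.Lib.Helper30.PCTriangle Groth.Agent.Lib.Helper30.PerfFlat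
open Groth.Agent.Lib.Helper30.FlatRestrict
open Groth.Agent.Lib.Helper49 Groth.Agent.Lib.Helper6

noncomputable section

variable {U : Scheme.{u}}

/-- a map in `D(O_U)` from a strictly perfect complex to a complex is locally given by a chain map -/
theorem exists_chainLift {P F : CochainComplex U.Modules ℤ} (hP : DCoh.IsStrictlyPerfect P)
    (α : DerivedCategory.Q.obj P ⟶ DerivedCategory.Q.obj F) (x : U) :
    ∃ (n : Nb x) (β : (rC n.j).obj P ⟶ (rC n.j).obj F),
      (rD n.j).map α = (rDQ n.j).hom.app P ≫ DerivedCategory.Q.map β ≫ (rDQ n.j).inv.app F ∧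
      ∀ i : ℤ, IsIso ((DerivedCategory.homologyFunctor _ i).map α) → QuasiIsoAt β i := by
  obtain ⟨W, hxW, hW⟩ := Groth.Agent.S0944.result (E := P) (F := F) hP α x
  obtain ⟨β, hβ⟩ := hW
  refine ⟨Nb.ofOpens W hxW, β, hβ, fun i hi => ?_⟩
  have h1 := ExactDC.isIso_homology_map (F := Scheme.Modules.restrictFunctor W.ι) α i hi
  have h2 : (DerivedCategory.homologyFunctor _ i).map (DerivedCategory.Q.map β) =
      (DerivedCategory.homologyFunctor _ i).map ((rDQ W.ι).inv.app P) ≫
      (DerivedCategory.homologyFunctor _ i).map ((rD W.ι).map α) ≫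
      (DerivedCategory.homologyFunctor _ i).map ((rDQ W.ι).hom.app F) := by
    rw [← Functor.map_comp, ← Functor.map_comp]
    congr 1
    erw [hβ]
    simp
  have h3 : IsIso ((DerivedCategory.homologyFunctor _ i).map (DerivedCategory.Q.map β)) := by
    rw [h2]
    have h4 : IsIso ((DerivedCategory.homologyFunctor (↑W : Scheme.{u}).Modules i).map
      ((rDQ W.ι).inv.app P)) := inferInstance
    have h5 : IsIso ((DerivedCategory.homologyFunctor (↑W : Scheme.{u}).Modules i).map
      ((rDQ W.ι).hom.app F)) := inferInstance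
    have h6 := @IsIso.comp_isIso _ _ _ _ _ _ _ h1 h5
    exact @IsIso.comp_isIso _ _ _ _ _ _ _ h4 h6
  rw [quasiIsoAt_iff_isIso_homologyMap]
  exact (isIso_homology_map_Q_iff β i).mp h3

/-- if `β : A ⟶ F` is a quasi-isomorphism in degrees `≥ a`, `F` has no cohomology in degrees `< a`,
`A` is strictly perfect and the lowest term of `τ_{≥ a} A` is flat, then `F` is isomorphic in the
derived category to a strictly perfect complex. -/
theorem perfObj_of_quasiIsoAt_ge (A F : CochainComplex U.Modules ℤ) (a : ℤ)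
    (hA : DCoh.IsStrictlyPerfect A) (hfl : FlatMod.IsFlat ((A.truncGE a).X a))
    (β : A ⟶ F) (hβ : ∀ i, a ≤ i → QuasiIsoAt β i) (hF : ∀ i, i < a → IsZero (F.homology i)) :
    PerfObj (DerivedCategory.Q.obj F) := by
  have h1 : QuasiIso (CochainComplex.truncGEMap β a) :=
    (CochainComplex.quasiIso_truncGEMap_iff β a).mpr hβ
  have : F.IsGE a := by
    rw [CochainComplex.isGE_iff]
    intro i hi
    exact (F.exactAt_iff_isZero_homology i).mpr (hF i hi)
  have h2 : QuasiIso (F.πTruncGE a) := inferInstance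
  have h3 : IsIso (DerivedCategory.Q.map (CochainComplex.truncGEMap β a)) := by
    rw [DerivedCategory.isIso_Q_map_iff_quasiIso]; exact h1
  have h4 : IsIso (DerivedCategory.Q.map (F.πTruncGE a)) := by
    rw [DerivedCategory.isIso_Q_map_iff_quasiIso]; exact h2
  exact ⟨A.truncGE a, isStrictlyPerfect_truncGE A a hA hfl,
    ⟨asIso (DerivedCategory.Q.map (F.πTruncGE a)) ≪≫
      (asIso (DerivedCategory.Q.map (CochainComplex.truncGEMap β a))).symm⟩⟩

/-- local form of: tor amplitude in `[a, b]` and `(a - 1)`-pseudo-coherent implies perfect -/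
theorem exists_perfObj_of_flat_of_pc (G : CochainComplex U.Modules ℤ) (a b : ℤ)
    (hG : DCoh.VanishesOutside G a b) (hGfl : ∀ i, FlatMod.IsFlat (G.X i))
    (h : PCObj (a - 1) (DerivedCategory.Q.obj G)) (x : U) :
    ∃ n : Nb x, PerfObj ((rD n.j).obj (DerivedCategory.Q.obj G)) := by
  obtain ⟨P, α, hP, h1, h2⟩ := h
  obtain ⟨n, β, hβ, hq⟩ := exists_chainLift hP α x
  have hP' : DCoh.IsStrictlyPerfect ((rC n.j).obj P) := isStrictlyPerfect_restrict n.j P hP
  obtain ⟨⟨a', b', hab'⟩, hflP'⟩ := hP'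
  have : ((rC n.j).obj G).IsStrictlyGE a := by
    rw [CochainComplex.isStrictlyGE_iff]
    intro i hi
    exact (Scheme.Modules.restrictFunctor n.j).map_isZero (hG i (Or.inl hi))
  have hfl := isFlat_truncGE_X ((rC n.j).obj P) ((rC n.j).obj G) a (max b b')
    (fun i => isFlat_of_isFinLocFree _ (hflP' i))
    (fun i hi => hab' i (Or.inr (lt_of_le_of_lt (le_max_right b b') hi)))
    (fun i => isFlat_restrict n.j _ (hGfl i))
    (fun i hi => (Scheme.Modules.restrictFunctor n.j).map_isZero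
      (hG i (Or.inr (lt_of_le_of_lt (le_max_left b b') hi))))
    β (fun i hi => hq i (h1 i (by omega)))
  have key := perfObj_of_quasiIsoAt_ge ((rC n.j).obj P) ((rC n.j).obj G) a
    (isStrictlyPerfect_restrict n.j P hP) hfl β (fun i hi => hq i (h1 i (by omega)))
    (fun i hi => ShortComplex.isZero_homology_of_isZero_X₂ _
      ((Scheme.Modules.restrictFunctor n.j).map_isZero (hG i (Or.inl hi))))
  exact ⟨n, PerfObj.of_iso ((rDQ n.j).app G).symm key⟩

/-- tor amplitude in `[a, b]` and `(a - 1)`-pseudo-coherent implies perfect -/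
theorem isPerfect_of_flat_of_pc {X : Scheme.{u}} (E : DCoh.D X) (a b : ℤ)
    (h1 : DCoh.HasFlatAmplitudeIn a b E) (h2 : DCoh.IsPseudoCoherentD (a - 1) E) :
    DCoh.IsPerfect E := by
  obtain ⟨G, hG, hGfl, ⟨e⟩⟩ := h1
  apply isPerfect_of_openImmersions
  intro x
  rw [isPseudoCoherentD_iff] at h2
  obtain ⟨V, hxV, hV⟩ := h2 x
  have hV' : PCObj (a - 1) (DerivedCategory.Q.obj ((rC V.ι).obj G)) :=
    PCObj.of_iso ((rD V.ι).mapIso e.symm ≪≫ (rDQ V.ι).app G) hV
  obtain ⟨n, hn⟩ := exists_perfObj_of_flat_of_pc ((rC V.ι).obj G) a b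
    (fun i hi => (Scheme.Modules.restrictFunctor V.ι).map_isZero (hG i hi))
    (fun i => isFlat_restrict V.ι _ (hGfl i)) hV' (⟨x, hxV⟩ : V)
  refine ⟨n.V, n.j ≫ V.ι, inferInstance, ⟨n.y, ?_⟩, ?_⟩
  · rw [Scheme.Hom.comp_apply, n.hy]
    rfl
  · exact PerfObj.of_iso ((rD n.j).mapIso (((rDQ V.ι).app G).symm ≪≫ (rD V.ι).mapIso e) ≪≫
      ((rDComp n.j V.ι).app E).symm) hn

end

end Groth.Agent.Lib.Helper30.PerfFlat2
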