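import Mathlib
import Groth.Agent.Lib.Helper30.PerfFlat2
import Groth.Agent.Lib.Helper30.PCSummand
import Groth.Agent.Lib.Helper16.LFRes.LFHyp

set_option autoImplicit false
universe u
open CategoryTheory Limits Opposite TopologicalSpace AlgebraicGeometry
attribute [local instance] HasDerivedCategory.standard

namespace Groth.Agent.Lib.Helper30.PerfSummand
open Groth.Agent.Lib.Helper30.PerfRestrict Groth.Agent.Lib.Helper30.StrictPerfHomology
open Groth.Agent.Lib.Helper30.PCTriangle Groth.Agent.Lib.Helper30.PerfFlat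
open Groth.Agent.Lib.Helper30.FlatRestrict Groth.Agent.Lib.Helper30.PerfFlat2
open Groth.Agent.Lib.Helper30.PCSummand
open Groth.Agent.Lib.Helper49 Groth.Agent.Lib.Helper6

noncomputable section

variable {U : Scheme.{u}}

/-- a retract of a flat module is flat -/
theorem isFlat_of_retract {M N : U.Modules} (i : M ⟶ N) (r : N ⟶ M) (h : i ≫ r = 𝟙 M)
    (hN : FlatMod.IsFlat N) : FlatMod.IsFlat M := by
  intro x
  have : Module.Flat (U.presheaf.stalk x) ↑(N.presheaf.stalk x) := hN x
  refine Module.Flat.of_retract (stalkMapLinear i x) (stalkMapLinear r x) ?_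
  ext a
  have h1 : stalkMap i x ≫ stalkMap r x = 𝟙 _ := by
    have h2 : i.mapPresheaf ≫ r.mapPresheaf = 𝟙 _ := by
      have : (Scheme.Modules.toPresheaf U).map i ≫ (Scheme.Modules.toPresheaf U).map r = 𝟙 _ := by
        rw [← Functor.map_comp, h, CategoryTheory.Functor.map_id]
      exact this
    have h3 := congrArg (fun g => (TopCat.Presheaf.stalkFunctor Ab x).map g) h2
    simp only [Functor.map_comp, CategoryTheory.Functor.map_id] at h3
    exact h3
  exact congrArg (fun g => g.hom a) h1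

theorem isFinLocFree_biprod {M N : U.Modules} (hM : FlatMod.IsFinLocFree M)
    (hN : FlatMod.IsFinLocFree N) : FlatMod.IsFinLocFree (M ⊞ N) := by
  refine Groth.Agent.Lib.Helper16.LFRes.isFinLocFree_of_ses_ext ?_ hM hN
  exact ⟨biprod.inl, biprod.snd, biprod.inl_snd,
    (ShortComplex.Splitting.ofHasBinaryBiproduct M N).shortExact⟩

theorem isStrictlyPerfect_biprod {P P' : CochainComplex U.Modules ℤ}
    (hP : DCoh.IsStrictlyPerfect P) (hP' : DCoh.IsStrictlyPerfect P') :
    DCoh.IsStrictlyPerfect (P ⊞ P') := by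
  obtain ⟨⟨a, b, hab⟩, hfl⟩ := hP
  obtain ⟨⟨a', b', hab'⟩, hfl'⟩ := hP'
  have := fun i : ℤ => preservesBinaryBiproducts_of_preservesBiproducts
    (HomologicalComplex.eval U.Modules (ComplexShape.up ℤ) i)
  have hiso : ∀ i : ℤ, (P ⊞ P').X i ≅ P.X i ⊞ P'.X i := fun i =>
    (HomologicalComplex.eval U.Modules (ComplexShape.up ℤ) i).mapBiprod P P'
  refine ⟨⟨min a a', max b b', fun i hi => ?_⟩, fun i => ?_⟩
  · refine IsZero.of_iso ?_ (hiso i)
    rw [biprod_isZero_iff]
    constructor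
    · apply hab
      rcases hi with hi | hi
      · exact Or.inl (lt_of_lt_of_le hi (min_le_left _ _))
      · exact Or.inr (lt_of_le_of_lt (le_max_left _ _) hi)
    · apply hab'
      rcases hi with hi | hi
      · exact Or.inl (lt_of_lt_of_le hi (min_le_right _ _))
      · exact Or.inr (lt_of_le_of_lt (le_max_right _ _) hi)
  · exact Groth.Agent.Lib.Helper14.isFinLocFree_of_iso (hiso i).symm
      (isFinLocFree_biprod (hfl i) (hfl' i))

/-- `H^i` of the "diagonal" map `Q (P ⊞ P') ⟶ K ⊞ L` -/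
lemma isIso_homology_lift {K L : DCoh.D U} [HasBinaryBiproduct K L]
    {P P' : CochainComplex U.Modules ℤ} (α : DerivedCategory.Q.obj P ⟶ K)
    (α' : DerivedCategory.Q.obj P' ⟶ L) (i : ℤ)
    (h : IsIso ((DerivedCategory.homologyFunctor _ i).map α))
    (h' : IsIso ((DerivedCategory.homologyFunctor _ i).map α')) :
    IsIso ((DerivedCategory.homologyFunctor _ i).map
      (biprod.lift (DerivedCategory.Q.map (biprod.fst : P ⊞ P' ⟶ P) ≫ α)
        (DerivedCategory.Q.map (biprod.snd : P ⊞ P' ⟶ P') ≫ α'))) := by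
  let H := DerivedCategory.homologyFunctor U.Modules i
  have := preservesBinaryBiproducts_of_preservesBiproducts H
  have := preservesBinaryBiproducts_of_preservesBiproducts
    (DerivedCategory.Q (C := U.Modules) ⋙ H)
  let e1 := H.mapBiprod K L
  let e2 := (DerivedCategory.Q (C := U.Modules) ⋙ H).mapBiprod P P'
  let γ₀ : DerivedCategory.Q.obj (P ⊞ P') ⟶ K ⊞ L :=
    biprod.lift (DerivedCategory.Q.map (biprod.fst : P ⊞ P' ⟶ P) ≫ α)
        (DerivedCategory.Q.map (biprod.snd : P ⊞ P' ⟶ P') ≫ α')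
  have key : H.map γ₀ ≫ e1.hom = e2.hom ≫ biprod.map (H.map α) (H.map α') := by
    apply biprod.hom_ext
    · simp only [e1, e2, γ₀, Category.assoc, Functor.mapBiprod_hom, biprod.lift_fst, biprod.map_fst,
        biprod.lift_fst_assoc, Functor.comp_map, ← Functor.map_comp]
    · simp only [e1, e2, γ₀, Category.assoc, Functor.mapBiprod_hom, biprod.lift_snd, biprod.map_snd,
        biprod.lift_snd_assoc, Functor.comp_map, ← Functor.map_comp]
  have h3 : H.map γ₀ = e2.hom ≫ (biprod.mapIso (asIso (H.map α)) (asIso (H.map α'))).hom ≫ e1.inv := by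
    rw [← Category.assoc, Iso.eq_comp_inv]
    exact key
  change IsIso (H.map γ₀)
  rw [h3]
  infer_instance

/-- restriction to an open subscheme preserves vanishing of cohomology of complexes -/
lemma isZero_homology_rC {U' : Scheme.{u}} (j : U' ⟶ U) [IsOpenImmersion j]
    (F : CochainComplex U.Modules ℤ) (i : ℤ) (h : IsZero (F.homology i)) :
    IsZero (((rC j).obj F).homology i) :=
  ((Scheme.Modules.restrictFunctor j).map_isZero h).of_iso
    ((ExactDC.homologyIsoCx (Scheme.Modules.restrictFunctor j) i).app F)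

/-- local form of: a direct summand of a perfect object is perfect -/
theorem exists_perfObj_summand (K L : DCoh.D U) [HasBinaryBiproduct K L]
    (R : CochainComplex U.Modules ℤ) (hR : DCoh.IsStrictlyPerfect R)
    (e : K ⊞ L ≅ DerivedCategory.Q.obj R) (a : ℤ) (hRa : ∀ i, i < a → IsZero (R.X i))
    (hK : PCObj (a - 1) K) (hL : PCObj (a - 1) L) (x : U) :
    ∃ n : Nb x, PerfObj ((rD n.j).obj K) := by
  obtain ⟨PK, αK, hPK, hK1, -⟩ := hK
  obtain ⟨PL, αL, hPL, hL1, -⟩ := hL
  let FK := DerivedCategory.Q.objPreimage K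
  let eK : DerivedCategory.Q.obj FK ≅ K := DerivedCategory.Q.objObjPreimageIso K
  -- cohomology of `K` vanishes below `a`
  have hFK : ∀ i, i < a → IsZero (FK.homology i) := fun i hi => by
    have h1 : IsZero ((DerivedCategory.homologyFunctor _ i).obj (K ⊞ L)) :=
      (isZero_homology_Q_of_isZero_X R i (hRa i hi)).of_iso
        ((DerivedCategory.homologyFunctor _ i).mapIso e)
    exact (isZero_homology_of_biprod_left i h1).of_iso
      (((DerivedCategory.homologyFunctorFactors _ i).app FK).symm ≪≫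
        (DerivedCategory.homologyFunctor _ i).mapIso eK)
  -- first lift
  obtain ⟨n₁, βK, -, hβK⟩ := exists_chainLift hPK (αK ≫ eK.inv) x
  -- second lift
  let P := PK ⊞ PL
  have hP : DCoh.IsStrictlyPerfect P := isStrictlyPerfect_biprod hPK hPL
  let γ : DerivedCategory.Q.obj P ⟶ DerivedCategory.Q.obj R :=
    biprod.lift (DerivedCategory.Q.map (biprod.fst : PK ⊞ PL ⟶ PK) ≫ αK)
        (DerivedCategory.Q.map (biprod.snd : PK ⊞ PL ⟶ PL) ≫ αL) ≫ e.hom
  have hγ : ∀ i, a ≤ i → IsIso ((DerivedCategory.homologyFunctor _ i).map γ) := fun i hi => by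
    have h1 := isIso_homology_lift αK αL i (hK1 i (by omega)) (hL1 i (by omega))
    dsimp only [γ]
    rw [Functor.map_comp]
    have h2 : IsIso ((DerivedCategory.homologyFunctor U.Modules i).map e.hom) := inferInstance
    exact @IsIso.comp_isIso _ _ _ _ _ _ _ h1 h2
  let γ' : DerivedCategory.Q.obj ((rC n₁.j).obj P) ⟶ DerivedCategory.Q.obj ((rC n₁.j).obj R) :=
    (rDQ n₁.j).inv.app P ≫ (rD n₁.j).map γ ≫ (rDQ n₁.j).hom.app R
  have hγ' : ∀ i, a ≤ i → IsIso ((DerivedCategory.homologyFunctor _ i).map γ') := fun i hi => by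
    have h1 := ExactDC.isIso_homology_map (F := Scheme.Modules.restrictFunctor n₁.j) γ i (hγ i hi)
    dsimp only [γ']
    rw [Functor.map_comp, Functor.map_comp]
    have h4 : IsIso ((DerivedCategory.homologyFunctor n₁.V.Modules i).map
      ((rDQ n₁.j).inv.app P)) := inferInstance
    have h5 : IsIso ((DerivedCategory.homologyFunctor n₁.V.Modules i).map
      ((rDQ n₁.j).hom.app R)) := inferInstance
    have h6 := @IsIso.comp_isIso _ _ _ _ _ _ _ h1 h5
    exact @IsIso.comp_isIso _ _ _ _ _ _ _ h4 h6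
  obtain ⟨n₂, β, -, hβ⟩ := exists_chainLift (isStrictlyPerfect_restrict n₁.j P hP) γ' n₁.y
  -- flatness of the lowest term of the truncation of `P`
  let P'' := (rC n₂.j).obj ((rC n₁.j).obj P)
  let R'' := (rC n₂.j).obj ((rC n₁.j).obj R)
  have hP'' : DCoh.IsStrictlyPerfect P'' :=
    isStrictlyPerfect_restrict n₂.j _ (isStrictlyPerfect_restrict n₁.j P hP)
  have hR'' : DCoh.IsStrictlyPerfect R'' :=
    isStrictlyPerfect_restrict n₂.j _ (isStrictlyPerfect_restrict n₁.j R hR)
  obtain ⟨⟨a₁, b₁, hab₁⟩, hfl₁⟩ := hP''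
  obtain ⟨⟨a₂, b₂, hab₂⟩, hfl₂⟩ := hR''
  have : R''.IsStrictlyGE a := by
    rw [CochainComplex.isStrictlyGE_iff]
    intro i hi
    exact (Scheme.Modules.restrictFunctor n₂.j).map_isZero
      ((Scheme.Modules.restrictFunctor n₁.j).map_isZero (hRa i hi))
  have hflP := isFlat_truncGE_X P'' R'' a (max b₁ b₂)
    (fun i => isFlat_of_isFinLocFree _ (hfl₁ i))
    (fun i hi => hab₁ i (Or.inr (lt_of_le_of_lt (le_max_left b₁ b₂) hi)))
    (fun i => isFlat_of_isFinLocFree _ (hfl₂ i))
    (fun i hi => hab₂ i (Or.inr (lt_of_le_of_lt (le_max_right b₁ b₂) hi)))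
    β (fun i hi => hβ i (hγ' i hi))
  -- the summand
  let A := (rC n₂.j).obj ((rC n₁.j).obj PK)
  let ι : A ⟶ P'' := (rC n₂.j).map ((rC n₁.j).map (biprod.inl : PK ⟶ PK ⊞ PL))
  let ρ : P'' ⟶ A := (rC n₂.j).map ((rC n₁.j).map (biprod.fst : PK ⊞ PL ⟶ PK))
  have hιρ : ι ≫ ρ = 𝟙 A := by
    dsimp only [ι, ρ]
    rw [← Functor.map_comp, ← Functor.map_comp, biprod.inl_fst, CategoryTheory.Functor.map_id,
      CategoryTheory.Functor.map_id]
  have hflA : FlatMod.IsFlat ((A.truncGE a).X a) := by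
    refine isFlat_of_retract ((CochainComplex.truncGEMap ι a).f a)
      ((CochainComplex.truncGEMap ρ a).f a) ?_ hflP
    rw [← HomologicalComplex.comp_f]
    have : CochainComplex.truncGEMap ι a ≫ CochainComplex.truncGEMap ρ a = 𝟙 _ := by
      dsimp only [CochainComplex.truncGEMap]
      rw [← HomologicalComplex.truncGEMap_comp, hιρ, HomologicalComplex.truncGEMap_id]
    rw [this]
    rfl
  -- conclusion
  let F'' := (rC n₂.j).obj ((rC n₁.j).obj FK)
  have key : PerfObj (DerivedCategory.Q.obj F'') :=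
    perfObj_of_quasiIsoAt_ge A F'' a
      (isStrictlyPerfect_restrict n₂.j _ (isStrictlyPerfect_restrict n₁.j PK hPK)) hflA
      ((rC n₂.j).map βK)
      (fun i hi => by
        have : QuasiIsoAt βK i := hβK i (by
          have := hK1 i (by omega)
          rw [Functor.map_comp]
          infer_instance)
        infer_instance)
      (fun i hi => isZero_homology_rC n₂.j _ i (isZero_homology_rC n₁.j _ i (hFK i hi)))
  refine ⟨n₁.comp n₂, ?_⟩
  exact PerfObj.of_iso (((rDQ n₂.j).app _).symm ≪≫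
    (rD n₂.j).mapIso (((rDQ n₁.j).app FK).symm ≪≫ (rD n₁.j).mapIso eK) ≪≫
    ((rDComp n₂.j n₁.j).app K).symm) key

/-- a direct summand of a perfect object is perfect (left summand) -/
theorem isPerfect_left {X : Scheme.{u}} (K L : DCoh.D X) [HasBinaryBiproduct K L]
    (h : DCoh.IsPerfect (K ⊞ L)) : DCoh.IsPerfect K := by
  apply isPerfect_of_openImmersions
  intro x
  rw [isPerfect_iff] at h
  obtain ⟨V, hxV, R, hR, ⟨f⟩⟩ := h x
  obtain ⟨a, b, hab⟩ := hR.1
  let K' := (rD V.ι).obj K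
  let L' := (rD V.ι).obj L
  have := preservesBinaryBiproducts_of_preservesBiproducts (rD V.ι)
  let e' : K' ⊞ L' ≅ DerivedCategory.Q.obj R := ((rD V.ι).mapBiprod K L).symm ≪≫ f
  have hpc : DCoh.IsPseudoCoherentD (a - 1) (K' ⊞ L') :=
    isPseudoCoherentD_of_pcObj (PerfObj.pcObj ⟨R, hR, ⟨e'⟩⟩ (a - 1))
  obtain ⟨U₁, j₁, hj₁, ⟨y, hy⟩, hK, hL⟩ := exists_pcObj_summands (a - 1) K' L' hpc (⟨x, hxV⟩ : V)
  let K'' := (rD j₁).obj K'
  let L'' := (rD j₁).obj L'
  have := preservesBinaryBiproducts_of_preservesBiproducts (rD j₁)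
  let e'' : K'' ⊞ L'' ≅ DerivedCategory.Q.obj ((rC j₁).obj R) :=
    ((rD j₁).mapBiprod K' L').symm ≪≫ (rD j₁).mapIso e' ≪≫ (rDQ j₁).app R
  obtain ⟨n, hn⟩ := exists_perfObj_summand K'' L'' ((rC j₁).obj R)
    (isStrictlyPerfect_restrict j₁ R hR) e'' a
    (fun i hi => (Scheme.Modules.restrictFunctor j₁).map_isZero (hab i (Or.inl hi))) hK hL y
  refine ⟨n.V, n.j ≫ j₁ ≫ V.ι, inferInstance, ⟨n.y, ?_⟩, ?_⟩
  · rw [Scheme.Hom.comp_apply, Scheme.Hom.comp_apply, n.hy, hy]
    rfl
  · exact PerfObj.of_iso ((rD n.j).mapIso ((rDComp j₁ V.ι).app K).symm ≪≫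
      ((rDComp n.j (j₁ ≫ V.ι)).app K).symm) hn

/-- direct summands of a perfect object are perfect -/
theorem isPerfect_summands {X : Scheme.{u}} (K L : DCoh.D X) [HasBinaryBiproduct K L]
    (h : DCoh.IsPerfect (K ⊞ L)) : DCoh.IsPerfect K ∧ DCoh.IsPerfect L := by
  refine ⟨isPerfect_left K L h, isPerfect_left L K ?_⟩
  rw [isPerfect_iff] at h ⊢
  intro x
  obtain ⟨V, hxV, hV⟩ := h x
  exact ⟨V, hxV, hV.of_iso ((rD V.ι).mapIso (biprod.braiding K L))⟩

end

end Groth.Agent.Lib.Helper30.PerfSummand
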