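import Mathlib
import Groth.Prelude.Def_DerSch
import Groth.Agent.Lib.Helper28.SkyMod
import Groth.Agent.Lib.Helper45.ModulesExact

/-!
# Exactness of the stalk functor `DerSch.stalkFunctor X x` (helper30)

The stalk functor `X.Modules ⥤ ModuleCat (O_{X,x})` is a left adjoint (helper28) and preserves
monomorphisms, hence it is exact.
-/

set_option autoImplicit false
universe u
open CategoryTheory CategoryTheory.Limits AlgebraicGeometry Opposite TopologicalSpace

namespace Groth.Agent.Lib.Helper30.StalkExactF

variable {X : Scheme.{u}} (x : X)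

instance isLeftAdjoint_stalkFunctor : (DerSch.stalkFunctor X x).IsLeftAdjoint :=
  (Groth.Agent.Lib.Helper28.SkyMod.stalkSkyAdj x).isLeftAdjoint

instance preservesFiniteColimits_stalkFunctor : PreservesFiniteColimits (DerSch.stalkFunctor X x) :=
  inferInstance

lemma stalkFunctor_map_injective {M N : X.Modules} (φ : M ⟶ N) [Mono φ] :
    Function.Injective ((DerSch.stalkFunctor X x).map φ) := by
  rw [injective_iff_map_eq_zero]
  intro a ha
  obtain ⟨U, hxU, s, rfl⟩ := TopCat.Presheaf.exists_germ_eq M.presheaf a
  rw [DerSch.stalkFunctor_map_germ] at ha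
  have ha' : N.presheaf.germ U x hxU (φ.app U s) = N.presheaf.germ U x hxU 0 :=
    ha.trans (map_zero _).symm
  obtain ⟨V, hxV, iU, iU', hV⟩ := TopCat.Presheaf.germ_eq N.presheaf x hxU hxU _ _ ha'
  rw [map_zero] at hV
  have hnat : φ.app V (M.presheaf.map iU.op s) = N.presheaf.map iU.op (φ.app U s) :=
    congrArg (fun g => g.hom s) (φ.mapPresheaf.naturality iU.op)
  rw [← hnat] at hV
  have h0 : M.presheaf.map iU.op s = 0 := by
    apply Groth.Agent.Lib.Helper45.app_injective_of_mono φ V
    rw [hV, map_zero]
  have := TopCat.Presheaf.germ_res_apply M.presheaf iU x hxV s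
  rw [← this, h0]
  exact map_zero _

instance preservesMonomorphisms_stalkFunctor : (DerSch.stalkFunctor X x).PreservesMonomorphisms where
  preserves φ _ := (ModuleCat.mono_iff_injective _).mpr (stalkFunctor_map_injective x φ)

instance preservesFiniteLimits_stalkFunctor : PreservesFiniteLimits (DerSch.stalkFunctor X x) := by
  rw [Functor.preservesFiniteLimits_iff_forall_exact_map_and_mono]
  intro S hS
  have h0 : PreservesFiniteColimits (DerSch.stalkFunctor X x) := inferInstance
  have h := (Functor.preservesFiniteColimits_iff_forall_exact_map_and_epi _).mp h0 S hS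
  have := hS.mono_f
  exact ⟨h.1, inferInstance⟩

end Groth.Agent.Lib.Helper30.StalkExactF
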