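import Mathlib
import Groth.Prelude.Def_DRing2
import Groth.Agent.Lib.Helper35.TARes
import Groth.Agent.Lib.Helper6.ExactDC

/-!
# Descent of tor amplitude along a jointly faithfully flat family of exact functors (helper30)

A variant of helper35's `TA.TAmp_descent` in which the base change functors `B_j ⊗_R -` are replaced
by arbitrary exact functors `L_j : Mod R ⥤ Mod B_j` which preserve flatness, jointly detect zero
objects and jointly detect flatness.  The index type may live in any universe.
-/

set_option autoImplicit false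
universe w u
open CategoryTheory CategoryTheory.Limits DerivedCategory
attribute [local instance] HasDerivedCategory.standard

namespace Groth.Agent.Lib.Helper30.TAmpDescentF

open Groth.Agent.Lib.Helper35.TA Groth.Agent.Lib.Helper6

variable {R : Type u} [CommRing R]

/-- A jointly faithfully flat family of exact functors. -/
structure JFF {J : Type w} (B : J → Type u) [∀ j, CommRing (B j)]
    (L : ∀ j, ModuleCat.{u} R ⥤ ModuleCat.{u} (B j)) : Prop where
  flat : ∀ (j : J) (M : ModuleCat.{u} R), Module.Flat R M → Module.Flat (B j) ((L j).obj M)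
  zero : ∀ M : ModuleCat.{u} R, (∀ j, IsZero ((L j).obj M)) → IsZero M
  flatM : ∀ M : ModuleCat.{u} R, (∀ j, Module.Flat (B j) ((L j).obj M)) → Module.Flat R M

section

variable {B : Type u} [CommRing B] (L : ModuleCat.{u} R ⥤ ModuleCat.{u} B) [L.Additive]
  [PreservesFiniteLimits L] [PreservesFiniteColimits L]

/-- termwise application of `L` -/
noncomputable abbrev LCx : DRing.Cx R ⥤ DRing.Cx B := L.mapHomologicalComplex (ComplexShape.up ℤ)

theorem isZero_L_homology_of_TAmp (K : DRing.Cx R) (a b : ℤ)
    (h : TAmp a b (DRing.toD ((LCx L).obj K))) (i : ℤ) (hi : i < a ∨ b < i) :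
    IsZero (L.obj (K.homology i)) := by
  have h1 : (Q.obj ((LCx L).obj K)).IsGE a := h.isGE
  have h2 : (Q.obj ((LCx L).obj K)).IsLE b := h.isLE
  rw [isGE_Q_obj_iff] at h1
  rw [isLE_Q_obj_iff] at h2
  have hz : IsZero (((LCx L).obj K).homology i) := by
    rw [← HomologicalComplex.exactAt_iff_isZero_homology]
    rcases hi with hi | hi
    · exact ((LCx L).obj K).exactAt_of_isGE a i hi
    · exact ((LCx L).obj K).exactAt_of_isLE b i hi
  exact hz.of_iso ((ExactDC.homologyIsoCx L i).app K).symm

/-- `L` commutes with `opcycles` -/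
noncomputable def opcyclesLIso (P : DRing.Cx R) (a : ℤ) :
    ((LCx L).obj P).opcycles a ≅ L.obj (P.opcycles a) :=
  (P.sc a).mapOpcyclesIso L

theorem flat_L_opcycles_of_TAmp (hflat : ∀ M : ModuleCat.{u} R, Module.Flat R M → Module.Flat B (L.obj M))
    (K P : DRing.Cx R) (π : P ⟶ K) [QuasiIso π] (b' : ℤ)
    (hPb : DRing.VanishesAbove P b') (hPflat : ∀ i : ℤ, Module.Flat R (P.X i)) (a b : ℤ)
    (h : TAmp a b (DRing.toD ((LCx L).obj K))) :
    Module.Flat B (L.obj (P.opcycles a)) := by
  have hq : QuasiIso ((LCx L).map π) := inferInstance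
  have hiso : IsIso (Q.map ((LCx L).map π)) := by
    rw [isIso_Q_map_iff_quasiIso]; exact hq
  let e : DRing.toD ((LCx L).obj P) ≅ DRing.toD ((LCx L).obj K) := asIso (Q.map ((LCx L).map π))
  have hP : TAmp a b (DRing.toD ((LCx L).obj P)) := h.of_iso e.symm
  have hv : DRing.VanishesAbove ((LCx L).obj P) b' := fun i hi => L.map_isZero (hPb i hi)
  have hfl : ∀ i : ℤ, Module.Flat B (((LCx L).obj P).X i) := fun i => hflat _ (hPflat i)
  have := flat_opcycles_of_TAmp' ((LCx L).obj P) b' hv hfl a b hP
  have hfl := this.2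
  exact Module.Flat.of_linearEquiv (opcyclesLIso L P a).toLinearEquiv.symm

end

theorem TAmp_descent {J : Type w} (B : J → Type u) [∀ j, CommRing (B j)]
    (L : ∀ j, ModuleCat.{u} R ⥤ ModuleCat.{u} (B j)) [∀ j, (L j).Additive]
    [∀ j, PreservesFiniteLimits (L j)] [∀ j, PreservesFiniteColimits (L j)]
    (hL : JFF B L) (K : DRing.Cx R) (a b : ℤ)
    (hK : ∀ j, TAmp a b (DRing.toD ((LCx (L j)).obj K))) :
    TAmp a b (DRing.toD K) := by
  have hz : ∀ i : ℤ, (i < a ∨ b < i) → IsZero (K.homology i) := fun i hi =>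
    hL.zero _ (fun j => isZero_L_homology_of_TAmp (L j) K a b (hK j) i hi)
  have hKLE : K.IsLE b := by
    rw [CochainComplex.isLE_iff]
    intro i hi
    rw [HomologicalComplex.exactAt_iff_isZero_homology]
    exact hz i (Or.inr hi)
  have hKGE : K.IsGE a := by
    rw [CochainComplex.isGE_iff]
    intro i hi
    rw [HomologicalComplex.exactAt_iff_isZero_homology]
    exact hz i (Or.inl hi)
  have hQLE : (Q.obj K).IsLE b := by rw [isLE_Q_obj_iff]; exact hKLE
  obtain ⟨P, π, hPb, hPproj, hπ⟩ := exists_projective_resolution_cx K b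
  have hPflat : ∀ i : ℤ, Module.Flat R (P.X i) := fun i => by
    have := hPproj i
    infer_instance
  have hop : Module.Flat R (P.opcycles a) :=
    hL.flatM _ (fun j => flat_L_opcycles_of_TAmp (L j) (hL.flat j) K P π b hPb hPflat a b (hK j))
  have hiso : IsIso (Q.map π) := by
    rw [isIso_Q_map_iff_quasiIso]; infer_instance
  have hPLE : P.IsLE b := by
    have : P.IsStrictlyLE b := by
      rw [CochainComplex.isStrictlyLE_iff]
      exact fun i hi => hPb i hi
    infer_instance
  have hPGE : P.IsGE a := by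
    rw [← isGE_Q_obj_iff]
    have : (Q.obj K).IsGE a := by rw [isGE_Q_obj_iff]; exact hKGE
    exact TStructure.t.isGE_of_iso (asIso (Q.map π)).symm a
  exact (TAmp_of_flat_opcycles P b hPb hPflat a b).of_iso (asIso (Q.map π))

end Groth.Agent.Lib.Helper30.TAmpDescentF
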