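import Mathlib
import Groth.Prelude.Def_DerSch
import Groth.Prelude.Def_FlatMod2
import Groth.Agent.Lib.Helper30.StalkExactF
import Groth.Agent.Lib.Helper30.TAmpDescentF
import Groth.Agent.Lib.Helper11.SupportTensor

/-!
# Stalks of `M~` on `Spec R` (helper30)

The stalk of `M~` at `x` is the localization of `M` at `x`, compatibly with the module structure over
the local ring `O_{Spec R, x}` (a localization of `R`).  Consequences: `M~` is a flat `O`-module iff
`M` is a flat `R`-module; the functors `M ↦ (M~)_x` form a jointly faithfully flat family of exact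
functors in the sense of `TAmpDescentF.JFF`.
-/

set_option autoImplicit false
universe u
open CategoryTheory CategoryTheory.Limits AlgebraicGeometry Opposite TopologicalSpace

namespace Groth.Agent.Lib.Helper30.TildeStalk

variable (R : CommRingCat.{u})

noncomputable instance algStalk (x : Spec R) :
    Algebra R ((Spec R).presheaf.stalk x) :=
  StructureSheaf.stalkAlgebra (↑R) x

instance locStalk (x : Spec R) :
    IsLocalization.AtPrime ((Spec R).presheaf.stalk x)
      (show PrimeSpectrum R from x).asIdeal :=
  StructureSheaf.IsLocalization.to_stalk R x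

instance flatStalk (x : Spec R) :
    Module.Flat R ((Spec R).presheaf.stalk x) :=
  IsLocalization.flat _ (show PrimeSpectrum R from x).asIdeal.primeCompl

variable {R}

instance towerStalk (M : ModuleCat.{u} R) (x : Spec R) :
    IsScalarTower R ((Spec R).presheaf.stalk x) ((tilde M).presheaf.stalk x) :=
  .of_algebraMap_smul fun _ _ ↦ rfl

lemma isBaseChange_toStalk (M : ModuleCat.{u} R) (x : Spec R) :
    IsBaseChange ((Spec R).presheaf.stalk x) (tilde.toStalk M x).hom :=
  IsLocalizedModule.isBaseChange (show PrimeSpectrum R from x).asIdeal.primeCompl _ _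

/-- `M~` is flat if `M` is. -/
theorem isFlat_tilde (M : ModuleCat.{u} R) [Module.Flat R M] : FlatMod.IsFlat (tilde M) := by
  intro x
  exact Module.Flat.isBaseChange R _ M _ (isBaseChange_toStalk M x)

/-- `M` is flat if all stalks of `M~` are flat over the local rings. -/
theorem flat_of_isFlat_tilde (M : ModuleCat.{u} R) (h : FlatMod.IsFlat (tilde M)) :
    Module.Flat R M := by
  refine Module.flat_of_localized_maximal M ?_
  intro P hP
  obtain ⟨x, hx⟩ : ∃ x : PrimeSpectrum.Top R, x.asIdeal = P := ⟨⟨P, inferInstance⟩, rfl⟩
  subst hx
  have h1 : Module.Flat ((Spec R).presheaf.stalk x) ((tilde M).presheaf.stalk x) := h x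
  have h2 : Module.Flat R ((tilde M).presheaf.stalk x) :=
    Module.Flat.trans R ((Spec R).presheaf.stalk x) _
  have e : LocalizedModule x.asIdeal.primeCompl M ≃ₗ[R] ((tilde M).presheaf.stalk x) :=
    IsLocalizedModule.iso x.asIdeal.primeCompl (tilde.toStalk M x).hom
  exact Module.Flat.of_linearEquiv e

/-- `M` is zero if all stalks of `M~` are. -/
theorem subsingleton_of_stalks (M : ModuleCat.{u} R)
    (h : ∀ x : Spec R, Subsingleton ((tilde M).presheaf.stalk x)) :
    Subsingleton M := by
  rw [← Module.support_eq_empty_iff (R := R)]
  ext x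
  simp only [Set.mem_empty_iff_false, iff_false]
  exact (Groth.Agent.Lib.Helper11.SupportTensor.subsingleton_stalk_tilde_iff R M x).mp (h x)

variable (R) in
/-- the functor `M ↦ (M~)_x` -/
noncomputable abbrev Lx (x : Spec R) :
    ModuleCat.{u} R ⥤ ModuleCat.{u} ((Spec R).presheaf.stalk x) :=
  tilde.functor R ⋙ DerSch.stalkFunctor (Spec R) x

theorem jff : TAmpDescentF.JFF (R := R)
    (fun x : Spec R => ((Spec R).presheaf.stalk x : Type u))
    (fun x => Lx R x) where
  flat x M hM := isFlat_tilde M x
  zero M h := by
    have : Subsingleton M := subsingleton_of_stalks M (fun x =>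
      ModuleCat.subsingleton_of_isZero (h x))
    exact ModuleCat.isZero_of_subsingleton M
  flatM M h := flat_of_isFlat_tilde M (fun x => h x)

end Groth.Agent.Lib.Helper30.TildeStalk

namespace Groth.Agent.Lib.Helper30.TildeStalk

variable (R : CommRingCat.{u})

instance additive_Lx (x : Spec R) : (Lx R x).Additive := inferInstance

instance preservesFiniteColimits_Lx (x : Spec R) : PreservesFiniteColimits (Lx R x) := inferInstance

instance preservesFiniteLimits_Lx [PreservesFiniteLimits (tilde.functor R)] (x : Spec R) :
    PreservesFiniteLimits (Lx R x) := inferInstance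

end Groth.Agent.Lib.Helper30.TildeStalk
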