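import Mathlib
import Groth.Prelude.Def_DTor2
import Groth.Agent.Lib.Helper30.TildeStalk

/-!
# Tor amplitude of `M~` on `Spec R` versus tor amplitude of `M` (helper30)
-/

set_option autoImplicit false
universe u
open CategoryTheory CategoryTheory.Limits AlgebraicGeometry
attribute [local instance] HasDerivedCategory.standard

namespace Groth.Agent.Lib.Helper30.TildeTAmp

open Groth.Agent.Lib.Helper30.TildeStalk

variable (R : CommRingCat.{u}) [PreservesFiniteLimits (tilde.functor R)]

/-- termwise `tilde` -/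
noncomputable abbrev tildeCx : CochainComplex (ModuleCat.{u} R) ℤ ⥤ CochainComplex (Spec R).Modules ℤ :=
  (tilde.functor R).mapHomologicalComplex (ComplexShape.up ℤ)

/-- `tildeD (Q K) ≅ Q (K~)` -/
noncomputable def tildeDQIso (K : CochainComplex (ModuleCat.{u} R) ℤ) :
    (DCoh.tildeD R).obj (DerivedCategory.Q.obj K) ≅ DerivedCategory.Q.obj ((tildeCx R).obj K) :=
  (tilde.functor R).mapDerivedCategoryFactors.app K

/-- termwise stalks -/
noncomputable abbrev stalkCx (x : Spec R) :
    CochainComplex (Spec R).Modules ℤ ⥤ CochainComplex (ModuleCat.{u} ((Spec R).presheaf.stalk x)) ℤ :=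
  (DerSch.stalkFunctor (Spec R) x).mapHomologicalComplex (ComplexShape.up ℤ)

/-- the derived stalk functor -/
noncomputable abbrev stalkD (x : Spec R) :
    DerivedCategory (Spec R).Modules ⥤ DerivedCategory (ModuleCat.{u} ((Spec R).presheaf.stalk x)) :=
  (DerSch.stalkFunctor (Spec R) x).mapDerivedCategory

/-- `stalkD (Q F) ≅ Q (F_x)` -/
noncomputable def stalkDQIso (x : Spec R) (F : CochainComplex (Spec R).Modules ℤ) :
    (stalkD R x).obj (DerivedCategory.Q.obj F) ≅ DerivedCategory.Q.obj ((stalkCx R x).obj F) :=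
  (DerSch.stalkFunctor (Spec R) x).mapDerivedCategoryFactors.app F

/-- the two ways of taking termwise stalks of `K~` -/
noncomputable def stalkTildeCxIso (x : Spec R) (K : CochainComplex (ModuleCat.{u} R) ℤ) :
    (stalkCx R x).obj ((tildeCx R).obj K) ≅
      ((Lx R x).mapHomologicalComplex (ComplexShape.up ℤ)).obj K :=
  HomologicalComplex.Hom.isoOfComponents (fun i => Iso.refl _) (by
    intro i j _
    exact (Category.id_comp _).trans (Category.comp_id _).symm)

/-- **Stalkwise criterion**: if a complex `F` of `O`-modules on `Spec R` represents `K~` and all its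
complexes of stalks have tor amplitude in `[a, b]`, then `K` has tor amplitude in `[a, b]`. -/
theorem tAmp_of_stalkwise (K : CochainComplex (ModuleCat.{u} R) ℤ) (a b : ℤ)
    (F : CochainComplex (Spec R).Modules ℤ)
    (e : DerivedCategory.Q.obj F ≅ DerivedCategory.Q.obj ((tildeCx R).obj K))
    (h : ∀ x : Spec R, DRing.HasTorAmplitudeIn ((Spec R).presheaf.stalk x) a b
      (DerivedCategory.Q.obj ((stalkCx R x).obj F))) :
    DRing.HasTorAmplitudeIn R a b (DerivedCategory.Q.obj K) := by
  refine Groth.Agent.Lib.Helper30.TAmpDescentF.TAmp_descent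
    (fun x : Spec R => ((Spec R).presheaf.stalk x : Type u)) (fun x => Lx R x) jff K a b ?_
  intro x
  refine Groth.Agent.Lib.Helper35.TA.TAmp.of_iso (h x) ?_
  exact (stalkDQIso R x F).symm ≪≫ (stalkD R x).mapIso e ≪≫ stalkDQIso R x _ ≪≫
    DerivedCategory.Q.mapIso (stalkTildeCxIso R x K)

theorem tAmp_of_hasFlatAmplitudeIn (M : DerivedCategory (ModuleCat.{u} R)) (a b : ℤ)
    (h : DCoh.HasFlatAmplitudeIn a b ((DCoh.tildeD R).obj M)) :
    DRing.HasTorAmplitudeIn R a b M := by
  obtain ⟨E, hv, hfl, ⟨e⟩⟩ := h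
  let K : CochainComplex (ModuleCat.{u} R) ℤ := DerivedCategory.Q.objPreimage M
  let eK : DerivedCategory.Q.obj K ≅ M := DerivedCategory.Q.objObjPreimageIso M
  refine Groth.Agent.Lib.Helper35.TA.TAmp.of_iso ?_ eK
  refine tAmp_of_stalkwise R K a b E
    (e ≪≫ (DCoh.tildeD R).mapIso eK.symm ≪≫ tildeDQIso R K) ?_
  intro x
  refine ⟨(stalkCx R x).obj E, ?_, ?_, ⟨Iso.refl _⟩⟩
  · intro i hi
    exact (DerSch.stalkFunctor (Spec R) x).map_isZero (hv i hi)
  · intro i
    exact hfl i x

theorem hasFlatAmplitudeIn_of_tAmp (M : DerivedCategory (ModuleCat.{u} R)) (a b : ℤ)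
    (h : DRing.HasTorAmplitudeIn R a b M) :
    DCoh.HasFlatAmplitudeIn a b ((DCoh.tildeD R).obj M) := by
  obtain ⟨E, hv, hfl, ⟨e⟩⟩ := h
  refine ⟨(tildeCx R).obj E, ?_, ?_, ⟨?_⟩⟩
  · intro i hi
    exact (tilde.functor R).map_isZero (hv i hi)
  · intro i
    have : Module.Flat R (E.X i) := hfl i
    exact isFlat_tilde (E.X i)
  · exact (tildeDQIso R E).symm ≪≫ (DCoh.tildeD R).mapIso e

end Groth.Agent.Lib.Helper30.TildeTAmp
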