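import Mathlib
import Groth.Agent.Lib.Helper30.FlatRestrict
import Groth.Agent.Lib.Helper30.StrictPerfHomology
import Groth.Agent.Lib.Helper49.FreeNear

set_option autoImplicit false
universe u
open CategoryTheory Limits Opposite TopologicalSpace AlgebraicGeometry

namespace Groth.Agent.Lib.Helper30.LocFreeHomology
open Groth.Agent.Lib.Helper49 Groth.Agent.Lib.Helper30.FlatRestrict
open Groth.Agent.Lib.Helper30.StrictPerfHomology Groth.Agent.Lib.Helper30.PerfRestrict

noncomputable section

variable {X U : Scheme.{u}}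

/-- the ring isomorphism on stalks induced by an open immersion -/
def stalkRingEquiv (j : U ⟶ X) [IsOpenImmersion j] (y : U) :
    X.presheaf.stalk (j y) ≃+* U.presheaf.stalk y :=
  RingEquiv.ofBijective (j.stalkMap y).hom
    ((ConcreteCategory.isIso_iff_bijective (j.stalkMap y)).mp inferInstance)

instance (j : U ⟶ X) [IsOpenImmersion j] (y : U) :
    RingHomInvPair (stalkRingEquiv j y : X.presheaf.stalk (j y) →+* U.presheaf.stalk y)
      ((stalkRingEquiv j y).symm : U.presheaf.stalk y →+* X.presheaf.stalk (j y)) :=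
  RingHomInvPair.of_ringEquiv _

instance (j : U ⟶ X) [IsOpenImmersion j] (y : U) :
    RingHomInvPair ((stalkRingEquiv j y).symm : U.presheaf.stalk y →+* X.presheaf.stalk (j y))
      (stalkRingEquiv j y : X.presheaf.stalk (j y) →+* U.presheaf.stalk y) :=
  RingHomInvPair.of_ringEquiv_symm _

/-- the semilinear identification of the stalk of `M` at `j y` with the stalk of `M|_U` at `y` -/
def stalkRestrictEquiv (j : U ⟶ X) [IsOpenImmersion j] (M : X.Modules) (y : U) :
    ↑(M.presheaf.stalk (j y)) ≃ₛₗ[(stalkRingEquiv j y : X.presheaf.stalk (j y) →+* U.presheaf.stalk y)]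
      ↑(((Scheme.Modules.restrictFunctor j).obj M).presheaf.stalk y) :=
  LinearEquiv.ofBijective
    { toFun := (restrictStalkIso j M y).inv.hom
      map_add' := map_add _
      map_smul' := fun r m => by
        apply (restrictStalkIso_hom_bijective j M y).1
        have h1 : ∀ a, (restrictStalkIso j M y).hom.hom ((restrictStalkIso j M y).inv.hom a) = a :=
          fun a => congrArg (fun g => g.hom a) (restrictStalkIso j M y).inv_hom_id
        have h2 := restrictStalk_semilinear j M y r ((restrictStalkIso j M y).inv.hom m)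
        rw [h1] at h2
        rw [h1]
        exact h2.symm }
    (by
      have : IsIso (restrictStalkIso j M y).inv := inferInstance
      exact (ConcreteCategory.isIso_iff_bijective (restrictStalkIso j M y).inv).mp this)

theorem free_stalk_restrict_iff (j : U ⟶ X) [IsOpenImmersion j] (M : X.Modules) (y : U) :
    Module.Free (U.presheaf.stalk y) ↑(((Scheme.Modules.restrictFunctor j).obj M).presheaf.stalk y) ↔
      Module.Free (X.presheaf.stalk (j y)) ↑(M.presheaf.stalk (j y)) :=
  (Module.Free.iff_of_equiv (stalkRestrictEquiv j M y)).symm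

theorem finite_stalk_restrict_iff (j : U ⟶ X) [IsOpenImmersion j] (M : X.Modules) (y : U) :
    Module.Finite (U.presheaf.stalk y) ↑(((Scheme.Modules.restrictFunctor j).obj M).presheaf.stalk y) ↔
      Module.Finite (X.presheaf.stalk (j y)) ↑(M.presheaf.stalk (j y)) := by
  constructor
  · intro h
    exact Module.Finite.of_surjective (M := ↑(((Scheme.Modules.restrictFunctor j).obj M).presheaf.stalk y))
      (stalkRestrictEquiv j M y).symm.toLinearMap (stalkRestrictEquiv j M y).symm.surjective
  · intro h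
    exact Module.Finite.of_surjective (M := ↑(M.presheaf.stalk (j y)))
      (stalkRestrictEquiv j M y).toLinearMap (stalkRestrictEquiv j M y).surjective

/-- the linear equivalence on stalks induced by an isomorphism of modules -/
def stalkEquivOfIso {M N : X.Modules} (e : M ≅ N) (x : X) :
    ↑(M.presheaf.stalk x) ≃ₗ[X.presheaf.stalk x] ↑(N.presheaf.stalk x) :=
  LinearEquiv.ofBijective (stalkMapLinear e.hom x)
    ⟨stalkMap_injective_of_mono e.hom x, stalkMap_surjective_of_epi e.hom x⟩

/-- finite local freeness of a restriction passes to restrictions along factorizations -/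
theorem isFinLocFree_restrict_of_fac {U' : Scheme.{u}} (k : U' ⟶ U) (j : U ⟶ X) (j' : U' ⟶ X)
    [IsOpenImmersion k] [IsOpenImmersion j] [IsOpenImmersion j'] (h : k ≫ j = j') (M : X.Modules)
    (hM : FlatMod.IsFinLocFree (M.restrict j)) : FlatMod.IsFinLocFree (M.restrict j') := by
  have e : M.restrict j' ≅ (M.restrict j).restrict k :=
    (Scheme.Modules.restrictFunctorCongr h.symm).app M ≪≫
      (Scheme.Modules.restrictFunctorComp k j).app M
  exact Groth.Agent.Lib.Helper14.isFinLocFree_of_iso e.symm (isFinLocFree_restrict k _ hM)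

theorem isFinLocFree_restrict_of_le {W W₁ : X.Opens} (h : W ≤ W₁) (M : X.Modules)
    (hM : FlatMod.IsFinLocFree (M.restrict W₁.ι)) : FlatMod.IsFinLocFree (M.restrict W.ι) :=
  isFinLocFree_restrict_of_fac (X.homOfLE h) W₁.ι W.ι (X.homOfLE_ι h) M hM

/-- `M` is finite locally free in a neighbourhood of `x` -/
def LFAt (M : X.Modules) (x : X) : Prop :=
  ∃ W : X.Opens, x ∈ W ∧ FlatMod.IsFinLocFree (M.restrict W.ι)

lemma LFAt.of_isFinLocFree {M : X.Modules} (h : FlatMod.IsFinLocFree M) (x : X) : LFAt M x :=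
  ⟨⊤, trivial, isFinLocFree_restrict _ M h⟩

lemma LFAt.of_iso {M N : X.Modules} (e : M ≅ N) {x : X} (h : LFAt M x) : LFAt N x := by
  obtain ⟨W, hx, hW⟩ := h
  exact ⟨W, hx, Groth.Agent.Lib.Helper14.isFinLocFree_of_iso
    ((Scheme.Modules.restrictFunctor W.ι).mapIso e) hW⟩

lemma LFAt.of_isZero {M : X.Modules} (h : IsZero M) (x : X) : LFAt M x :=
  LFAt.of_isFinLocFree (isFinLocFree_of_isZero h) x

/-- finite local freeness along an open immersion through `x` gives `LFAt` -/
lemma LFAt.of_openImmersion {M : X.Modules} {x : X} (j : U ⟶ X) [IsOpenImmersion j] (y : U)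
    (hy : j y = x) (h : FlatMod.IsFinLocFree (M.restrict j)) : LFAt M x :=
  ⟨j.opensRange, ⟨y, hy⟩,
    isFinLocFree_restrict_of_fac j.isoOpensRange.inv j j.opensRange.ι (by simp) M h⟩

/-- a module which is finitely presented near `x` with free stalk at `x` is free near `x` -/
lemma lfAt_of_isFP_of_free {M : X.Modules} {x : X} (W : X.Opens) (hx : x ∈ W)
    (hfp : CohB1.IsFP (M.restrict W.ι))
    (hfree : Module.Free (X.presheaf.stalk x) ↑(M.presheaf.stalk x)) : LFAt M x := by
  have h1 : Module.Free ((W : Scheme.{u}).presheaf.stalk (⟨x, hx⟩ : W))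
      ↑((M.restrict W.ι).presheaf.stalk (⟨x, hx⟩ : W)) :=
    (free_stalk_restrict_iff W.ι M ⟨x, hx⟩).mpr hfree
  obtain ⟨W', n, hx', ⟨e⟩⟩ := exists_iso_restrict_freeMod_of_stalk_free (M.restrict W.ι) hfp
    (⟨x, hx⟩ : W) h1
  have h2 : FlatMod.IsFinLocFree ((M.restrict W.ι).restrict W'.ι) :=
    Groth.Agent.Lib.Helper14.isFinLocFree_of_iso e.symm (isFinLocFree_freeMod _ n)
  have h3 : FlatMod.IsFinLocFree (M.restrict (W'.ι ≫ W.ι)) :=
    Groth.Agent.Lib.Helper14.isFinLocFree_of_iso
      ((Scheme.Modules.restrictFunctorComp W'.ι W.ι).app M).symm h2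
  exact LFAt.of_openImmersion (W'.ι ≫ W.ι) ⟨⟨x, hx⟩, hx'⟩ rfl h3

lemma LFAt.common {M N : X.Modules} {x : X} (hM : LFAt M x) (hN : LFAt N x) :
    ∃ W : X.Opens, x ∈ W ∧ FlatMod.IsFinLocFree (M.restrict W.ι) ∧
      FlatMod.IsFinLocFree (N.restrict W.ι) := by
  obtain ⟨W₁, hx₁, h₁⟩ := hM
  obtain ⟨W₂, hx₂, h₂⟩ := hN
  exact ⟨W₁ ⊓ W₂, ⟨hx₁, hx₂⟩, isFinLocFree_restrict_of_le inf_le_left M h₁,
    isFinLocFree_restrict_of_le inf_le_right N h₂⟩

/-- kernels of epimorphisms between modules which are free near `x` are free near `x` -/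
lemma LFAt.kernel_of_epi {M N : X.Modules} (p : M ⟶ N) [Epi p] {x : X} (hM : LFAt M x)
    (hN : LFAt N x) : LFAt (kernel p) x := by
  obtain ⟨W, hx, h₁, h₂⟩ := hM.common hN
  let rW := Scheme.Modules.restrictFunctor W.ι
  have : Epi (rW.map p) := inferInstance
  have h3 := isFinLocFree_kernel_of_epi (rW.map p) h₁ h₂
  exact ⟨W, hx, Groth.Agent.Lib.Helper14.isFinLocFree_of_iso (PreservesKernel.iso rW p).symm h3⟩

/-- cokernels of maps between modules which are free near `x`, with free stalk at `x`, are free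
near `x` -/
lemma LFAt.coker {M N : X.Modules} (φ : M ⟶ N) {x : X} (hM : LFAt M x) (hN : LFAt N x)
    (hfree : Module.Free (X.presheaf.stalk x) ↑((cokernel φ).presheaf.stalk x)) :
    LFAt (cokernel φ) x := by
  obtain ⟨W, hx, h₁, h₂⟩ := hM.common hN
  let rW := Scheme.Modules.restrictFunctor W.ι
  have h3 : CohB1.IsFP (cokernel (rW.map φ)) := isFP_cokernel (rW.map φ) h₁ h₂
  have h4 : CohB1.IsFP ((cokernel φ).restrict W.ι) :=
    isFinitePresentation_of_iso (PreservesCokernel.iso rW φ).symm h3
  exact lfAt_of_isFP_of_free W hx h4 hfree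

/-- the inductive step: from cycles in degree `j` to cohomology in degree `j` and cycles in degree
`j - 1` -/
lemma lfAt_step (P : CochainComplex X.Modules ℤ) (hfl : ∀ i, FlatMod.IsFinLocFree (P.X i)) (x : X)
    (i j k : ℤ) (hij : i + 1 = j) (hjk : j + 1 = k)
    (hfree : Module.Free (X.presheaf.stalk x) ↑((P.homology j).presheaf.stalk x))
    (hZ : LFAt (kernel (P.d j k)) x) :
    LFAt (P.homology j) x ∧ LFAt (kernel (P.d i j)) x := by
  let S := P.sc' i j k
  let t : P.X i ⟶ kernel (P.d j k) := kernel.lift S.g S.f S.zero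
  have e : P.homology j ≅ cokernel t :=
    P.homologyIsoSc' i j k (by simp [← hij]) (by simp [← hjk]) ≪≫ S.homologyIsoCokernelLift
  have hcoker : LFAt (cokernel t) x := by
    refine LFAt.coker t (LFAt.of_isFinLocFree (hfl i) x) hZ ?_
    exact Module.Free.of_equiv (stalkEquivOfIso e x)
  refine ⟨hcoker.of_iso e.symm, ?_⟩
  have hI : LFAt (Abelian.image t) x := LFAt.kernel_of_epi (cokernel.π t) hZ hcoker
  have hK : LFAt (kernel (Abelian.factorThruImage t)) x :=
    LFAt.kernel_of_epi (Abelian.factorThruImage t) (LFAt.of_isFinLocFree (hfl i) x) hI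
  have e1 : kernel (Abelian.factorThruImage t) ≅ kernel t :=
    (kernelCompMono (Abelian.factorThruImage t) (Abelian.image.ι t)).symm ≪≫
      kernelIsoOfEq (Abelian.image.fac t)
  have e2 : kernel t ≅ kernel (P.d i j) :=
    (kernelCompMono t (kernel.ι (P.d j k))).symm ≪≫ kernelIsoOfEq (kernel.lift_ι _ _ _)
  exact hK.of_iso (e1 ≪≫ e2)

lemma lfAt_cycles_homology (P : CochainComplex X.Modules ℤ)
    (hfl : ∀ i, FlatMod.IsFinLocFree (P.X i)) (b : ℤ) (hb : ∀ i, b < i → IsZero (P.X i)) (x : X)
    (hfree : ∀ i, Module.Free (X.presheaf.stalk x) ↑((P.homology i).presheaf.stalk x)) (n : ℕ) :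
    ∀ j : ℤ, j + n = b + 1 →
      LFAt (kernel (P.d j (j + 1))) x ∧ ∀ i, j < i → LFAt (P.homology i) x := by
  induction n with
  | zero =>
    intro j hj
    have hjb : b < j := by simp at hj; omega
    refine ⟨LFAt.of_isZero (IsZero.of_mono (kernel.ι _) (hb j hjb)) x, fun i hi => ?_⟩
    exact LFAt.of_isZero (ShortComplex.isZero_homology_of_isZero_X₂ _ (hb i (by omega))) x
  | succ n ih =>
    intro j hj
    obtain ⟨h1, h2⟩ := ih (j + 1) (by push_cast at hj; omega)
    obtain ⟨h3, h4⟩ := lfAt_step P hfl x j (j + 1) (j + 1 + 1) rfl rfl (hfree (j + 1)) h1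
    refine ⟨h4, fun i hi => ?_⟩
    rcases eq_or_lt_of_le (show j + 1 ≤ i by omega) with rfl | hi'
    · exact h3
    · exact h2 i hi'

/-- all cohomology sheaves of a bounded above complex of finite locally free modules, with free
stalks at `x`, are finite locally free near `x` -/
theorem lfAt_homology (P : CochainComplex X.Modules ℤ)
    (hfl : ∀ i, FlatMod.IsFinLocFree (P.X i)) (b : ℤ) (hb : ∀ i, b < i → IsZero (P.X i)) (x : X)
    (hfree : ∀ i, Module.Free (X.presheaf.stalk x) ↑((P.homology i).presheaf.stalk x)) (i : ℤ) :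
    LFAt (P.homology i) x := by
  by_cases hi : b < i
  · exact LFAt.of_isZero (ShortComplex.isZero_homology_of_isZero_X₂ _ (hb i hi)) x
  · have := Int.toNat_of_nonneg (show 0 ≤ b + 2 - i by omega)
    exact (lfAt_cycles_homology P hfl b hb x hfree (b + 2 - i).toNat (i - 1) (by omega)).2 i
      (by omega)

lemma mem_finset_inf_opens {ι : Type*} (s : Finset ι) (W : ι → X.Opens) (x : X)
    (h : ∀ i ∈ s, x ∈ W i) : x ∈ s.inf W := by
  classical
  induction s using Finset.induction_on with
  | empty => simp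
  | insert a s _ ih =>
    rw [Finset.inf_insert]
    exact ⟨h a (Finset.mem_insert_self a s),
      ih (fun i hi => h i (Finset.mem_insert_of_mem hi))⟩

/-- all cohomology sheaves of a strictly perfect complex with free stalks at `x` are finite locally
free on a common open neighbourhood of `x` -/
theorem exists_open_isFinLocFree_homology (P : CochainComplex X.Modules ℤ)
    (hP : DCoh.IsStrictlyPerfect P) (x : X)
    (hfree : ∀ i, Module.Free (X.presheaf.stalk x) ↑((P.homology i).presheaf.stalk x)) :
    ∃ W : X.Opens, x ∈ W ∧ ∀ i, FlatMod.IsFinLocFree ((P.homology i).restrict W.ι) := by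
  obtain ⟨⟨a, b, hab⟩, hfl⟩ := hP
  have h := fun i => lfAt_homology P hfl b (fun i hi => hab i (Or.inr hi)) x hfree i
  choose W hxW hW using h
  refine ⟨(Finset.Icc a b).inf W, mem_finset_inf_opens _ W x (fun i _ => hxW i), fun i => ?_⟩
  by_cases hi : i ∈ Finset.Icc a b
  · exact isFinLocFree_restrict_of_le (Finset.inf_le hi) _ (hW i)
  · have hz : IsZero (P.homology i) := by
      apply ShortComplex.isZero_homology_of_isZero_X₂
      apply hab
      rw [Finset.mem_Icc] at hi
      omega
    exact isFinLocFree_of_isZero ((Scheme.Modules.restrictFunctor _).map_isZero hz)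

end

end Groth.Agent.Lib.Helper30.LocFreeHomology
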