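import Mathlib
import Groth.Agent.Lib.Helper30.StrictPerfHomology
import Groth.Agent.Lib.Helper45.ModulesBasic
import Groth.Agent.Lib.Helper16.CohThick.Basic
import Groth.Agent.Lib.Helper16.LFRes.LFHyp

set_option autoImplicit false
universe u
open CategoryTheory Limits Opposite TopologicalSpace AlgebraicGeometry
attribute [local instance] HasDerivedCategory.standard

namespace Groth.Agent.Lib.Helper30.PerfNoeth
open Groth.Agent.Lib.Helper30.PerfRestrict Groth.Agent.Lib.Helper30.StrictPerfHomology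
open Groth.Agent.Lib.Helper49 Groth.Agent.Lib.Helper6 Groth.Agent.Lib.Helper16

noncomputable section

variable {X : Scheme.{u}}

/-- vanishing of a module is local -/
theorem isZero_of_forall_restrict (M : X.Modules)
    (h : ∀ x : X, ∃ V : X.Opens, x ∈ V ∧ IsZero (M.restrict V.ι)) : IsZero M := by
  rw [Groth.Agent.Lib.Helper45.isZero_iff_sections_subsingleton]
  intro U
  refine ⟨fun s t => Groth.Agent.Lib.Helper45.section_ext_germ M U s t fun x hx => ?_⟩
  obtain ⟨V, hxV, hV⟩ := h x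
  let W : X.Opens := V.ι ''ᵁ (V.ι ⁻¹ᵁ U)
  have hWU : W ≤ U := by
    rintro _ ⟨z, hz, rfl⟩
    exact hz
  have hxW : x ∈ W := ⟨⟨x, hxV⟩, hx, rfl⟩
  have hsub : Subsingleton Γ(M, W) :=
    (Groth.Agent.Lib.Helper45.isZero_iff_sections_subsingleton (M.restrict V.ι)).mp hV (V.ι ⁻¹ᵁ U)
  have e : M.presheaf.map (homOfLE hWU).op s = M.presheaf.map (homOfLE hWU).op t :=
    hsub.elim _ _
  have h1 := TopCat.Presheaf.germ_res_apply M.presheaf (homOfLE hWU) x hxW s
  have h2 := TopCat.Presheaf.germ_res_apply M.presheaf (homOfLE hWU) x hxW t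
  rw [← h1, ← h2, e]

/-- coherence is local -/
theorem isCoh_of_forall_restrict (M : X.Modules)
    (h : ∀ x : X, ∃ V : X.Opens, x ∈ V ∧ Coh.IsCoh (M.restrict V.ι)) : Coh.IsCoh M := by
  choose V hxV hV using h
  exact ⟨isQuasicoherent_of_forall_restrict M (fun x : X => (V x : Scheme.{u})) (fun x => (V x).ι)
      (fun x => ⟨x, ⟨⟨x, hxV x⟩, rfl⟩⟩) (fun x => (hV x).1),
    isFiniteType_of_forall_restrict M (fun x : X => (V x : Scheme.{u})) (fun x => (V x).ι)
      (fun x => ⟨x, ⟨⟨x, hxV x⟩, rfl⟩⟩) (fun x => (hV x).2)⟩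

/-- cohomology sheaves of a strictly perfect complex on a locally Noetherian scheme are coherent -/
theorem isCoh_homology [IsLocallyNoetherian X] (E : CochainComplex X.Modules ℤ)
    (hE : DCoh.IsStrictlyPerfect E) (n : ℤ) : Coh.IsCoh (E.homology n) := by
  have hc : ∀ i, Coh.IsCoh (E.X i) := fun i => LFRes.isCoh_of_isFinLocFree (hE.2 i)
  let S := E.sc' (n - 1) n (n + 1)
  have e : E.homology n ≅ cokernel (kernel.lift S.g S.f S.zero) :=
    E.homologyIsoSc' (n - 1) n (n + 1) (by simp) (by simp) ≪≫ S.homologyIsoCokernelLift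
  have hk : Coh.IsCoh (kernel S.g) := (CohThick.cohP X).prop_kernel S.g (hc n) (hc (n + 1))
  have hcok : Coh.IsCoh (cokernel (kernel.lift S.g S.f S.zero)) :=
    (CohThick.cohP X).prop_cokernel _ (hc (n - 1)) hk
  exact CohThick.isCoh_of_iso e.symm hcok

end

end Groth.Agent.Lib.Helper30.PerfNoeth
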