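import Mathlib
import Groth.Agent.Lib.Helper30.PCTriangle
import Groth.Agent.Lib.Helper30.PCSummand
import Groth.Agent.Lib.Helper30.StrictPerfHomology

/-!
# Pseudo-coherence of a module placed in degree `0`

* `homologySingleIso`, `isZero_homology_single`: cohomology of `M[0]` in `D(C)`.
* `restrictSingleIso`: `(M[0])|_U ≅ (M|_U)[0]`.
* `isFinLocFree_free`: free modules on finite index types are finite locally free.
* `isStrictlyPerfect_single`, `perfObj_single`.
* `pcObj_single_of_epi`: an epi `P ↠ M` from a finite locally free `P` exhibits `M[0]` as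
  `0`-pseudo-coherent.
* `isFT_of_pcObj`, `isFP_of_pcObj`.
* `isPseudoCoherentD_of_forall_restrict`, `isFP_of_forall_restrict`.
-/

set_option autoImplicit false
universe u
open CategoryTheory Limits Opposite TopologicalSpace AlgebraicGeometry
attribute [local instance] HasDerivedCategory.standard

namespace Groth.Agent.Lib.Helper30.SinglePC
open Groth.Agent.Lib.Helper30.PerfRestrict Groth.Agent.Lib.Helper30.PCTriangle
open Groth.Agent.Lib.Helper30.PCSummand Groth.Agent.Lib.Helper30.StrictPerfHomology
open Groth.Agent.Lib.Helper49 Groth.Agent.Lib.Helper6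

noncomputable section

section General

variable (C : Type*) [Category C] [Abelian C] [HasDerivedCategory C]

/-- `H^0(M[0]) ≅ M`, naturally. -/
def homologySingleIso :
    DerivedCategory.singleFunctor C 0 ⋙ DerivedCategory.homologyFunctor C 0 ≅ 𝟭 C :=
  Functor.isoWhiskerRight (DerivedCategory.singleFunctorIsoCompQ C 0) _ ≪≫
    Functor.associator _ _ _ ≪≫
    Functor.isoWhiskerLeft _ (DerivedCategory.homologyFunctorFactors C 0) ≪≫
    HomologicalComplex.homologyFunctorSingleIso C (ComplexShape.up ℤ) 0

variable {C}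

lemma isZero_homology_single (M : C) (i : ℤ) (hi : i ≠ 0) :
    IsZero ((DerivedCategory.homologyFunctor C i).obj
      ((DerivedCategory.singleFunctor C 0).obj M)) := by
  rcases lt_or_gt_of_ne hi with h | h
  · exact DerivedCategory.isZero_of_isGE _ 0 i h
  · exact DerivedCategory.isZero_of_isLE _ 0 i h

lemma epi_homology_single_map {M N : C} (f : M ⟶ N) [Epi f] :
    Epi ((DerivedCategory.homologyFunctor C 0).map
      ((DerivedCategory.singleFunctor C 0).map f)) := by
  have h := NatIso.naturality_2 (homologySingleIso C) f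
  have h' : (DerivedCategory.homologyFunctor C 0).map ((DerivedCategory.singleFunctor C 0).map f) =
      (homologySingleIso C).hom.app M ≫ f ≫ (homologySingleIso C).inv.app N := by
    have := (homologySingleIso C).hom.naturality f
    simp only [Functor.comp_map, Functor.id_map] at this
    rw [← Category.assoc, ← this, Category.assoc, Iso.hom_inv_id_app, Category.comp_id]
  rw [h']
  infer_instance

lemma isIso_homology_single_map {M N : C} (f : M ⟶ N) [IsIso f] :
    IsIso ((DerivedCategory.homologyFunctor C 0).map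
      ((DerivedCategory.singleFunctor C 0).map f)) := inferInstance

end General

variable {X U : Scheme.{u}}

/-- restriction of a module placed in degree zero -/
def restrictSingleIso (j : U ⟶ X) [IsOpenImmersion j] (F : X.Modules) :
    (rD j).obj (DCoh.inD X F) ≅ DCoh.inD U (F.restrict j) :=
  ((Scheme.Modules.restrictFunctor j).mapDerivedCategorySingleFunctor 0).app F

/-- a finite free module, Mathlib form -/
def freeModIsoFreeOfFinite (I : Type u) [Finite I] :
    FlatMod.freeMod U (Nat.card I) ≅ SheafOfModules.free (R := U.ringCatSheaf) I :=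
  Sigma.whiskerEquiv (f := fun _ : Fin (Nat.card I) => Coh.structureModule U)
    (g := fun _ : I => SheafOfModules.unit U.ringCatSheaf)
    (Finite.equivFin I).symm (fun _ => Iso.refl _)

lemma isFinLocFree_free (I : Type u) [Finite I] :
    FlatMod.IsFinLocFree (X := U) (SheafOfModules.free (R := U.ringCatSheaf) I) :=
  Groth.Agent.Lib.Helper14.isFinLocFree_of_iso (freeModIsoFreeOfFinite I)
    (isFinLocFree_freeMod U (Nat.card I))

lemma isStrictlyPerfect_single (M : U.Modules) (hM : FlatMod.IsFinLocFree M) :
    DCoh.IsStrictlyPerfect ((CochainComplex.singleFunctor U.Modules 0).obj M) := by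
  refine ⟨⟨0, 0, fun i hi => ?_⟩, fun i => ?_⟩
  · exact HomologicalComplex.isZero_single_obj_X (ComplexShape.up ℤ) 0 M i (by omega)
  · by_cases hi : i = 0
    · subst hi
      exact Groth.Agent.Lib.Helper14.isFinLocFree_of_iso
        (HomologicalComplex.singleObjXSelf (ComplexShape.up ℤ) 0 M).symm hM
    · exact StrictPerfHomology.isFinLocFree_of_isZero
        (HomologicalComplex.isZero_single_obj_X (ComplexShape.up ℤ) 0 M i hi)

lemma perfObj_single (M : U.Modules) (hM : FlatMod.IsFinLocFree M) :
    PerfObj (DCoh.inD U M) :=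
  ⟨_, isStrictlyPerfect_single M hM, ⟨(DerivedCategory.singleFunctorIsoCompQ U.Modules 0).app M⟩⟩

/-- an epimorphism from a finite locally free module exhibits `M[0]` as `0`-pseudo-coherent -/
lemma pcObj_single_of_epi {P M : U.Modules} (π : P ⟶ M) [Epi π] (hP : FlatMod.IsFinLocFree P) :
    PCObj 0 (DCoh.inD U M) := by
  refine ⟨_, (DerivedCategory.singleFunctorIsoCompQ U.Modules 0).inv.app P ≫
    (DerivedCategory.singleFunctor U.Modules 0).map π, isStrictlyPerfect_single P hP,
    fun i hi => ?_, ?_⟩
  · refine ⟨(isZero_homology_single M i (by omega)).to_ _, (IsZero.eq_of_src ?_ _ _),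
      (isZero_homology_single M i (by omega)).eq_of_src _ _⟩
    exact (isZero_homology_single P i (by omega)).of_iso
      ((DerivedCategory.homologyFunctor _ i).mapIso
        ((DerivedCategory.singleFunctorIsoCompQ U.Modules 0).app P).symm)
  · rw [Functor.map_comp]
    have h5 := epi_homology_single_map π
    have h6 : Epi ((DerivedCategory.homologyFunctor U.Modules 0).map
        ((DerivedCategory.singleFunctorIsoCompQ U.Modules 0).inv.app P)) := inferInstance
    exact @epi_comp _ _ _ _ _ _ h6 _ h5

/-- the comparison `H^0(E) ⟶ M` induced by `α : Q E ⟶ M[0]` -/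
def homologyToSingle {E : CochainComplex U.Modules ℤ} {M : U.Modules}
    (α : DerivedCategory.Q.obj E ⟶ DCoh.inD U M) : E.homology 0 ⟶ M :=
  ((DerivedCategory.homologyFunctorFactors U.Modules 0).app E).inv ≫
    (DerivedCategory.homologyFunctor U.Modules 0).map α ≫
    (homologySingleIso U.Modules).hom.app M

lemma isZero_homology_of_isIso {E : CochainComplex U.Modules ℤ} {M : U.Modules}
    (α : DerivedCategory.Q.obj E ⟶ DCoh.inD U M) (i : ℤ) (hi : i ≠ 0)
    (h : IsIso ((DerivedCategory.homologyFunctor U.Modules i).map α)) : IsZero (E.homology i) :=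
  (isZero_homology_single M i hi).of_iso
    (((DerivedCategory.homologyFunctorFactors U.Modules i).app E).symm ≪≫
      asIso ((DerivedCategory.homologyFunctor U.Modules i).map α))

/-- if `M[0]` admits a `0`-pseudo-coherence witness, then `M` is of finite type -/
lemma isFT_of_pcObj {M : U.Modules} (h : PCObj 0 (DCoh.inD U M)) : CohB1.IsFT M := by
  obtain ⟨E, α, hE, h1, h2⟩ := h
  have hz : ∀ i, 0 < i → IsZero (E.homology i) := fun i hi =>
    isZero_homology_of_isIso α i (by omega) (h1 i hi)
  have hfp : SheafOfModules.IsFinitePresentation.{u} (R := U.ringCatSheaf) (E.homology 0) :=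
    isFP_homology_top E hE 0 hz
  have hft : SheafOfModules.IsFiniteType.{u} (R := U.ringCatSheaf) (E.homology 0) := inferInstance
  have : Epi (homologyToSingle α) := by
    unfold homologyToSingle
    have h3 : Epi ((DerivedCategory.homologyFunctor U.Modules 0).map α ≫
        (homologySingleIso U.Modules).hom.app M) := @epi_comp _ _ _ _ _ _ h2 _ inferInstance
    exact @epi_comp _ _ _ _ _ _ inferInstance _ h3
  exact isFiniteType_of_epi (homologyToSingle α) hft

/-- if `M[0]` admits a `(-1)`-pseudo-coherence witness, then `M` is finitely presented -/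
lemma isFP_of_pcObj {M : U.Modules} (h : PCObj (-1) (DCoh.inD U M)) : CohB1.IsFP M := by
  obtain ⟨E, α, hE, h1, h2⟩ := h
  have hz : ∀ i, 0 < i → IsZero (E.homology i) := fun i hi =>
    isZero_homology_of_isIso α i (by omega) (h1 i (by omega))
  have hfp := isFP_homology_top E hE 0 hz
  have h0 := h1 0 (by omega)
  have : IsIso (homologyToSingle α) := by
    unfold homologyToSingle
    have h3 : IsIso ((DerivedCategory.homologyFunctor U.Modules 0).map α ≫
        (homologySingleIso U.Modules).hom.app M) :=
      @IsIso.comp_isIso _ _ _ _ _ _ _ h0 inferInstance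
    exact @IsIso.comp_isIso _ _ _ _ _ _ _ inferInstance h3
  exact isFinitePresentation_of_iso (asIso (homologyToSingle α)) hfp

/-- finite presentation is local -/
theorem isFP_of_forall_restrict (M : X.Modules)
    (h : ∀ x : X, ∃ V : X.Opens, x ∈ V ∧ CohB1.IsFP (M.restrict V.ι)) : CohB1.IsFP M := by
  have key : ∀ x : X, ∃ (Y : Scheme.{u}) (f : Y ⟶ X) (_ : IsOpenImmersion f),
      x ∈ Set.range f ∧ ∃ P : (M.restrict f).Presentation, P.IsFinite := by
    intro x
    obtain ⟨V, hxV, hV⟩ := h x
    obtain ⟨ι, W, hW, hP⟩ := exists_cover_of_isFinitePresentation _ hV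
    have hx : (⟨x, hxV⟩ : V) ∈ (⨆ i, W i : (V : Scheme.{u}).Opens) := by rw [hW]; trivial
    obtain ⟨i, hi⟩ := TopologicalSpace.Opens.mem_iSup.mp hx
    refine ⟨(W i : Scheme.{u}), (W i).ι ≫ V.ι, inferInstance, ⟨⟨⟨x, hxV⟩, hi⟩, rfl⟩, ?_⟩
    exact exists_presentation_of_iso
      ((Scheme.Modules.restrictFunctorComp (W i).ι V.ι).app M).symm (hP i)
  choose Y f hf hx hP using key
  exact isFinitePresentation_of_forall_restrict M Y f (fun x => ⟨x, hx x⟩) hP

/-- pseudo-coherence is local -/
theorem isPseudoCoherentD_of_forall_restrict (m : ℤ) (K : DCoh.D X)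
    (h : ∀ x : X, ∃ V : X.Opens, x ∈ V ∧ DCoh.IsPseudoCoherentD m ((rD V.ι).obj K)) :
    DCoh.IsPseudoCoherentD m K := by
  apply isPseudoCoherentD_of_openImmersions
  intro x
  obtain ⟨V, hxV, hV⟩ := h x
  rw [isPseudoCoherentD_iff] at hV
  obtain ⟨W, hxW, hW⟩ := hV ⟨x, hxV⟩
  exact ⟨(W : Scheme.{u}), W.ι ≫ V.ι, inferInstance, ⟨⟨⟨x, hxV⟩, hxW⟩, rfl⟩,
    PCObj.of_iso ((rDComp W.ι V.ι).app K).symm hW⟩

end

end Groth.Agent.Lib.Helper30.SinglePC
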