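import Mathlib
import Groth.Agent.Lib.Helper30.SinglePC
import Groth.Agent.Lib.Helper30.PerfNoeth

/-!
# Pseudo-coherence on locally Noetherian schemes

* `isIso_homology_mor₁`, `isIso_homology_mor₂`: long exact sequence consequences.
* `isCoh_restrict`.
* `isPseudoCoherentD_single_of_isCoh`: on a locally Noetherian scheme a coherent module placed
  in degree `0` is `m`-pseudo-coherent for every `m`.
* `isPseudoCoherentD_singleFunctor_of_isCoh`: same in degree `b`.
* `isPseudoCoherentD_of_isCoh_homology`: `E` bounded above with `H^i(E)` coherent for `i ≥ m`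
  is `m`-pseudo-coherent.
* `isCoh_homology_of_isPseudoCoherentD`, `exists_isLE_of_isPseudoCoherentD`: converse.
-/

set_option autoImplicit false
universe u
open CategoryTheory Limits Opposite TopologicalSpace AlgebraicGeometry Pretriangulated
attribute [local instance] HasDerivedCategory.standard

namespace Groth.Agent.Lib.Helper30.PCNoeth
open Groth.Agent.Lib.Helper30.PerfRestrict Groth.Agent.Lib.Helper30.PCTriangle
open Groth.Agent.Lib.Helper30.PCSummand Groth.Agent.Lib.Helper30.SinglePC
open Groth.Agent.Lib.Helper30.PerfNoeth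
open Groth.Agent.Lib.Helper49 Groth.Agent.Lib.Helper6 Groth.Agent.Lib.Helper16

noncomputable section

section General

variable {C : Type*} [Category C] [Abelian C] [HasDerivedCategory C]

lemma isIso_homology_mor₁ (T : Triangle (DerivedCategory C)) (hT : T ∈ distTriang _) (i j : ℤ)
    (hij : i + 1 = j)
    (h3 : IsZero ((DerivedCategory.homologyFunctor C i).obj T.obj₃))
    (h3' : IsZero ((DerivedCategory.homologyFunctor C j).obj T.obj₃)) :
    IsIso ((DerivedCategory.homologyFunctor C j).map T.mor₁) := by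
  have h1 : Epi ((DerivedCategory.homologyFunctor C j).map T.mor₁) :=
    (DerivedCategory.HomologySequence.epi_homologyMap_mor₁_iff T hT j).mpr (h3'.eq_of_tgt _ _)
  have h2 : Mono ((DerivedCategory.homologyFunctor C j).map T.mor₁) :=
    (DerivedCategory.HomologySequence.mono_homologyMap_mor₁_iff T hT i j hij).mpr
      (h3.eq_of_src _ _)
  exact isIso_of_mono_of_epi _

lemma isIso_homology_mor₂ (T : Triangle (DerivedCategory C)) (hT : T ∈ distTriang _) (i j : ℤ)
    (hij : i + 1 = j)
    (h1 : IsZero ((DerivedCategory.homologyFunctor C i).obj T.obj₁))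
    (h1' : IsZero ((DerivedCategory.homologyFunctor C j).obj T.obj₁)) :
    IsIso ((DerivedCategory.homologyFunctor C i).map T.mor₂) := by
  have h2 : Mono ((DerivedCategory.homologyFunctor C i).map T.mor₂) :=
    (DerivedCategory.HomologySequence.mono_homologyMap_mor₂_iff T hT i).mpr (h1.eq_of_src _ _)
  have h3 : Epi ((DerivedCategory.homologyFunctor C i).map T.mor₂) :=
    (DerivedCategory.HomologySequence.epi_homologyMap_mor₂_iff T hT i j hij).mpr
      (h1'.eq_of_tgt _ _)
  exact isIso_of_mono_of_epi _

end General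

variable {X U : Scheme.{u}}

lemma isCoh_restrict (j : U ⟶ X) [IsOpenImmersion j] (M : X.Modules) (h : Coh.IsCoh M) :
    Coh.IsCoh (M.restrict j) := by
  have := h.1
  exact ⟨Scheme.Modules.isQuasicoherent_restrictFunctor j M, isFiniteType_restrict M j h.2⟩

/-- on a locally Noetherian scheme, a coherent module in degree `0` is `(-k)`-pseudo-coherent -/
theorem isPseudoCoherentD_single_of_isCoh_aux (k : ℕ) :
    ∀ (U : Scheme.{u}) [IsLocallyNoetherian U] (F : U.Modules), Coh.IsCoh F →
      DCoh.IsPseudoCoherentD (-(k : ℤ)) (DCoh.inD U F) := by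
  induction k with
  | zero =>
    intro U _ F hF
    rw [isPseudoCoherentD_iff]
    intro x
    obtain ⟨ι, V, hV, hG⟩ := exists_cover_of_isFiniteType F hF.2
    have hx : x ∈ (⨆ i, V i : U.Opens) := by rw [hV]; trivial
    obtain ⟨i, hi⟩ := TopologicalSpace.Opens.mem_iSup.mp hx
    obtain ⟨G, hGf⟩ := hG i
    have : Finite G.I := hGf.finite
    have hepi : Epi (C := (V i : Scheme.{u}).Modules) G.π := G.epi
    exact ⟨V i, hi, PCObj.of_iso (restrictSingleIso (V i).ι F).symm
      (@pcObj_single_of_epi _ _ _ G.π hepi (isFinLocFree_free G.I))⟩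
  | succ k ih =>
    intro U _ F hF
    apply isPseudoCoherentD_of_forall_restrict
    intro x
    obtain ⟨ι, V, hV, hG⟩ := exists_cover_of_isFiniteType F hF.2
    have hx : x ∈ (⨆ i, V i : U.Opens) := by rw [hV]; trivial
    obtain ⟨i, hi⟩ := TopologicalSpace.Opens.mem_iSup.mp hx
    obtain ⟨G, hGf⟩ := hG i
    refine ⟨V i, hi, isPseudoCoherentD_of_iso (restrictSingleIso (V i).ι F).symm _ ?_⟩
    have : Finite G.I := hGf.finite
    have hepi : Epi (C := (V i : Scheme.{u}).Modules) G.π := G.epi
    have hfree := isFinLocFree_free (U := (V i : Scheme.{u})) G.I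
    have hK : Coh.IsCoh (kernel (C := (V i : Scheme.{u}).Modules) G.π) :=
      (CohThick.cohP (V i : Scheme.{u})).prop_kernel G.π (LFRes.isCoh_of_isFinLocFree hfree)
        (isCoh_restrict (V i).ι F hF)
    let S : ShortComplex (V i : Scheme.{u}).Modules :=
      ShortComplex.mk (kernel.ι G.π) G.π (kernel.condition G.π)
    have hS : S.ShortExact :=
      { exact := ShortComplex.exact_of_f_is_kernel _ (kernelIsKernel _)
        mono_f := inferInstanceAs (Mono (kernel.ι G.π))
        epi_g := hepi }
    have h1 : DCoh.IsPseudoCoherentD (-((k + 1 : ℕ) : ℤ) + 1) hS.singleTriangle.obj₁ := by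
      have := ih (V i : Scheme.{u}) _ hK
      have e : (-((k + 1 : ℕ) : ℤ) + 1) = -(k : ℤ) := by push_cast; ring
      rw [e]
      exact this
    have h2 : DCoh.IsPseudoCoherentD (-((k + 1 : ℕ) : ℤ)) hS.singleTriangle.obj₂ :=
      isPseudoCoherentD_of_pcObj ((perfObj_single _ hfree).pcObj _)
    exact isPseudoCoherentD_obj₃ _ hS.singleTriangle_distinguished _ h1 h2

theorem isPseudoCoherentD_single_of_isCoh [IsLocallyNoetherian U] (F : U.Modules)
    (hF : Coh.IsCoh F) (m : ℤ) : DCoh.IsPseudoCoherentD m (DCoh.inD U F) := by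
  have h := isPseudoCoherentD_single_of_isCoh_aux m.natAbs U F hF
  exact isPseudoCoherentD_mono (by omega) _ h

/-- `H^b(M[-b]) ≅ M`, naturally. -/
def homologySingleIso' (C : Type*) [Category C] [Abelian C] [HasDerivedCategory C] (b : ℤ) :
    DerivedCategory.singleFunctor C b ⋙ DerivedCategory.homologyFunctor C b ≅ 𝟭 C :=
  Functor.isoWhiskerRight (DerivedCategory.singleFunctorIsoCompQ C b) _ ≪≫
    Functor.associator _ _ _ ≪≫
    Functor.isoWhiskerLeft _ (DerivedCategory.homologyFunctorFactors C b) ≪≫
    HomologicalComplex.homologyFunctorSingleIso C (ComplexShape.up ℤ) b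

/-- a coherent module placed in degree `b` is `m`-pseudo-coherent for all `m` -/
theorem isPseudoCoherentD_singleFunctor_of_isCoh [IsLocallyNoetherian U] (F : U.Modules)
    (hF : Coh.IsCoh F) (b m : ℤ) :
    DCoh.IsPseudoCoherentD m ((DerivedCategory.singleFunctor U.Modules b).obj F) := by
  have h := isPseudoCoherentD_single_of_isCoh F hF (m - b)
  have h' := isPseudoCoherentD_shift _ (m - b) (-b) h
  have e : ((DCoh.inD U F)⟦-b⟧) ≅ (DerivedCategory.singleFunctor U.Modules b).obj F :=
    ((DerivedCategory.singleFunctors U.Modules).shiftIso (-b) b 0 (by omega)).app F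
  have hm : m - b - (-b) = m := by omega
  rw [hm] at h'
  exact isPseudoCoherentD_of_iso e m h'

theorem isPseudoCoherentD_of_isLE (E : DCoh.D U) (b m : ℤ) [E.IsLE b] (hbm : b < m) :
    DCoh.IsPseudoCoherentD m E :=
  isPseudoCoherentD_of_pcObj (pcObj_of_isZero_homology
    (fun i hi => DerivedCategory.isZero_of_isLE E b i (by omega)))

theorem isPseudoCoherentD_of_isCoh_homology_aux [IsLocallyNoetherian U] (k : ℕ) :
    ∀ (E : DCoh.D U) (b m : ℤ), E.IsLE b → b < m + k →
      (∀ i, m ≤ i → Coh.IsCoh (DCoh.HD E i)) → DCoh.IsPseudoCoherentD m E := by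
  induction k with
  | zero =>
    intro E b m hb hbm _
    exact isPseudoCoherentD_of_isLE E b m (by simpa using hbm)
  | succ k ih =>
    intro E b m hb hbm hcoh
    by_cases hm : b < m
    · exact isPseudoCoherentD_of_isLE E b m hm
    · have hmb : m ≤ b := by omega
      let t := DerivedCategory.TStructure.t (C := U.Modules)
      let T := (t.triangleLEGE (b - 1) b (by omega)).obj E
      have hT : T ∈ distTriang _ := t.triangleLEGE_distinguished (b - 1) b (by omega) E
      have hle1 : T.obj₁.IsLE (b - 1) := inferInstanceAs (t.IsLE ((t.truncLE (b - 1)).obj E) (b - 1))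
      have hge3 : T.obj₃.IsGE b := inferInstanceAs (t.IsGE ((t.truncGE b).obj E) b)
      have hle3 : T.obj₃.IsLE b := inferInstanceAs (t.IsLE ((t.truncGE b).obj E) b)
      -- the first term
      have h1 : DCoh.IsPseudoCoherentD m T.obj₁ := by
        refine ih T.obj₁ (b - 1) m hle1 (by push_cast at hbm; omega) (fun i hi => ?_)
        by_cases hib : i < b
        · have hiso := isIso_homology_mor₁ T hT (i - 1) i (by omega)
            (DerivedCategory.isZero_of_isGE T.obj₃ b (i - 1) (by omega))
            (DerivedCategory.isZero_of_isGE T.obj₃ b i hib)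
          exact CohThick.isCoh_of_iso (asIso ((DerivedCategory.homologyFunctor _ i).map T.mor₁)).symm
            (hcoh i hi)
        · exact CohThick.isCoh_of_isZero
            (DerivedCategory.isZero_of_isLE T.obj₁ (b - 1) i (by omega))
      -- the third term
      obtain ⟨Y, ⟨e⟩⟩ := DerivedCategory.exists_iso_singleFunctor_obj_of_isGE_of_isLE T.obj₃ b
      have hiso := isIso_homology_mor₂ T hT b (b + 1) rfl
        (DerivedCategory.isZero_of_isLE T.obj₁ (b - 1) b (by omega))
        (DerivedCategory.isZero_of_isLE T.obj₁ (b - 1) (b + 1) (by omega))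
      have hY : Coh.IsCoh Y :=
        CohThick.isCoh_of_iso (asIso ((DerivedCategory.homologyFunctor _ b).map T.mor₂) ≪≫
          (DerivedCategory.homologyFunctor _ b).mapIso e ≪≫
          (homologySingleIso' U.Modules b).app Y) (hcoh b hmb)
      have h3 : DCoh.IsPseudoCoherentD m T.obj₃ :=
        isPseudoCoherentD_of_iso e.symm m (isPseudoCoherentD_singleFunctor_of_isCoh Y hY b m)
      have h3' : DCoh.IsPseudoCoherentD (m + 1) T.invRotate.obj₁ := by
        have := isPseudoCoherentD_shift T.obj₃ m (-1) h3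
        have hm' : m - (-1) = m + 1 := by omega
        rw [hm'] at this
        exact this
      exact isPseudoCoherentD_obj₃ T.invRotate (inv_rot_of_distTriang _ hT) m h3' h1

/-- on a locally Noetherian scheme, a bounded above object whose cohomology sheaves are coherent
in degrees `≥ m` is `m`-pseudo-coherent -/
theorem isPseudoCoherentD_of_isCoh_homology [IsLocallyNoetherian U] (E : DCoh.D U) (b m : ℤ)
    [E.IsLE b] (hcoh : ∀ i, m ≤ i → Coh.IsCoh (DCoh.HD E i)) : DCoh.IsPseudoCoherentD m E :=
  isPseudoCoherentD_of_isCoh_homology_aux (b - m + 1).toNat E b m inferInstance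
    (by omega) hcoh

/-- the comparison `H^i(E)|_V ≅ H^i(E|_V)` -/
def homologyRestrictIso (j : U ⟶ X) [IsOpenImmersion j] (E : DCoh.D X) (i : ℤ) :
    DCoh.HD ((rD j).obj E) i ≅ (DCoh.HD E i).restrict j :=
  (ExactDC.homologyIso (Scheme.Modules.restrictFunctor j) i).app E

/-- cohomology sheaves of an `m`-pseudo-coherent object in degrees `≥ m` are of finite type
(locally Noetherian case) -/
theorem isFT_homology_of_isPseudoCoherentD [IsLocallyNoetherian X] (E : DCoh.D X) (m : ℤ)
    (h : DCoh.IsPseudoCoherentD m E) (i : ℤ) (hi : m ≤ i) : CohB1.IsFT (DCoh.HD E i) := by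
  rw [isPseudoCoherentD_iff] at h
  choose V hxV hV using h
  refine isFiniteType_of_forall_restrict _ (fun x : X => (V x : Scheme.{u})) (fun x => (V x).ι)
    (fun x => ⟨x, ⟨⟨x, hxV x⟩, rfl⟩⟩) (fun x => ?_)
  obtain ⟨P, α, hP, h1, h2⟩ := hV x
  have hepi : Epi ((DerivedCategory.homologyFunctor _ i).map α) := by
    rcases eq_or_lt_of_le hi with rfl | hi'
    · exact h2
    · have := h1 i hi'; infer_instance
  have hc : Coh.IsCoh (P.homology i) := isCoh_homology P hP i
  let p : P.homology i ⟶ (DCoh.HD E i).restrict (V x).ι :=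
    ((DerivedCategory.homologyFunctorFactors _ i).app P).inv ≫
      (DerivedCategory.homologyFunctor _ i).map α ≫ (homologyRestrictIso (V x).ι E i).hom
  have : Epi p := by
    have h3 : Epi ((DerivedCategory.homologyFunctor _ i).map α ≫
        (homologyRestrictIso (V x).ι E i).hom) := @epi_comp _ _ _ _ _ _ hepi _ inferInstance
    exact @epi_comp _ _ _ _ _ _ inferInstance _ h3
  exact isFiniteType_of_epi p hc.2

/-- a pseudo-coherent object on a quasi-compact scheme is bounded above -/
theorem exists_isLE_of_isPseudoCoherentD [CompactSpace X] (E : DCoh.D X) (m : ℤ)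
    (h : DCoh.IsPseudoCoherentD m E) : ∃ b : ℤ, E.IsLE b := by
  rw [isPseudoCoherentD_iff] at h
  choose V hxV hV using h
  have key : ∀ x : X, ∃ b : ℤ, ∀ i : ℤ, b < i →
      IsZero ((DCoh.HD E i).restrict (V x).ι) := by
    intro x
    obtain ⟨P, α, ⟨⟨a, b, hab⟩, hfl⟩, h1, h2⟩ := hV x
    refine ⟨max b m, fun i hi => ?_⟩
    have hz : IsZero (P.homology i) :=
      ShortComplex.isZero_homology_of_isZero_X₂ _ (hab i (Or.inr (by omega)))
    have := h1 i (by omega)
    exact hz.of_iso ((homologyRestrictIso (V x).ι E i).symm ≪≫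
      (asIso ((DerivedCategory.homologyFunctor _ i).map α)).symm ≪≫
      (DerivedCategory.homologyFunctorFactors _ i).app P)
  choose b hb using key
  obtain ⟨t, ht⟩ := isCompact_univ.elim_finite_subcover (fun x : X => ((V x : X.Opens) : Set X))
    (fun x => (V x).isOpen) (fun x _ => Set.mem_iUnion.mpr ⟨x, hxV x⟩)
  refine ⟨((t.sup (fun x => (b x).toNat) : ℕ) : ℤ), ?_⟩
  rw [DerivedCategory.isLE_iff]
  intro i hi
  apply isZero_of_forall_restrict
  intro y
  obtain ⟨x, hx⟩ := Set.mem_iUnion.mp (ht (Set.mem_univ y))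
  obtain ⟨hxt, hyx⟩ := Set.mem_iUnion.mp hx
  refine ⟨V x, hyx, hb x i ?_⟩
  have h5 : (b x).toNat ≤ t.sup (fun x => (b x).toNat) := Finset.le_sup (f := fun x => (b x).toNat) hxt
  have h6 : b x ≤ ((b x).toNat : ℤ) := Int.self_le_toNat _
  omega

end

end Groth.Agent.Lib.Helper30.PCNoeth
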