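import Mathlib
import Groth.Prelude.Def_DCoh2
import Groth.Agent.Lib.Helper30.PerfRestrict
import Groth.Agent.Lib.Helper6.ExactDC
import Groth.Agent.Lib.Helper49.QCohLocal
import Groth.Agent.Lib.Helper49.FreeMod

/-!
# Pseudo-coherent objects of `D(O_X)` have quasi-coherent cohomology sheaves (helper30)

* `isQuasicoherent_homology`: the homology of a complex of quasi-coherent modules is quasi-coherent;
* `isQCohD_of_isPseudoCoherentD`: an object of `D(O_X)` which is `m`-pseudo-coherent for all `m`
  has quasi-coherent cohomology sheaves;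
* `isQCohD_of_isPerfect`.
-/

set_option autoImplicit false
universe u
open CategoryTheory CategoryTheory.Limits AlgebraicGeometry
attribute [local instance] HasDerivedCategory.standard

namespace Groth.Agent.Lib.Helper30.PCQCoh

open Groth.Agent.Lib.Helper30.PerfRestrict Groth.Agent.Lib.Helper49 Groth.Agent.Lib.Helper6

variable {X : Scheme.{u}}

/-- the homology of a complex of quasi-coherent modules is quasi-coherent -/
theorem isQuasicoherent_homology (K : CochainComplex X.Modules ℤ)
    (h : ∀ j, (K.X j).IsQuasicoherent) (i : ℤ) : (K.homology i).IsQuasicoherent := by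
  have e : K.homology i ≅ _ := (K.sc i).homologyIsoCokernelLift
  refine isQuasicoherent_of_iso e.symm ?_
  apply isQuasicoherent_cokernel
  · exact h _
  · exact isQuasicoherent_kernel _ (h _) (h _)

/-- an object of `D(O_X)` which is `(i-1)`-pseudo-coherent has quasi-coherent `H^i` -/
theorem isQuasicoherent_HD_of_isPseudoCoherentD (E : DCoh.D X) (i : ℤ)
    (h : DCoh.IsPseudoCoherentD (i - 1) E) : (DCoh.HD E i).IsQuasicoherent := by
  have h1 := (isPseudoCoherentD_iff (i - 1) E).1 h
  choose V hxV hV using h1
  refine isQuasicoherent_of_forall_restrict (DCoh.HD E i)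
    (fun x : X => ((V x : X.Opens) : Scheme.{u})) (fun x => (V x).ι) (fun x => ⟨x, ?_⟩) fun x => ?_
  · rw [Scheme.Opens.range_ι]
    exact hxV x
  · obtain ⟨P, α, hP, hiso, -⟩ := hV x
    have := hiso i (by omega)
    have e1 := (ExactDC.homologyIso (Scheme.Modules.restrictFunctor (V x).ι) i).app E
    have e2 := asIso ((DerivedCategory.homologyFunctor _ i).map α)
    have e3 := (DerivedCategory.homologyFunctorFactors (V x : Scheme.{u}).Modules i).app P
    refine isQuasicoherent_of_iso (e3.symm ≪≫ e2 ≪≫ e1) ?_
    exact isQuasicoherent_homology P (fun j => isQuasicoherent_of_isFinLocFree _ (hP.2 j)) i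

/-- pseudo-coherent objects have quasi-coherent cohomology sheaves -/
theorem isQCohD_of_isPseudoCoherentD (E : DCoh.D X) (h : ∀ m : ℤ, DCoh.IsPseudoCoherentD m E) :
    DCoh.IsQCohD E :=
  fun i => isQuasicoherent_HD_of_isPseudoCoherentD E i (h (i - 1))

end Groth.Agent.Lib.Helper30.PCQCoh
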