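import Mathlib
import Groth.Agent.Lib.Helper30.PCNoeth
import Groth.Agent.Lib.Helper30.PerfTriangle
import Groth.Agent.Lib.Helper35.RegPerf
import Groth.Agent.Lib.Helper49.TildeExact
import Groth.Agent.Lib.Helper49.TildeFinLocFree
import Groth.Agent.Lib.Helper49.FiniteTypeAffine
import Groth.Agent.Lib.Helper16.LFRes.Regular

/-!
# Perfect objects on regular Noetherian schemes

* `perfObj_inD_tilde`: over a regular Noetherian ring, `M~[0]` is (globally) strictly perfect for
  finite `M`.
* `isPerfect_inD_of_isCoh`: on a regular locally Noetherian scheme, coherent modules are perfect.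
* `isPerfect_of_isCohD_of_bounded`: bounded complexes with coherent cohomology are perfect.
* `isCohD_of_isPerfect`, `exists_bounds_of_isPerfect`: the converse on Noetherian schemes.
-/

set_option autoImplicit false
universe u
open CategoryTheory Limits Opposite TopologicalSpace AlgebraicGeometry Pretriangulated ZeroObject
attribute [local instance] HasDerivedCategory.standard

namespace Groth.Agent.Lib.Helper30.PerfRegular
open Groth.Agent.Lib.Helper30.PerfRestrict Groth.Agent.Lib.Helper30.PCTriangle
open Groth.Agent.Lib.Helper30.PCSummand Groth.Agent.Lib.Helper30.SinglePC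
open Groth.Agent.Lib.Helper30.PerfNoeth Groth.Agent.Lib.Helper30.PCNoeth
open Groth.Agent.Lib.Helper30.PerfTriangle
open Groth.Agent.Lib.Helper49 Groth.Agent.Lib.Helper6 Groth.Agent.Lib.Helper16

noncomputable section

section Affine

variable (R : CommRingCat.{u})

instance : PreservesFiniteLimits (tilde.functor R) := preservesFiniteLimits_tilde R
instance : PreservesFiniteColimits (tilde.functor R) := preservesFiniteColimits_tilde R

/-- the image of a perfect object of `D(R)` under `~` is (globally) strictly perfect -/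
theorem perfObj_tildeD (K : Dual.D R) (hK : DRing.IsPerfect R K) :
    PerfObj (U := Spec R) ((tilde.functor R).mapDerivedCategory.obj K) := by
  obtain ⟨E, a, b, hv, hfp, ⟨e⟩⟩ := hK
  refine ⟨((tilde.functor R).mapHomologicalComplex (ComplexShape.up ℤ)).obj E,
    ⟨⟨a, b, fun i hi => (tilde.functor R).map_isZero (hv i hi)⟩, fun i => ?_⟩, ⟨?_⟩⟩
  · exact (isFinLocFree_tilde_iff (E.X i)).mpr (hfp i)
  · exact (tilde.functor R).mapDerivedCategory.mapIso e.symm ≪≫
      ((tilde.functor R).mapDerivedCategoryFactors).app E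

theorem perfObj_inD_tilde [IsNoetherianRing R] (M : ModuleCat.{u} R) [Module.Finite R M]
    (hreg : ∀ p : PrimeSpectrum R, IsRegularLocalRing (Localization.AtPrime p.asIdeal)) :
    PerfObj (U := Spec R) (DCoh.inD (Spec R) ((tilde.functor R).obj M)) :=
  PerfObj.of_iso (((tilde.functor R).mapDerivedCategorySingleFunctor 0).app M)
    (perfObj_tildeD R _ (Groth.Agent.Lib.Helper35.KL.isPerfect_single_of_finite_of_regular M hreg))

end Affine

variable {X U : Scheme.{u}}

/-- on a regular locally Noetherian scheme, a coherent module placed in degree `0` is perfect -/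
theorem isPerfect_inD_of_isCoh [IsLocallyNoetherian X]
    (hreg : ∀ x : X, IsRegularLocalRing (X.presheaf.stalk x)) (F : X.Modules) (hF : Coh.IsCoh F) :
    DCoh.IsPerfect (DCoh.inD X F) := by
  apply isPerfect_of_openImmersions
  intro x
  obtain ⟨_, ⟨V, hV : IsAffineOpen V, rfl⟩, hxV, -⟩ :=
    X.isBasis_affineOpens.exists_subset_of_mem_open (Set.mem_univ x) isOpen_univ
  refine ⟨Spec Γ(X, V), hV.fromSpec, inferInstance, by rw [hV.range_fromSpec]; exact hxV, ?_⟩
  have hc := isCoh_restrict hV.fromSpec F hF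
  have := hc.1
  obtain ⟨N, ⟨e⟩⟩ : (tilde.functor Γ(X, V)).essImage (F.restrict hV.fromSpec) := by
    rw [AlgebraicGeometry.essImage_tilde]
    exact hc.1
  have hN : Module.Finite Γ(X, V) N :=
    finite_of_isFiniteType_tilde _ N (isFiniteType_of_iso e.symm hc.2)
  have : IsNoetherianRing Γ(X, V) := IsLocallyNoetherian.component_noetherian ⟨V, hV⟩
  have h := perfObj_inD_tilde Γ(X, V) N
    (fun p => LFRes.isRegularLocalRing_localization_sections hreg hV p)
  exact PerfObj.of_iso ((DerivedCategory.singleFunctor _ 0).mapIso e ≪≫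
    (restrictSingleIso hV.fromSpec F).symm) h

theorem isPerfect_of_iso {K K' : DCoh.D X} (e : K ≅ K') (h : DCoh.IsPerfect K) :
    DCoh.IsPerfect K' := by
  rw [isPerfect_iff] at h ⊢
  intro x
  obtain ⟨V, hxV, hV⟩ := h x
  exact ⟨V, hxV, PerfObj.of_iso ((rD V.ι).mapIso e) hV⟩

theorem isPerfect_of_isZero {K : DCoh.D X} (h : IsZero K) : DCoh.IsPerfect K := by
  rw [isPerfect_iff]
  intro x
  refine ⟨⊤, trivial, 0, isStrictlyPerfect_zero, ⟨?_⟩⟩
  exact (((rD (⊤ : X.Opens).ι).map_isZero h)).iso
    (DerivedCategory.Q.map_isZero (isZero_zero _))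

/-- an object of the derived category all of whose cohomology vanishes is zero -/
lemma isZero_of_isZero_homology {C : Type*} [Category C] [Abelian C] [HasDerivedCategory C]
    (K : DerivedCategory C)
    (h : ∀ i : ℤ, IsZero ((DerivedCategory.homologyFunctor C i).obj K)) : IsZero K := by
  have hiso : IsIso (0 : K ⟶ 0) := by
    rw [DerivedCategory.isIso_iff]
    intro n
    refine ⟨0, (h n).eq_of_src _ _, ?_⟩
    exact ((DerivedCategory.homologyFunctor C n).map_isZero (isZero_zero _)).eq_of_src _ _
  exact (isZero_zero _).of_iso (asIso (0 : K ⟶ 0))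

/-- on a regular locally Noetherian scheme, a coherent module placed in degree `b` is perfect -/
theorem isPerfect_singleFunctor_of_isCoh [IsLocallyNoetherian X]
    (hreg : ∀ x : X, IsRegularLocalRing (X.presheaf.stalk x)) (F : X.Modules) (hF : Coh.IsCoh F)
    (b : ℤ) : DCoh.IsPerfect ((DerivedCategory.singleFunctor X.Modules b).obj F) := by
  have h := isPerfect_shift _ (-b) (isPerfect_inD_of_isCoh hreg F hF)
  have e : ((DCoh.inD X F)⟦-b⟧) ≅ (DerivedCategory.singleFunctor X.Modules b).obj F :=
    ((DerivedCategory.singleFunctors X.Modules).shiftIso (-b) b 0 (by omega)).app F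
  exact isPerfect_of_iso e h

theorem isPerfect_of_isCohD_of_bounded_aux [IsLocallyNoetherian X]
    (hreg : ∀ x : X, IsRegularLocalRing (X.presheaf.stalk x)) (k : ℕ) :
    ∀ (E : DCoh.D X) (a b : ℤ), E.IsGE a → E.IsLE b → b < a + k →
      (∀ i, Coh.IsCoh (DCoh.HD E i)) → DCoh.IsPerfect E := by
  induction k with
  | zero =>
    intro E a b ha hb hab _
    refine isPerfect_of_isZero (isZero_of_isZero_homology E fun i => ?_)
    by_cases hi : i < a
    · exact DerivedCategory.isZero_of_isGE E a i hi
    · exact DerivedCategory.isZero_of_isLE E b i (by push_cast at hab; omega)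
  | succ k ih =>
    intro E a b ha hb hab hcoh
    let t := DerivedCategory.TStructure.t (C := X.Modules)
    let T := (t.triangleLEGE (b - 1) b (by omega)).obj E
    have hT : T ∈ distTriang _ := t.triangleLEGE_distinguished (b - 1) b (by omega) E
    have hle1 : T.obj₁.IsLE (b - 1) := inferInstanceAs (t.IsLE ((t.truncLE (b - 1)).obj E) (b - 1))
    have hge1 : T.obj₁.IsGE a := inferInstanceAs (t.IsGE ((t.truncLE (b - 1)).obj E) a)
    have hge3 : T.obj₃.IsGE b := inferInstanceAs (t.IsGE ((t.truncGE b).obj E) b)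
    have hle3 : T.obj₃.IsLE b := inferInstanceAs (t.IsLE ((t.truncGE b).obj E) b)
    have h1 : DCoh.IsPerfect T.obj₁ := by
      refine ih T.obj₁ a (b - 1) hge1 hle1 (by push_cast at hab; omega) (fun i => ?_)
      by_cases hib : i < b
      · have hiso := isIso_homology_mor₁ T hT (i - 1) i (by omega)
          (DerivedCategory.isZero_of_isGE T.obj₃ b (i - 1) (by omega))
          (DerivedCategory.isZero_of_isGE T.obj₃ b i hib)
        exact CohThick.isCoh_of_iso (asIso ((DerivedCategory.homologyFunctor _ i).map T.mor₁)).symm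
          (hcoh i)
      · exact CohThick.isCoh_of_isZero
          (DerivedCategory.isZero_of_isLE T.obj₁ (b - 1) i (by omega))
    obtain ⟨Y, ⟨e⟩⟩ := DerivedCategory.exists_iso_singleFunctor_obj_of_isGE_of_isLE T.obj₃ b
    have hiso := isIso_homology_mor₂ T hT b (b + 1) rfl
      (DerivedCategory.isZero_of_isLE T.obj₁ (b - 1) b (by omega))
      (DerivedCategory.isZero_of_isLE T.obj₁ (b - 1) (b + 1) (by omega))
    have hY : Coh.IsCoh Y :=
      CohThick.isCoh_of_iso (asIso ((DerivedCategory.homologyFunctor _ b).map T.mor₂) ≪≫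
        (DerivedCategory.homologyFunctor _ b).mapIso e ≪≫
        (homologySingleIso' X.Modules b).app Y) (hcoh b)
    have h3 : DCoh.IsPerfect T.obj₃ :=
      isPerfect_of_iso e.symm (isPerfect_singleFunctor_of_isCoh hreg Y hY b)
    have h3' : DCoh.IsPerfect T.invRotate.obj₁ := isPerfect_shift T.obj₃ (-1) h3
    exact isPerfect_obj₃ T.invRotate (inv_rot_of_distTriang _ hT) h3' h1

/-- on a regular locally Noetherian scheme, bounded objects with coherent cohomology are perfect -/
theorem isPerfect_of_isCohD_of_bounded [IsLocallyNoetherian X]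
    (hreg : ∀ x : X, IsRegularLocalRing (X.presheaf.stalk x)) (E : DCoh.D X) (a b : ℤ)
    [E.IsGE a] [E.IsLE b] (hcoh : DCoh.IsCohD E) : DCoh.IsPerfect E :=
  isPerfect_of_isCohD_of_bounded_aux hreg (b - a + 1).toNat E a b inferInstance inferInstance
    (by omega) hcoh

/-- cohomology sheaves of a perfect object on a locally Noetherian scheme are coherent -/
theorem isCohD_of_isPerfect [IsLocallyNoetherian X] (E : DCoh.D X) (h : DCoh.IsPerfect E) :
    DCoh.IsCohD E := by
  intro i
  rw [isPerfect_iff] at h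
  apply isCoh_of_forall_restrict
  intro x
  obtain ⟨V, hxV, P, hP, ⟨e⟩⟩ := h x
  refine ⟨V, hxV, CohThick.isCoh_of_iso (((DerivedCategory.homologyFunctorFactors _ i).app P).symm ≪≫
    (DerivedCategory.homologyFunctor _ i).mapIso e.symm ≪≫ homologyRestrictIso V.ι E i) ?_⟩
  exact isCoh_homology P hP i

/-- a perfect object on a quasi-compact scheme is bounded -/
theorem exists_bounds_of_isPerfect [CompactSpace X] (E : DCoh.D X) (h : DCoh.IsPerfect E) :
    ∃ a b : ℤ, E.IsGE a ∧ E.IsLE b := by
  rw [isPerfect_iff] at h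
  choose V hxV hV using h
  have key : ∀ x : X, ∃ a b : ℤ, ∀ i : ℤ, (i < a ∨ b < i) →
      IsZero ((DCoh.HD E i).restrict (V x).ι) := by
    intro x
    obtain ⟨P, ⟨⟨a, b, hab⟩, hfl⟩, ⟨e⟩⟩ := hV x
    refine ⟨a, b, fun i hi => ?_⟩
    have hz : IsZero (P.homology i) :=
      ShortComplex.isZero_homology_of_isZero_X₂ _ (hab i hi)
    exact hz.of_iso ((homologyRestrictIso (V x).ι E i).symm ≪≫
      (DerivedCategory.homologyFunctor _ i).mapIso e ≪≫
      (DerivedCategory.homologyFunctorFactors _ i).app P)
  choose a b hab using key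
  obtain ⟨t, ht⟩ := isCompact_univ.elim_finite_subcover (fun x : X => ((V x : X.Opens) : Set X))
    (fun x => (V x).isOpen) (fun x _ => Set.mem_iUnion.mpr ⟨x, hxV x⟩)
  refine ⟨-((t.sup (fun x => (-a x).toNat) : ℕ) : ℤ), ((t.sup (fun x => (b x).toNat) : ℕ) : ℤ),
    ?_, ?_⟩
  · rw [DerivedCategory.isGE_iff]
    intro i hi
    apply isZero_of_forall_restrict
    intro y
    obtain ⟨x, hx⟩ := Set.mem_iUnion.mp (ht (Set.mem_univ y))
    obtain ⟨hxt, hyx⟩ := Set.mem_iUnion.mp hx
    refine ⟨V x, hyx, hab x i (Or.inl ?_)⟩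
    have h5 : (-a x).toNat ≤ t.sup (fun x => (-a x).toNat) :=
      Finset.le_sup (f := fun x => (-a x).toNat) hxt
    have h6 : -a x ≤ ((-a x).toNat : ℤ) := Int.self_le_toNat _
    omega
  · rw [DerivedCategory.isLE_iff]
    intro i hi
    apply isZero_of_forall_restrict
    intro y
    obtain ⟨x, hx⟩ := Set.mem_iUnion.mp (ht (Set.mem_univ y))
    obtain ⟨hxt, hyx⟩ := Set.mem_iUnion.mp hx
    refine ⟨V x, hyx, hab x i (Or.inr ?_)⟩
    have h5 : (b x).toNat ≤ t.sup (fun x => (b x).toNat) :=
      Finset.le_sup (f := fun x => (b x).toNat) hxt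
    have h6 : b x ≤ ((b x).toNat : ℤ) := Int.self_le_toNat _
    omega

end

end Groth.Agent.Lib.Helper30.PerfRegular
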