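import Mathlib
import Groth.Prelude.Def_CxOX
import Groth.Prelude.Def_CohB1
import Groth.Agent.Lib.Helper32.OpenKInj
import Groth.Agent.Lib.Helper32.ExactAdj
import Groth.Agent.Lib.Helper45.EpiStalk
import Groth.Agent.Lib.Helper45.ModulesBasic
import Groth.Agent.Lib.Helper30.PerfRestrict

/-!
# Extension by zero on derived categories of `O_X`-modules (helper30)

For an open `U ⊆ X` with inclusion `j`:
* `shD U = j_! : D(O_U) ⥤ D(O_X)`, the adjunction `adjD U : j_! ⊣ j^*`, whose unit is an isomorphism;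
* `isIso_unit_derived`: generally, an adjunction of exact functors whose unit is an isomorphism induces
  an adjunction of derived categories whose unit is an isomorphism;
* `isZero_restrict_extZero`, `support_extZero_subset`: if `T ⊆ U` is closed in `X` and `G` is an
  `O_U`-module supported on `T`, then `j_! G` is supported on `T`.
-/

set_option autoImplicit false
universe w₁ w₂ v₁ v₂ u₁ u₂ u
open CategoryTheory CategoryTheory.Limits AlgebraicGeometry TopologicalSpace Opposite

namespace Groth.Agent.Lib.Helper30.ShriekD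

section Generic

open Groth.Agent.Lib.Helper32.ExactAdj Groth.Agent.Lib.Helper6.DerivedAdj

variable {A : Type u₁} [Category.{v₁} A] [Abelian A] [HasDerivedCategory.{w₁} A]
  {B : Type u₂} [Category.{v₂} B] [Abelian B] [HasDerivedCategory.{w₂} B]
  {L : A ⥤ B} {R : B ⥤ A} (adj : L ⊣ R) [L.Additive] [R.Additive]
  [PreservesFiniteLimits L] [PreservesFiniteColimits L]
  [PreservesFiniteLimits R] [PreservesFiniteColimits R]

theorem isIso_unit_app_Q [IsIso adj.unit] (K : CochainComplex A ℤ) :
    IsIso ((mapDerivedCategoryAdj adj).unit.app (DerivedCategory.Q.obj K)) := by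
  have h1 : IsIso ((adjC adj (ComplexShape.up ℤ)).unit.app K) := by
    have : ∀ n, IsIso (((adjC adj (ComplexShape.up ℤ)).unit.app K).f n) := by
      intro n
      change IsIso (adj.unit.app (K.X n))
      infer_instance
    exact HomologicalComplex.Hom.isIso_of_components _
  unfold mapDerivedCategoryAdj
  rw [Adjunction.localization_unit_app]
  infer_instance

theorem isIso_unit_derived [IsIso adj.unit] : IsIso (mapDerivedCategoryAdj adj).unit := by
  have : ∀ P, IsIso ((mapDerivedCategoryAdj adj).unit.app P) := by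
    intro P
    have := isIso_unit_app_Q adj (DerivedCategory.Q.objPreimage P)
    exact (NatTrans.isIso_app_iff_of_iso _ (DerivedCategory.Q.objObjPreimageIso P)).1 this
  exact NatIso.isIso_of_isIso_app _

end Generic

attribute [local instance] HasDerivedCategory.standard

open Groth.Agent.Lib.Helper30.PerfRestrict Groth.Agent.Lib.Helper49 Scheme.Modules

variable {X : Scheme.{u}} (U : X.Opens)

instance preservesFiniteLimits_extZero : PreservesFiniteLimits (CxOX.extZero U.ι) :=
  Groth.Agent.Lib.Helper32.OpenKInj.preservesFiniteLimits_extZero U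

/-- the unit `G ⟶ (j_! G)|_U` is an isomorphism -/
instance isIso_extZeroAdj_unit : IsIso (CxOX.extZeroAdj U.ι).unit :=
  (Adjunction.Triple.mk (CxOX.extZeroAdj U.ι)
    (restrictAdjunction U.ι)).isIso_unit_iff_isIso_counit.mpr inferInstance

/-- `j_!` on derived categories -/
noncomputable abbrev shD : DCoh.D (U : Scheme.{u}) ⥤ DCoh.D X :=
  (CxOX.extZero U.ι).mapDerivedCategory

/-- `j_! ⊣ j^*` on derived categories -/
noncomputable def adjD : shD U ⊣ rD U.ι :=
  Groth.Agent.Lib.Helper32.ExactAdj.mapDerivedCategoryAdj (CxOX.extZeroAdj U.ι)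

instance isIso_adjD_unit : IsIso (adjD U).unit :=
  isIso_unit_derived (CxOX.extZeroAdj U.ι)

/-! ### Supports -/

lemma support_eq_of_iso {M N : X.Modules} (e : M ≅ N) : CohB1.support M = CohB1.support N := by
  ext x
  have e' : M.presheaf.stalk x ≅ N.presheaf.stalk x :=
    (TopCat.Presheaf.stalkFunctor Ab x).mapIso ((Scheme.Modules.toPresheaf X).mapIso e)
  change ¬ Subsingleton (M.presheaf.stalk x) ↔ ¬ Subsingleton (N.presheaf.stalk x)
  rw [not_iff_not]
  exact ⟨fun _ => e'.symm.addCommGroupIsoToAddEquiv.toEquiv.subsingleton,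
    fun _ => e'.addCommGroupIsoToAddEquiv.toEquiv.subsingleton⟩

lemma subsingleton_stalk_of_isZero_restrict {M : X.Modules} (W : X.Opens)
    (h : IsZero ((restrictFunctor W.ι).obj M)) (x : X) (hx : x ∈ W) :
    Subsingleton ↑(M.presheaf.stalk x) := by
  have h1 := (Helper45.isZero_iff_stalk_subsingleton _).mp h ⟨x, hx⟩
  exact (restrictStalkIso_hom_bijective W.ι M ⟨x, hx⟩).2.subsingleton

variable {U} in
/-- `(j_! G)|_W = 0` if `G` vanishes on `U ∩ W` -/
theorem isZero_restrict_extZero (G : (U : Scheme.{u}).Modules) (W : X.Opens)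
    (hG : ∀ v : (U : Scheme.{u}), U.ι v ∈ W → Subsingleton ↑(G.presheaf.stalk v)) :
    IsZero ((restrictFunctor W.ι).obj ((CxOX.extZero U.ι).obj G)) := by
  have hz : IsZero ((restrictFunctor (W.ι ∣_ U)).obj G) := by
    rw [Helper45.isZero_iff_stalk_subsingleton]
    intro z
    have h1 : U.ι ((W.ι ∣_ U) z) ∈ W := by
      have h2 : U.ι ((W.ι ∣_ U) z) = W.ι ((W.ι ⁻¹ᵁ U).ι z) := by
        rw [← Scheme.Hom.comp_apply, ← Scheme.Hom.comp_apply, morphismRestrict_ι]
      rw [h2]
      exact ((W.ι ⁻¹ᵁ U).ι z).2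
    exact subsingleton_stalk_restrict (W.ι ∣_ U) G z (hG _ h1)
  rw [IsZero.iff_id_eq_zero]
  let Z := (restrictFunctor W.ι).obj ((CxOX.extZero U.ι).obj G)
  let e1 := (restrictAdjunction W.ι).homEquiv ((CxOX.extZero U.ι).obj G) Z
  let e2 := (CxOX.extZeroAdj U.ι).homEquiv G ((pushforward W.ι).obj Z)
  let e3 : (G ⟶ (restrictFunctor U.ι).obj ((pushforward W.ι).obj Z)) ≃
      (G ⟶ (pushforward (W.ι ∣_ U)).obj ((restrictFunctor (W.ι ⁻¹ᵁ U).ι).obj Z)) :=
    ((Groth.Agent.Lib.Helper32.OpenKInj.pushforwardRestrictIso W.ι U).app Z).homToEquiv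
  let e4 := ((restrictAdjunction (W.ι ∣_ U)).homEquiv G
    ((restrictFunctor (W.ι ⁻¹ᵁ U).ι).obj Z)).symm
  have hsub : Subsingleton ((restrictFunctor (W.ι ∣_ U)).obj G ⟶
      (restrictFunctor (W.ι ⁻¹ᵁ U).ι).obj Z) := ⟨fun a b => hz.eq_of_src a b⟩
  exact (e1.trans (e2.trans (e3.trans e4))).injective (Subsingleton.elim _ _)

variable {U} in
/-- if `T ⊆ U` is closed in `X` and `G` is supported on `T`, then `j_! G` is supported on `T` -/
theorem support_extZero_subset (T : Set X) (hT : IsClosed T) (G : (U : Scheme.{u}).Modules)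
    (hG : CohB1.support G ⊆ {v : (U : Scheme.{u}) | U.ι v ∈ T}) :
    CohB1.support ((CxOX.extZero U.ι).obj G) ⊆ T := by
  intro x hx
  by_contra hxT
  let W : X.Opens := ⟨Tᶜ, hT.isOpen_compl⟩
  have hz := isZero_restrict_extZero G W (fun v hv => by
    by_contra hns
    exact hv (hG hns))
  exact hx (subsingleton_stalk_of_isZero_restrict W hz x hxT)

end Groth.Agent.Lib.Helper30.ShriekD
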