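import Mathlib

/-!
# Right derived functors and composition with exact functors (natural versions)

* `rightDerivedCompExact G E n : (G ⋙ E).rightDerived n ≅ G.rightDerived n ⋙ E` for `E` exact.
* `exactCompRightDerived E G n : (E ⋙ G).rightDerived n ≅ E ⋙ G.rightDerived n` for `E` exact and
  preserving injective objects.
* `rightDerivedMapIso e n : F.rightDerived n ≅ F'.rightDerived n` for `e : F ≅ F'`.
-/

set_option autoImplicit false
universe v u v' u' v'' u''

namespace Groth.Agent.Lib.Helper30.RDerNat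

open CategoryTheory Limits

noncomputable section

section Post

variable {A : Type u} [Category.{v} A] [Abelian A] [HasInjectiveResolutions A]
  {B : Type u'} [Category.{v'} B] [Abelian B]
  {B' : Type u''} [Category.{v''} B'] [Abelian B']
  (G : A ⥤ B) [G.Additive] (E : B ⥤ B') [E.Additive] [E.PreservesHomology]

omit [Abelian B'] in
lemma square_aux {P P' Q Q' S S' W W' : B'} {r : P ⟶ P'} {aY : P' ⟶ Q'} {aX : P ⟶ Q} {m : Q ⟶ Q'}
    {bX : Q ⟶ S} {bY : Q' ⟶ S'} {e : S ⟶ S'} {cX : S ⟶ W} {cY : S' ⟶ W'} {w : W ⟶ W'}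
    (h1 : r ≫ aY = aX ≫ m) (h3 : m ≫ bY = bX ≫ e) (h2 : cX ≫ w = e ≫ cY) :
    r ≫ (aY ≫ bY ≫ cY) = (aX ≫ bX ≫ cX) ≫ w := by
  rw [← Category.assoc, h1, Category.assoc, ← Category.assoc m, h3]
  simp only [Category.assoc, h2]

/-- `Rⁿ(G ⋙ E)(X) ≅ E(RⁿG(X))`, computed with a given injective resolution. -/
def postIsoOfRes {X : A} (I : InjectiveResolution X) (n : ℕ) :
    ((G ⋙ E).rightDerived n).obj X ≅ E.obj ((G.rightDerived n).obj X) :=
  (I.isoRightDerivedObj (G ⋙ E) n) ≪≫
    ((((G.mapHomologicalComplex (ComplexShape.up ℕ)).obj I.cocomplex).sc n).mapHomologyIso E) ≪≫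
    E.mapIso (I.isoRightDerivedObj G n).symm

lemma postIsoOfRes_naturality {X Y : A} (f : X ⟶ Y) (I : InjectiveResolution X)
    (J : InjectiveResolution Y) (n : ℕ) :
    ((G ⋙ E).rightDerived n).map f ≫ (postIsoOfRes G E J n).hom =
      (postIsoOfRes G E I n).hom ≫ E.map ((G.rightDerived n).map f) := by
  let φ := InjectiveResolution.desc f J I
  have comm : I.ι.f 0 ≫ φ.f 0 = f ≫ J.ι.f 0 := InjectiveResolution.desc_commutes_zero f J I
  have h1 := InjectiveResolution.isoRightDerivedObj_hom_naturality f I J φ comm (G ⋙ E) n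
  have h2 := InjectiveResolution.isoRightDerivedObj_inv_naturality f I J φ comm G n
  have h3 := ShortComplex.mapHomologyIso_hom_naturality
    ((HomologicalComplex.shortComplexFunctor B (ComplexShape.up ℕ) n).map
      ((G.mapHomologicalComplex (ComplexShape.up ℕ)).map φ)) E
  have h2' : E.map (I.isoRightDerivedObj G n).inv ≫ E.map ((G.rightDerived n).map f) =
      E.map ((HomologicalComplex.homologyFunctor B (ComplexShape.up ℕ) n).map
        ((G.mapHomologicalComplex (ComplexShape.up ℕ)).map φ)) ≫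
      E.map (J.isoRightDerivedObj G n).inv := by
    rw [← E.map_comp, ← E.map_comp]
    exact congrArg E.map h2
  exact square_aux h1 h3 h2'

/-- `Rⁿ(G ⋙ E) ≅ RⁿG ⋙ E` for an exact functor `E`. -/
def rightDerivedCompExact (n : ℕ) : (G ⋙ E).rightDerived n ≅ G.rightDerived n ⋙ E :=
  NatIso.ofComponents (fun X => postIsoOfRes G E (injectiveResolution X) n)
    (fun f => postIsoOfRes_naturality G E f _ _ n)

end Post

section Pre

variable {A : Type u} [Category.{v} A] [Abelian A] [HasInjectiveResolutions A]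
  {A' : Type u'} [Category.{v'} A'] [Abelian A'] [HasInjectiveResolutions A']
  {B' : Type u''} [Category.{v''} B'] [Abelian B']
  (E : A ⥤ A') [E.Additive] [E.PreservesHomology] [E.PreservesInjectiveObjects]
  (G : A' ⥤ B') [G.Additive]

/-- the image of an injective resolution under an exact functor preserving injectives. -/
def mapRes {X : A} (I : InjectiveResolution X) : InjectiveResolution (E.obj X) where
  cocomplex := (E.mapHomologicalComplex (ComplexShape.up ℕ)).obj I.cocomplex
  injective n := E.injective_obj_of_injective (I.injective n)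
  ι := (HomologicalComplex.singleMapHomologicalComplex E (ComplexShape.up ℕ) 0).inv.app X ≫
    (E.mapHomologicalComplex (ComplexShape.up ℕ)).map I.ι
  quasiIso := by
    have : QuasiIso ((E.mapHomologicalComplex (ComplexShape.up ℕ)).map I.ι) := inferInstance
    infer_instance

omit [HasInjectiveResolutions A] [HasInjectiveResolutions A'] in
lemma mapRes_ι_f_zero {X : A} (I : InjectiveResolution X) :
    (mapRes E I).ι.f 0 = E.map (I.ι.f 0) := by
  simp [mapRes, HomologicalComplex.singleObjXSelf, HomologicalComplex.singleObjXIsoOfEq]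
  exact Category.id_comp _

/-- `Rⁿ(E ⋙ G)(X) ≅ RⁿG(E X)`, computed with a given injective resolution. -/
def preIsoOfRes {X : A} (I : InjectiveResolution X) (n : ℕ) :
    ((E ⋙ G).rightDerived n).obj X ≅ (G.rightDerived n).obj (E.obj X) :=
  (I.isoRightDerivedObj (E ⋙ G) n) ≪≫ ((mapRes E I).isoRightDerivedObj G n).symm

omit [Abelian B'] [HasInjectiveResolutions A] [HasInjectiveResolutions A'] [Abelian A]
  [Abelian A'] in
lemma square_aux' {P P' Q Q' W W' : B'} {r : P ⟶ P'} {aY : P' ⟶ Q'} {aX : P ⟶ Q} {m : Q ⟶ Q'}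
    {cX : Q ⟶ W} {cY : Q' ⟶ W'} {w : W ⟶ W'}
    (h1 : r ≫ aY = aX ≫ m) (h2 : cX ≫ w = m ≫ cY) :
    r ≫ (aY ≫ cY) = (aX ≫ cX) ≫ w := by
  rw [← Category.assoc, h1, Category.assoc, Category.assoc, h2]

lemma preIsoOfRes_naturality {X Y : A} (f : X ⟶ Y) (I : InjectiveResolution X)
    (J : InjectiveResolution Y) (n : ℕ) :
    ((E ⋙ G).rightDerived n).map f ≫ (preIsoOfRes E G J n).hom =
      (preIsoOfRes E G I n).hom ≫ (G.rightDerived n).map (E.map f) := by
  let φ := InjectiveResolution.desc f J I
  have comm : I.ι.f 0 ≫ φ.f 0 = f ≫ J.ι.f 0 := InjectiveResolution.desc_commutes_zero f J I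
  have comm' : (mapRes E I).ι.f 0 ≫ ((E.mapHomologicalComplex (ComplexShape.up ℕ)).map φ).f 0 =
      E.map f ≫ (mapRes E J).ι.f 0 := by
    rw [mapRes_ι_f_zero, mapRes_ι_f_zero]
    show E.map (I.ι.f 0) ≫ E.map (φ.f 0) = _
    rw [← E.map_comp, comm]
    exact E.map_comp _ _
  have h1 := InjectiveResolution.isoRightDerivedObj_hom_naturality f I J φ comm (E ⋙ G) n
  have h2 := InjectiveResolution.isoRightDerivedObj_inv_naturality (E.map f) (mapRes E I)
    (mapRes E J) ((E.mapHomologicalComplex (ComplexShape.up ℕ)).map φ) comm' G n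
  exact square_aux' h1 h2

/-- `Rⁿ(E ⋙ G) ≅ E ⋙ RⁿG` for an exact functor `E` preserving injective objects. -/
def exactCompRightDerived (n : ℕ) : (E ⋙ G).rightDerived n ≅ E ⋙ G.rightDerived n :=
  NatIso.ofComponents (fun X => preIsoOfRes E G (injectiveResolution X) n)
    (fun f => preIsoOfRes_naturality E G f _ _ n)

end Pre

section MapIso

variable {A : Type u} [Category.{v} A] [Abelian A] [HasInjectiveResolutions A]
  {B : Type u'} [Category.{v'} B] [Abelian B]
  {F F' : A ⥤ B} [F.Additive] [F'.Additive]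

/-- isomorphic functors have isomorphic right derived functors. -/
def rightDerivedMapIso (e : F ≅ F') (n : ℕ) : F.rightDerived n ≅ F'.rightDerived n where
  hom := NatTrans.rightDerived e.hom n
  inv := NatTrans.rightDerived e.inv n
  hom_inv_id := by
    rw [← NatTrans.rightDerived_comp, e.hom_inv_id, NatTrans.rightDerived_id]
  inv_hom_id := by
    rw [← NatTrans.rightDerived_comp, e.inv_hom_id, NatTrans.rightDerived_id]

end MapIso

end

end Groth.Agent.Lib.Helper30.RDerNat
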