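import Mathlib
import Groth.Agent.Lib.Helper30.FlatRestrict

/-!
# Flatness at a point and restriction to an open subscheme (helper30)

Pointwise form, in both directions, of `FlatRestrict.isFlat_restrict`.
-/

set_option autoImplicit false
universe u
open CategoryTheory Limits Opposite TopologicalSpace AlgebraicGeometry

namespace Groth.Agent.Lib.Helper30.FlatRestrict
open Groth.Agent.Lib.Helper49

noncomputable section

variable {X U : Scheme.{u}}

theorem isFlatAt_restrict_iff (j : U ⟶ X) [IsOpenImmersion j] (M : X.Modules) (y : U) :
    FlatMod.IsFlatAt ((Scheme.Modules.restrictFunctor j).obj M) y ↔ FlatMod.IsFlatAt M (j y) := by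
  let N := (Scheme.Modules.restrictFunctor j).obj M
  let _ : Algebra (X.presheaf.stalk (j y)) (U.presheaf.stalk y) := (j.stalkMap y).hom.toAlgebra
  let _ : Module (X.presheaf.stalk (j y)) ↑(N.presheaf.stalk y) :=
    Module.compHom _ (j.stalkMap y).hom
  have : IsScalarTower (X.presheaf.stalk (j y)) (U.presheaf.stalk y) ↑(N.presheaf.stalk y) :=
    IsScalarTower.of_compHom _ _ _
  have hbij : Function.Bijective (algebraMap (X.presheaf.stalk (j y)) (U.presheaf.stalk y)) :=
    (ConcreteCategory.isIso_iff_bijective (j.stalkMap y)).mp inferInstance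
  let l : ↑(N.presheaf.stalk y) ≃ₗ[X.presheaf.stalk (j y)] ↑(M.presheaf.stalk (j y)) :=
    LinearEquiv.ofBijective
      { toFun := (restrictStalkIso j M y).hom.hom
        map_add' := map_add _
        map_smul' := fun r a => restrictStalk_semilinear j M y r a }
      (restrictStalkIso_hom_bijective j M y)
  have key : Module.Flat (U.presheaf.stalk y) ↑(N.presheaf.stalk y) ↔
      Module.Flat (X.presheaf.stalk (j y)) ↑(N.presheaf.stalk y) :=
    Groth.Agent.Lib.Helper12.FlatOver.flat_iff_of_bijective hbij _
  constructor
  · intro h
    have h1 : Module.Flat (X.presheaf.stalk (j y)) ↑(N.presheaf.stalk y) := key.mp h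
    exact Module.Flat.of_linearEquiv l.symm
  · intro h
    have hM : Module.Flat (X.presheaf.stalk (j y)) ↑(M.presheaf.stalk (j y)) := h
    have h1 : Module.Flat (X.presheaf.stalk (j y)) ↑(N.presheaf.stalk y) :=
      Module.Flat.of_linearEquiv l
    exact key.mpr h1

/-- stalks of a restriction are zero iff the stalks of the module are -/
theorem subsingleton_stalk_restrict_iff (j : U ⟶ X) [IsOpenImmersion j] (M : X.Modules) (y : U) :
    Subsingleton (((Scheme.Modules.restrictFunctor j).obj M).presheaf.stalk y) ↔
      Subsingleton (M.presheaf.stalk (j y)) :=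
  (Equiv.ofBijective _ (restrictStalkIso_hom_bijective j M y)).subsingleton_congr

end

end Groth.Agent.Lib.Helper30.FlatRestrict
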