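import Mathlib
import Groth.Agent.Lib.Helper30.FlatRestrict2

/-!
# Flatness over a base at a point and restriction to an open subscheme (helper30)
-/

set_option autoImplicit false
universe u
open CategoryTheory Limits Opposite TopologicalSpace AlgebraicGeometry

namespace Groth.Agent.Lib.Helper30.FlatRestrict
open Groth.Agent.Lib.Helper49

noncomputable section

variable {X U S : Scheme.{u}}

theorem isFlatOverAt_restrict_iff (j : U ⟶ X) [IsOpenImmersion j] (f : X ⟶ S) (M : X.Modules)
    (y : U) :
    FlatMod.IsFlatOverAt (j ≫ f) ((Scheme.Modules.restrictFunctor j).obj M) y ↔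
      FlatMod.IsFlatOverAt f M (j y) := by
  let N := (Scheme.Modules.restrictFunctor j).obj M
  let i1 : Module (S.presheaf.stalk (f (j y))) ↑(N.presheaf.stalk y) :=
    FlatMod.moduleStalkOver (j ≫ f) N y
  let i2 : Module (S.presheaf.stalk (f (j y))) ↑(M.presheaf.stalk (j y)) :=
    FlatMod.moduleStalkOver f M (j y)
  let l : ↑(N.presheaf.stalk y) ≃ₗ[S.presheaf.stalk (f (j y))] ↑(M.presheaf.stalk (j y)) :=
    LinearEquiv.ofBijective
      { toFun := (restrictStalkIso j M y).hom.hom
        map_add' := map_add _
        map_smul' := fun t a => by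
          change (restrictStalkIso j M y).hom.hom (((j ≫ f).stalkMap y).hom t • a) =
            (f.stalkMap (j y)).hom t • (restrictStalkIso j M y).hom.hom a
          rw [Scheme.Hom.stalkMap_comp]
          exact restrictStalk_semilinear j M y _ a }
      (restrictStalkIso_hom_bijective j M y)
  constructor
  · intro h
    have h1 : @Module.Flat (S.presheaf.stalk (f (j y))) ↑(N.presheaf.stalk y) _ _ i1 := h
    change @Module.Flat (S.presheaf.stalk (f (j y))) ↑(M.presheaf.stalk (j y)) _ _ i2
    exact Module.Flat.of_linearEquiv (R := S.presheaf.stalk (f (j y))) (M := ↑(N.presheaf.stalk y))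
      (N := ↑(M.presheaf.stalk (j y))) l.symm
  · intro h
    have h1 : @Module.Flat (S.presheaf.stalk (f (j y))) ↑(M.presheaf.stalk (j y)) _ _ i2 := h
    change @Module.Flat (S.presheaf.stalk (f (j y))) ↑(N.presheaf.stalk y) _ _ i1
    exact Module.Flat.of_linearEquiv (R := S.presheaf.stalk (f (j y))) (M := ↑(M.presheaf.stalk (j y)))
      (N := ↑(N.presheaf.stalk y)) l

end

end Groth.Agent.Lib.Helper30.FlatRestrict
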