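import Mathlib
import Groth.Prelude.Def_DCoh3
import Groth.Agent.Lib.Helper30.PerfRestrict
import Groth.Agent.Lib.Helper30.FlatOverRestrict
import Groth.Agent.Lib.Helper12.FlatOverSections

/-!
# Restriction calculus for "locally of finite tor dimension relative to the base" (helper30)

* `isFlatOverAt_comp_openImmersion`: flatness over the base at a point is insensitive to replacing the
  base by an open subscheme through which the morphism factors.
* `RelObj g a b L` (`= DCoh.HasRelFlatAmplitudeIn g a b L`) and its stability under isomorphisms,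
  restriction along open immersions of the source, and shrinking of the base.
* `locHasFiniteRelTorDim_iff`, `locHasFiniteRelTorDim_of_openImmersions`.
-/

set_option autoImplicit false
universe u
open CategoryTheory Limits Opposite TopologicalSpace AlgebraicGeometry
attribute [local instance] HasDerivedCategory.standard

namespace Groth.Agent.Lib.Helper30.RelTorRestrict
open Groth.Agent.Lib.Helper30.PerfRestrict Groth.Agent.Lib.Helper30.FlatRestrict

variable {X U U' S S' : Scheme.{u}}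

theorem isFlatOverAt_comp_openImmersion (g : U ⟶ S') (l : S' ⟶ S) [IsOpenImmersion l]
    (M : U.Modules) (y : U) :
    FlatMod.IsFlatOverAt (g ≫ l) M y ↔ FlatMod.IsFlatOverAt g M y := by
  let i1 : Module (S.presheaf.stalk (l (g y))) ↑(M.presheaf.stalk y) :=
    FlatMod.moduleStalkOver (g ≫ l) M y
  let i2 : Module (S'.presheaf.stalk (g y)) ↑(M.presheaf.stalk y) :=
    FlatMod.moduleStalkOver g M y
  let i3 : Algebra (S.presheaf.stalk (l (g y))) (S'.presheaf.stalk (g y)) :=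
    (l.stalkMap (g y)).hom.toAlgebra
  have i4 : IsScalarTower (S.presheaf.stalk (l (g y))) (S'.presheaf.stalk (g y))
      ↑(M.presheaf.stalk y) := by
    refine IsScalarTower.of_algebraMap_smul (fun r n => ?_)
    change (g.stalkMap y).hom ((l.stalkMap (g y)).hom r) • n = ((g ≫ l).stalkMap y).hom r • n
    rw [Scheme.Hom.stalkMap_comp]
    rfl
  have hb : Function.Bijective (algebraMap (S.presheaf.stalk (l (g y))) (S'.presheaf.stalk (g y))) :=
    ConcreteCategory.bijective_of_isIso (l.stalkMap (g y))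
  exact (Groth.Agent.Lib.Helper12.FlatOver.flat_iff_of_bijective hb ↑(M.presheaf.stalk y)).symm

/-- `L` is represented by a complex of modules flat over the base, placed in `[a, b]` -/
abbrev RelObj (g : U ⟶ S) (a b : ℤ) (L : DCoh.D U) : Prop := DCoh.HasRelFlatAmplitudeIn g a b L

lemma RelObj.of_iso {g : U ⟶ S} {a b : ℤ} {L L' : DCoh.D U} (e : L ≅ L') (h : RelObj g a b L) :
    RelObj g a b L' := by
  obtain ⟨E, hv, hfl, ⟨f⟩⟩ := h
  exact ⟨E, hv, hfl, ⟨f ≪≫ e⟩⟩

lemma RelObj.congr {g g' : U ⟶ S} (hg : g = g') {a b : ℤ} {L : DCoh.D U} (h : RelObj g a b L) :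
    RelObj g' a b L := hg ▸ h

lemma RelObj.restrict (k : U' ⟶ U) [IsOpenImmersion k] {g : U ⟶ S} {a b : ℤ} {L : DCoh.D U}
    (h : RelObj g a b L) : RelObj (k ≫ g) a b ((rD k).obj L) := by
  obtain ⟨E, hv, hfl, ⟨f⟩⟩ := h
  refine ⟨(rC k).obj E, fun i hi => ?_, fun i y => ?_, ⟨((rDQ k).app E).symm ≪≫ (rD k).mapIso f⟩⟩
  · exact (Scheme.Modules.restrictFunctor k).map_isZero (hv i hi)
  · exact (isFlatOverAt_restrict_iff k g (E.X i) y).mpr (hfl i (k y))

lemma RelObj.base_iff (g : U ⟶ S') (l : S' ⟶ S) [IsOpenImmersion l] {a b : ℤ} {L : DCoh.D U} :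
    RelObj (g ≫ l) a b L ↔ RelObj g a b L := by
  constructor
  · rintro ⟨E, hv, hfl, ⟨f⟩⟩
    exact ⟨E, hv, fun i y => (isFlatOverAt_comp_openImmersion g l (E.X i) y).mp (hfl i y), ⟨f⟩⟩
  · rintro ⟨E, hv, hfl, ⟨f⟩⟩
    exact ⟨E, hv, fun i y => (isFlatOverAt_comp_openImmersion g l (E.X i) y).mpr (hfl i y), ⟨f⟩⟩

lemma RelObj.of_fac (k : U' ⟶ U) (j : U ⟶ X) (j' : U' ⟶ X) [IsOpenImmersion k]
    [IsOpenImmersion j] [IsOpenImmersion j'] (h : k ≫ j = j') (f : X ⟶ S) {a b : ℤ}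
    {K : DCoh.D X} (hK : RelObj (j ≫ f) a b ((rD j).obj K)) :
    RelObj (j' ≫ f) a b ((rD j').obj K) := by
  have h1 := (hK.restrict k).of_iso (rDFac k j j' h K).symm
  exact h1.congr (by rw [← Category.assoc, h])

lemma RelObj.of_le {V' V : X.Opens} (h : V' ≤ V) (f : X ⟶ S) {a b : ℤ} {K : DCoh.D X}
    (hK : RelObj (V.ι ≫ f) a b ((rD V.ι).obj K)) : RelObj (V'.ι ≫ f) a b ((rD V'.ι).obj K) :=
  hK.of_fac (X.homOfLE h) V.ι V'.ι (X.homOfLE_ι h) f

lemma RelObj.opensRange (j : U ⟶ X) [IsOpenImmersion j] (f : X ⟶ S) {a b : ℤ} {K : DCoh.D X}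
    (hK : RelObj (j ≫ f) a b ((rD j).obj K)) :
    RelObj (j.opensRange.ι ≫ f) a b ((rD j.opensRange.ι).obj K) :=
  hK.of_fac j.isoOpensRange.inv j j.opensRange.ι (by simp) f

theorem locHasFiniteRelTorDim_iff (f : X ⟶ S) (K : DCoh.D X) :
    DCoh.LocHasFiniteRelTorDim f K ↔
      ∀ x : X, ∃ (V : X.Opens) (a b : ℤ), x ∈ V ∧ RelObj (V.ι ≫ f) a b ((rD V.ι).obj K) := by
  constructor
  · intro h x
    obtain ⟨V, a, b, hxV, hV⟩ := h x
    refine ⟨V, a, b, hxV, ?_⟩
    let F := DerivedCategory.Q.objPreimage K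
    let e : DerivedCategory.Q.obj F ≅ K := DerivedCategory.Q.objObjPreimageIso K
    exact RelObj.of_iso (((rDQ V.ι).app F).symm ≪≫ (rD V.ι).mapIso e) (hV F ⟨e⟩)
  · intro h x
    obtain ⟨V, a, b, hxV, hV⟩ := h x
    refine ⟨V, a, b, hxV, fun F ⟨e⟩ => ?_⟩
    exact RelObj.of_iso ((rD V.ι).mapIso e.symm ≪≫ (rDQ V.ι).app F) hV

/-- finiteness of the relative tor dimension can be checked on arbitrary open immersions -/
theorem locHasFiniteRelTorDim_of_openImmersions (f : X ⟶ S) (K : DCoh.D X)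
    (h : ∀ x : X, ∃ (U : Scheme.{u}) (j : U ⟶ X) (_ : IsOpenImmersion j) (a b : ℤ),
      x ∈ Set.range j ∧ RelObj (j ≫ f) a b ((rD j).obj K)) : DCoh.LocHasFiniteRelTorDim f K := by
  rw [locHasFiniteRelTorDim_iff]
  intro x
  obtain ⟨U, j, hj, a, b, hx, hK⟩ := h x
  exact ⟨j.opensRange, a, b, hx, hK.opensRange j f⟩

/-- restriction of an object locally of finite relative tor dimension to an open subscheme -/
theorem locHasFiniteRelTorDim_restrict (j : U ⟶ X) [IsOpenImmersion j] (f : X ⟶ S) (K : DCoh.D X)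
    (h : DCoh.LocHasFiniteRelTorDim f K) : DCoh.LocHasFiniteRelTorDim (j ≫ f) ((rD j).obj K) := by
  rw [locHasFiniteRelTorDim_iff] at h
  apply locHasFiniteRelTorDim_of_openImmersions
  intro y
  obtain ⟨V, a, b, hxV, hV⟩ := h (j y)
  let W : U.Opens := j ⁻¹ᵁ V
  have hyW : y ∈ W := hxV
  have hrange : Set.range (W.ι ≫ j) ⊆ Set.range V.ι := by
    rintro _ ⟨z, rfl⟩
    rw [Scheme.Opens.range_ι]
    exact z.2
  let g : (W : Scheme.{u}) ⟶ (V : Scheme.{u}) := IsOpenImmersion.lift V.ι (W.ι ≫ j) hrange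
  have hg : g ≫ V.ι = W.ι ≫ j := IsOpenImmersion.lift_fac _ _ _
  have : IsOpenImmersion g := IsOpenImmersion.of_comp g V.ι
  refine ⟨W, W.ι, inferInstance, a, b, ?_, ?_⟩
  · rw [Scheme.Opens.range_ι]
    exact hyW
  · have h1 : RelObj ((W.ι ≫ j) ≫ f) a b ((rD (W.ι ≫ j)).obj K) :=
      hV.of_fac g V.ι (W.ι ≫ j) hg f
    have h2 := h1.of_iso ((rDComp W.ι j).app K)
    exact h2.congr (Category.assoc _ _ _)

theorem locHasFiniteRelTorDim_of_iso (f : X ⟶ S) {K K' : DCoh.D X} (e : K ≅ K')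
    (h : DCoh.LocHasFiniteRelTorDim f K) : DCoh.LocHasFiniteRelTorDim f K' := by
  rw [locHasFiniteRelTorDim_iff] at h ⊢
  intro x
  obtain ⟨V, a, b, hxV, hV⟩ := h x
  exact ⟨V, a, b, hxV, hV.of_iso ((rD V.ι).mapIso e)⟩

theorem locHasFiniteRelTorDim_congr {f f' : X ⟶ S} (hf : f = f') {K : DCoh.D X}
    (h : DCoh.LocHasFiniteRelTorDim f K) : DCoh.LocHasFiniteRelTorDim f' K := hf ▸ h

/-- the base may be replaced by an open subscheme through which the morphism factors -/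
theorem locHasFiniteRelTorDim_base_iff (g : X ⟶ S') (l : S' ⟶ S) [IsOpenImmersion l] (K : DCoh.D X) :
    DCoh.LocHasFiniteRelTorDim (g ≫ l) K ↔ DCoh.LocHasFiniteRelTorDim g K := by
  rw [locHasFiniteRelTorDim_iff, locHasFiniteRelTorDim_iff]
  constructor
  · intro h x
    obtain ⟨V, a, b, hxV, hV⟩ := h x
    refine ⟨V, a, b, hxV, ?_⟩
    exact (RelObj.base_iff (V.ι ≫ g) l).mp (hV.congr (Category.assoc _ _ _).symm)
  · intro h x
    obtain ⟨V, a, b, hxV, hV⟩ := h x
    refine ⟨V, a, b, hxV, ?_⟩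
    exact ((RelObj.base_iff (V.ι ≫ g) l).mpr hV).congr (Category.assoc _ _ _)

/-- finiteness of the relative tor dimension is local for open immersions -/
theorem locHasFiniteRelTorDim_of_cover (f : X ⟶ S) (K : DCoh.D X)
    (h : ∀ x : X, ∃ (U : Scheme.{u}) (j : U ⟶ X) (_ : IsOpenImmersion j),
      x ∈ Set.range j ∧ DCoh.LocHasFiniteRelTorDim (j ≫ f) ((rD j).obj K)) :
    DCoh.LocHasFiniteRelTorDim f K := by
  apply locHasFiniteRelTorDim_of_openImmersions
  intro x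
  obtain ⟨U, j, hj, ⟨y, rfl⟩, hK⟩ := h x
  rw [locHasFiniteRelTorDim_iff] at hK
  obtain ⟨W, a, b, hyW, hW⟩ := hK y
  refine ⟨W, W.ι ≫ j, inferInstance, a, b, ⟨⟨y, hyW⟩, rfl⟩, ?_⟩
  exact (hW.of_iso ((rDComp W.ι j).app K).symm).congr (Category.assoc _ _ _).symm

/-- pseudo-coherence is local for open immersions -/
theorem isPseudoCoherentD_of_cover (m : ℤ) (K : DCoh.D X)
    (h : ∀ x : X, ∃ (U : Scheme.{u}) (j : U ⟶ X) (_ : IsOpenImmersion j),
      x ∈ Set.range j ∧ DCoh.IsPseudoCoherentD m ((rD j).obj K)) :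
    DCoh.IsPseudoCoherentD m K := by
  apply isPseudoCoherentD_of_openImmersions
  intro x
  obtain ⟨U, j, hj, ⟨y, rfl⟩, hK⟩ := h x
  rw [isPseudoCoherentD_iff] at hK
  obtain ⟨W, hyW, hW⟩ := hK y
  exact ⟨W, W.ι ≫ j, inferInstance, ⟨⟨y, hyW⟩, rfl⟩, hW.of_iso ((rDComp W.ι j).app K).symm⟩

theorem isPseudoCoherentD_of_iso (m : ℤ) {K K' : DCoh.D X} (e : K ≅ K')
    (h : DCoh.IsPseudoCoherentD m K) : DCoh.IsPseudoCoherentD m K' := by
  rw [isPseudoCoherentD_iff] at h ⊢
  intro x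
  obtain ⟨V, hxV, hV⟩ := h x
  exact ⟨V, hxV, hV.of_iso ((rD V.ι).mapIso e)⟩

/-- restriction along an open immersion preserves quasi-coherence of the cohomology sheaves -/
theorem isQCohD_restrict (j : U ⟶ X) [IsOpenImmersion j] (K : DCoh.D X) (h : DCoh.IsQCohD K) :
    DCoh.IsQCohD ((rD j).obj K) := by
  intro i
  have : (DCoh.HD K i).IsQuasicoherent := h i
  have h1 : ((Scheme.Modules.restrictFunctor j).obj (DCoh.HD K i)).IsQuasicoherent := inferInstance
  exact (SheafOfModules.isQuasicoherent U.ringCatSheaf).prop_of_iso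
    ((Groth.Agent.Lib.Helper6.ExactDC.homologyIso (Scheme.Modules.restrictFunctor j) i).app K).symm h1

end Groth.Agent.Lib.Helper30.RelTorRestrict
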