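import Mathlib
import Groth.Agent.Lib.Helper30.PCNoeth

/-!
# The top cohomology sheaf of an `m`-pseudo-coherent object is of finite type (helper30)
-/

set_option autoImplicit false
universe u
open CategoryTheory Limits Opposite TopologicalSpace AlgebraicGeometry Pretriangulated
attribute [local instance] HasDerivedCategory.standard

namespace Groth.Agent.Lib.Helper30.PCTop
open Groth.Agent.Lib.Helper30.PerfRestrict Groth.Agent.Lib.Helper30.PCTriangle
open Groth.Agent.Lib.Helper30.PCSummand Groth.Agent.Lib.Helper30.SinglePC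
open Groth.Agent.Lib.Helper30.PerfNoeth Groth.Agent.Lib.Helper30.PCNoeth
open Groth.Agent.Lib.Helper30.StrictPerfHomology
open Groth.Agent.Lib.Helper49 Groth.Agent.Lib.Helper6 Groth.Agent.Lib.Helper16

noncomputable section

variable {X : Scheme.{u}}

/-- if `E` is `m`-pseudo-coherent and `E ≤ b` with `m ≤ b`, then `H^b(E)` is of finite type -/
theorem isFT_homology_top (E : DCoh.D X) (m b : ℤ) (hmb : m ≤ b) [E.IsLE b]
    (h : DCoh.IsPseudoCoherentD m E) : CohB1.IsFT (DCoh.HD E b) := by
  rw [isPseudoCoherentD_iff] at h
  choose V hxV hV using h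
  refine isFiniteType_of_forall_restrict _ (fun x : X => (V x : Scheme.{u})) (fun x => (V x).ι)
    (fun x => ⟨x, ⟨⟨x, hxV x⟩, rfl⟩⟩) (fun x => ?_)
  obtain ⟨P, α, hP, h1, h2⟩ := hV x
  have hepi : Epi ((DerivedCategory.homologyFunctor _ b).map α) := by
    rcases eq_or_lt_of_le hmb with rfl | hi'
    · exact h2
    · have := h1 b hi'; infer_instance
  have hz : ∀ i, b < i → IsZero (P.homology i) := by
    intro i hi
    have := h1 i (by omega)
    have hz0 : IsZero (DCoh.HD E i) := DerivedCategory.isZero_of_isLE E b i hi
    have hz1 : IsZero ((DCoh.HD E i).restrict (V x).ι) :=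
      (Scheme.Modules.restrictFunctor (V x).ι).map_isZero hz0
    exact hz1.of_iso (((DerivedCategory.homologyFunctorFactors _ i).app P).symm ≪≫
      asIso ((DerivedCategory.homologyFunctor _ i).map α) ≪≫
      homologyRestrictIso (V x).ι E i)
  have hc : CohB1.IsFP (P.homology b) := isFP_homology_top P hP b hz
  have hc' : CohB1.IsFT (P.homology b) := by
    have : SheafOfModules.IsFinitePresentation (R := (V x : Scheme.{u}).ringCatSheaf)
      (P.homology b) := hc
    infer_instance
  let p : P.homology b ⟶ (DCoh.HD E b).restrict (V x).ι :=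
    ((DerivedCategory.homologyFunctorFactors _ b).app P).inv ≫
      (DerivedCategory.homologyFunctor _ b).map α ≫ (homologyRestrictIso (V x).ι E b).hom
  have : Epi p := by
    have h3 : Epi ((DerivedCategory.homologyFunctor _ b).map α ≫
        (homologyRestrictIso (V x).ι E b).hom) := @epi_comp _ _ _ _ _ _ hepi _ inferInstance
    exact @epi_comp _ _ _ _ _ _ inferInstance _ h3
  exact isFiniteType_of_epi p hc'

end

end Groth.Agent.Lib.Helper30.PCTop
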