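import Mathlib
import Groth.Agent.Lib.Helper6.MPC2

/-!
# Killing the top cohomology of a bounded above object of `D(R)` by a finite free module (helper30)

If `K ≤ b` and `H^b(K)` is a finite module, there is a finite free module `F` and a map
`F[-b] ⟶ K` which is surjective on `H^b`; its cone is `≤ b - 1`.
-/

set_option autoImplicit false
universe u
open CategoryTheory Limits Pretriangulated DerivedCategory ZeroObject

namespace Groth.Agent.Lib.Helper30.TopFree
open Groth.Agent.Lib.Helper6 Groth.Agent.Lib.Helper6.MPC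

attribute [local instance] HasDerivedCategory.standard

variable {R : Type u} [CommRing R]

lemma isIso_of_isZero' {C : Type*} [Category C] [HasZeroMorphisms C] {X Y : C} (f : X ⟶ Y)
    (hX : IsZero X) (hY : IsZero Y) : IsIso f :=
  ⟨⟨0, hX.eq_of_src _ _, hY.eq_of_src _ _⟩⟩

theorem exists_free_cond (K : Dual.D R) (b : ℤ) [K.IsLE b]
    (hfin : Module.Finite R ((homologyFunctor (ModuleCat.{u} R) b).obj K)) :
    ∃ (P : Dual.D R) (φ : P ⟶ K), FF b b P ∧ Cond b φ := by
  have hb0 : -b + b = 0 := by omega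
  obtain ⟨N, p, hp⟩ := exists_top_map K b (-b) hb0
  -- `N` is finite
  let eN : (homologyFunctor (ModuleCat.{u} R) b).obj K ≅ N :=
    asIso ((homologyFunctor (ModuleCat.{u} R) b).map p) ≪≫ (topIso b (-b) hb0).app N
  have hNfin : Module.Finite R N := Module.Finite.equiv eN.toLinearEquiv
  obtain ⟨k, f, hf⟩ := Module.Finite.exists_fin' R N
  let F : ModuleCat.{u} R := ModuleCat.of R (Fin k → R)
  let q : F ⟶ N := ModuleCat.ofHom f
  have hq : Epi q := (ModuleCat.epi_iff_surjective q).mpr hf
  let ψ : ((singleFunctor (ModuleCat.{u} R) 0).obj F)⟦-b⟧ ⟶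
      ((singleFunctor (ModuleCat.{u} R) 0).obj N)⟦-b⟧ :=
    ((singleFunctor (ModuleCat.{u} R) 0).map q)⟦-b⟧'
  have hFF : FF b b (((singleFunctor (ModuleCat.{u} R) 0).obj F)⟦-b⟧) :=
    (FF_single F).shift (-b) b b (by omega) (by omega)
  -- vanishing of homology of `N[-b]` and `F[-b]` above `b`
  have hNLE : (((singleFunctor (ModuleCat.{u} R) 0).obj N)⟦-b⟧).IsLE b :=
    TStructure.t.isLE_shift _ 0 (-b) b (by omega)
  have hFLE : (((singleFunctor (ModuleCat.{u} R) 0).obj F)⟦-b⟧).IsLE b :=
    TStructure.t.isLE_shift _ 0 (-b) b (by omega)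
  have hcondp : Cond b p := by
    refine ⟨fun i hi => ?_, inferInstance⟩
    exact isIso_of_isZero' _ (isZero_of_isLE K b i hi) (isZero_of_isLE _ b i hi)
  obtain ⟨C', g, h, hT⟩ := distinguished_cocone_triangle₁ p
  have hC : (C'⟦(1 : ℤ)⟧).IsLE (b - 1) :=
    (cond_iff_isLE (Triangle.mk g p h).rotate (rot_of_distTriang _ hT) b).1 hcondp
  have h0 : ψ ≫ h = 0 := hFF.hom_eq_zero _ _
  obtain ⟨φ, hφ⟩ : ∃ φ : ((singleFunctor (ModuleCat.{u} R) 0).obj F)⟦-b⟧ ⟶ K, ψ = φ ≫ p :=
    Triangle.coyoneda_exact₃ _ hT ψ h0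
  refine ⟨_, φ, hFF, fun i hi => ?_, ?_⟩
  · exact isIso_of_isZero' _ (isZero_of_isLE _ b i hi) (isZero_of_isLE K b i hi)
  · have h1 : (homologyFunctor (ModuleCat.{u} R) b).map ψ =
        (homologyFunctor (ModuleCat.{u} R) b).map φ ≫ (homologyFunctor (ModuleCat.{u} R) b).map p := by
      rw [← Functor.map_comp]
      exact congrArg _ hφ
    have h2 : Epi ((homologyFunctor (ModuleCat.{u} R) b).map ψ) := by
      have hn := topIso_naturality b (-b) hb0 q
      have h3 : Epi ((homologyFunctor (ModuleCat.{u} R) b).map ψ ≫ (topIso b (-b) hb0).hom.app N) := by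
        rw [hn]
        infer_instance
      have h4 : (homologyFunctor (ModuleCat.{u} R) b).map ψ =
          ((homologyFunctor (ModuleCat.{u} R) b).map ψ ≫ (topIso b (-b) hb0).hom.app N) ≫
            (topIso b (-b) hb0).inv.app N := by
        rw [Category.assoc]
        erw [Iso.hom_inv_id_app]
        exact (Category.comp_id _).symm
      rw [h4]
      infer_instance
    have h5 : (homologyFunctor (ModuleCat.{u} R) b).map φ =
        (homologyFunctor (ModuleCat.{u} R) b).map ψ ≫
          inv ((homologyFunctor (ModuleCat.{u} R) b).map p) := by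
      rw [IsIso.eq_comp_inv]
      exact h1.symm
    rw [h5]
    infer_instance

/-- the cone of such a map is `≤ b - 1` -/
theorem isLE_cone_of_cond (T : Triangle (Dual.D R)) (hT : T ∈ distTriang _) (b : ℤ)
    (h : Cond b T.mor₁) : T.obj₃.IsLE (b - 1) :=
  (cond_iff_isLE T hT b).1 h

end Groth.Agent.Lib.Helper30.TopFree
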