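import Mathlib
import Groth.Agent.Lib.Helper30.TildeTAmp
import Groth.Agent.Lib.Helper30.PCTop
import Groth.Agent.Lib.Helper30.TopFree
import Groth.Agent.Lib.Helper49.TildeFinLocFree
import Groth.Agent.Lib.Helper49.FiniteTypeAffine

/-!
# Pseudo-coherence of `M~` on `Spec R` versus pseudo-coherence of `M` (helper30)
-/

set_option autoImplicit false
universe u
open CategoryTheory CategoryTheory.Limits AlgebraicGeometry Pretriangulated
attribute [local instance] HasDerivedCategory.standard

namespace Groth.Agent.Lib.Helper30.TildePC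

open Groth.Agent.Lib.Helper30.TildeStalk Groth.Agent.Lib.Helper30.TildeTAmp
open Groth.Agent.Lib.Helper30.PerfRestrict Groth.Agent.Lib.Helper30.PCTriangle
open Groth.Agent.Lib.Helper30.PCSummand
open Groth.Agent.Lib.Helper6 Groth.Agent.Lib.Helper6.MPC

variable (R : CommRingCat.{u}) [PreservesFiniteLimits (tilde.functor R)]

omit [PreservesFiniteLimits (tilde.functor R)] in
/-- `E~` is strictly perfect if `E` is a bounded complex of finite projective modules -/
theorem isStrictlyPerfect_tildeCx (E : CochainComplex (ModuleCat.{u} R) ℤ) (a b : ℤ)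
    (hv : DRing.VanishesOutside E a b) (hE : DRing.TermwiseFiniteProjective E) :
    DCoh.IsStrictlyPerfect ((tildeCx R).obj E) := by
  refine ⟨⟨a, b, fun i hi => (tilde.functor R).map_isZero (hv i hi)⟩, fun i => ?_⟩
  exact (Groth.Agent.Lib.Helper49.isFinLocFree_tilde_iff (E.X i)).mpr (hE i)

/-- `M~` is `m`-pseudo-coherent if `M` is -/
theorem pcObj_tildeD (M : DerivedCategory (ModuleCat.{u} R)) (m : ℤ)
    (h : DRing.IsPseudoCoherent R m M) : PCObj m ((DCoh.tildeD R).obj M) := by
  obtain ⟨E, a, b, α, hv, hE, hiso, hepi⟩ := h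
  refine ⟨(tildeCx R).obj E, (tildeDQIso R E).inv ≫ (DCoh.tildeD R).map α,
    isStrictlyPerfect_tildeCx R E a b hv (fun i => ⟨(hE i).1, ?_⟩), fun i hi => ?_, ?_⟩
  · have := (hE i).2
    infer_instance
  · have := ExactDC.isIso_homology_map (F := tilde.functor R) α i (hiso i hi)
    rw [Functor.map_comp]
    infer_instance
  · have := ExactDC.epi_homology_map (F := tilde.functor R) α m hepi
    rw [Functor.map_comp]
    infer_instance

theorem isPseudoCoherentD_tildeD (M : DerivedCategory (ModuleCat.{u} R)) (m : ℤ)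
    (h : DRing.IsPseudoCoherent R m M) : DCoh.IsPseudoCoherentD m ((DCoh.tildeD R).obj M) :=
  isPseudoCoherentD_of_pcObj (pcObj_tildeD R M m h)

/-- `H^i(M~) ≅ H^i(M)~` -/
noncomputable def homologyTildeIso (M : DerivedCategory (ModuleCat.{u} R)) (i : ℤ) :
    DCoh.HD ((DCoh.tildeD R).obj M) i ≅
      (tilde.functor R).obj ((DerivedCategory.homologyFunctor (ModuleCat.{u} R) i).obj M) :=
  (ExactDC.homologyIso (tilde.functor R) i).app M

theorem isLE_tildeD (M : DerivedCategory (ModuleCat.{u} R)) (b : ℤ) [M.IsLE b] :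
    ((DCoh.tildeD R).obj M).IsLE b :=
  ExactDC.isLE_obj (F := tilde.functor R) M b

theorem isLE_of_isLE_tildeD (M : DerivedCategory (ModuleCat.{u} R)) (b : ℤ)
    [((DCoh.tildeD R).obj M).IsLE b] : M.IsLE b := by
  rw [DerivedCategory.isLE_iff]
  intro i hi
  have hz : IsZero (DCoh.HD ((DCoh.tildeD R).obj M) i) :=
    DerivedCategory.isZero_of_isLE _ b i hi
  exact IsZero.of_full_of_faithful_of_isZero (tilde.functor R) _
    (hz.of_iso (homologyTildeIso R M i).symm)

theorem isPC_of_tildeD_aux (m : ℤ) (n : ℕ) :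
    ∀ (K : DerivedCategory (ModuleCat.{u} R)) (b : ℤ), b - m + 1 ≤ n → K.IsLE b →
      DCoh.IsPseudoCoherentD m ((DCoh.tildeD R).obj K) → DRing.IsPseudoCoherent R m K := by
  induction n with
  | zero =>
    intro K b hbm hL _
    have : K.IsLE (m - 1) := DerivedCategory.TStructure.t.isLE_of_le K b (m - 1) (by omega)
    exact isPC_of_isLE m K
  | succ n ih =>
    intro K b hbm hL hK
    by_cases hmb : b < m
    · have : K.IsLE (m - 1) := DerivedCategory.TStructure.t.isLE_of_le K b (m - 1) (by omega)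
      exact isPC_of_isLE m K
    · have hmb' : m ≤ b := by omega
      have hLE' : ((DCoh.tildeD R).obj K).IsLE b := isLE_tildeD R K b
      have hFT := Groth.Agent.Lib.Helper30.PCTop.isFT_homology_top
        ((DCoh.tildeD R).obj K) m b hmb' hK
      have hFT' : SheafOfModules.IsFiniteType (R := (Spec R).ringCatSheaf)
          ((tilde.functor R).obj ((DerivedCategory.homologyFunctor (ModuleCat.{u} R) b).obj K)) :=
        Groth.Agent.Lib.Helper49.isFiniteType_of_iso (homologyTildeIso R K b) hFT
      have hfin : Module.Finite R ((DerivedCategory.homologyFunctor (ModuleCat.{u} R) b).obj K) :=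
        Groth.Agent.Lib.Helper49.finite_of_isFiniteType_tilde R _ hFT'
      obtain ⟨P, φ, hFF, hcond⟩ := Groth.Agent.Lib.Helper30.TopFree.exists_free_cond K b hfin
      obtain ⟨C, g, h, hT⟩ := distinguished_cocone_triangle φ
      have hC : C.IsLE (b - 1) :=
        Groth.Agent.Lib.Helper30.TopFree.isLE_cone_of_cond _ hT b hcond
      have hP1 : DCoh.IsPseudoCoherentD (m + 1) ((DCoh.tildeD R).obj P) :=
        isPseudoCoherentD_tildeD R P (m + 1) (isPC_of_FF hFF (m + 1))
      have hTd := (DCoh.tildeD R).map_distinguished _ hT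
      have hC' : DCoh.IsPseudoCoherentD m ((DCoh.tildeD R).obj C) :=
        isPseudoCoherentD_obj₃ _ hTd m hP1 hK
      have hCpc : DRing.IsPseudoCoherent R m C := ih C (b - 1) (by omega) hC hC'
      exact (isPC_triangle _ hT m).2.1 (isPC_of_FF hFF m) hCpc

/-- `M` is `m`-pseudo-coherent if `M~` is -/
theorem isPC_of_isPseudoCoherentD_tildeD (M : DerivedCategory (ModuleCat.{u} R)) (m : ℤ)
    (h : DCoh.IsPseudoCoherentD m ((DCoh.tildeD R).obj M)) : DRing.IsPseudoCoherent R m M := by
  obtain ⟨b, hb⟩ := Groth.Agent.Lib.Helper30.PCNoeth.exists_isLE_of_isPseudoCoherentD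
    ((DCoh.tildeD R).obj M) m h
  have hLE : M.IsLE b := isLE_of_isLE_tildeD R M b
  exact isPC_of_tildeD_aux R m (b - m + 1).toNat M b (by omega) hLE h

end Groth.Agent.Lib.Helper30.TildePC
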