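import Mathlib

/-!
# Kernel of a chain map to a complex concentrated in one degree (helper30)

Given a complex `L`, a degree `c` and an epimorphism `p₂ : L.X c ⟶ M₂` killing the incoming
differential, the kernel of the induced chain map `L ⟶ M₂[-c]` agrees with `L` outside degree `c`
and is a kernel of `p₂` in degree `c`; it sits in a distinguished triangle in `D(A)`.
-/

set_option autoImplicit false
set_option linter.unusedSectionVars false
universe w v u
open CategoryTheory CategoryTheory.Limits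

namespace Groth.Agent.Lib.Helper30.CptKernel

variable {A : Type u} [Category.{v} A] [Abelian A]
  (L : CochainComplex A ℤ) (c : ℤ) {M₂ : A} (p₂ : L.X c ⟶ M₂)
  (hd : ∀ i : ℤ, (ComplexShape.up ℤ).Rel i c → L.d i c ≫ p₂ = 0)

/-- the chain map `L ⟶ M₂[-c]` -/
noncomputable def toS : L ⟶ (HomologicalComplex.single A (ComplexShape.up ℤ) c).obj M₂ :=
  HomologicalComplex.mkHomToSingle p₂ hd

lemma toS_f_self : (toS L c p₂ hd).f c =
    p₂ ≫ (HomologicalComplex.singleObjXSelf (ComplexShape.up ℤ) c M₂).inv :=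
  HomologicalComplex.mkHomToSingle_f _ _

lemma isZero_single_X (k : ℤ) (hk : k ≠ c) :
    IsZero (((HomologicalComplex.single A (ComplexShape.up ℤ) c).obj M₂).X k) :=
  HomologicalComplex.isZero_single_obj_X _ _ _ _ hk

instance epi_toS [Epi p₂] : Epi (toS L c p₂ hd) := by
  have : ∀ k, Epi ((toS L c p₂ hd).f k) := fun k => by
    by_cases hk : k = c
    · subst hk
      rw [toS_f_self]
      infer_instance
    · exact ⟨fun _ _ _ => (isZero_single_X c k hk).eq_of_src _ _⟩
  exact HomologicalComplex.epi_of_epi_f _ this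

/-- the kernel complex -/
noncomputable def Ker : CochainComplex A ℤ := kernel (toS L c p₂ hd)

/-- the inclusion of the kernel complex -/
noncomputable def ιKer : Ker L c p₂ hd ⟶ L := kernel.ι (toS L c p₂ hd)

instance : Mono (ιKer L c p₂ hd) := by
  unfold ιKer; exact equalizer.ι_mono

lemma mono_ιKer_f (k : ℤ) : Mono ((ιKer L c p₂ hd).f k) := inferInstance

/-- the short exact sequence `0 → Ker → L → M₂[-c] → 0` -/
noncomputable def sc : ShortComplex (CochainComplex A ℤ) :=
  ShortComplex.mk (ιKer L c p₂ hd) (toS L c p₂ hd) (kernel.condition _)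

lemma sc_shortExact [Epi p₂] : (sc L c p₂ hd).ShortExact where
  exact := ShortComplex.exact_of_f_is_kernel _ (kernelIsKernel _)
  mono_f := by dsimp [sc]; infer_instance
  epi_g := by dsimp [sc]; infer_instance

lemma sc_shortExact_eval [Epi p₂] (k : ℤ) :
    ((sc L c p₂ hd).map (HomologicalComplex.eval A (ComplexShape.up ℤ) k)).ShortExact :=
  (sc_shortExact L c p₂ hd).map_of_exact _

lemma isIso_ιKer_f [Epi p₂] (k : ℤ) (hk : k ≠ c) : IsIso ((ιKer L c p₂ hd).f k) := by
  have h := sc_shortExact_eval L c p₂ hd k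
  have : Mono ((ιKer L c p₂ hd).f k) := h.mono_f
  have : Epi ((ιKer L c p₂ hd).f k) :=
    h.exact.epi_f ((isZero_single_X c k hk).eq_of_tgt _ _)
  exact isIso_of_mono_of_epi _

lemma ιKer_f_comp [Epi p₂] : (ιKer L c p₂ hd).f c ≫ p₂ = 0 := by
  have hz : (ιKer L c p₂ hd).f c ≫ (toS L c p₂ hd).f c = 0 :=
    ((sc L c p₂ hd).map (HomologicalComplex.eval A (ComplexShape.up ℤ) c)).zero
  rw [toS_f_self, ← Category.assoc] at hz
  rw [← cancel_mono (HomologicalComplex.singleObjXSelf (ComplexShape.up ℤ) c M₂).inv, hz,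
    zero_comp]

/-- In degree `c` the kernel complex is a complement of `M₂`. -/
noncomputable def kerXIso [Epi p₂] {M₁ : A} (i₁ : M₁ ⟶ L.X c) (p₁ : L.X c ⟶ M₁) (i₂ : M₂ ⟶ L.X c)
    (h11 : i₁ ≫ p₁ = 𝟙 _) (h12 : i₁ ≫ p₂ = 0) (htot : p₁ ≫ i₁ + p₂ ≫ i₂ = 𝟙 _) :
    (Ker L c p₂ hd).X c ≅ M₁ := by
  have h := sc_shortExact_eval L c p₂ hd c
  have hm : Mono ((ιKer L c p₂ hd).f c) := h.mono_f
  have hm' : Mono ((sc L c p₂ hd).map (HomologicalComplex.eval A (ComplexShape.up ℤ) c)).f :=
    h.mono_f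
  have hz : i₁ ≫ (toS L c p₂ hd).f c = 0 := by
    rw [toS_f_self, ← Category.assoc, h12, zero_comp]
  let l : M₁ ⟶ (Ker L c p₂ hd).X c := h.exact.lift i₁ hz
  have hl : l ≫ (ιKer L c p₂ hd).f c = i₁ := h.exact.lift_f i₁ hz
  refine ⟨(ιKer L c p₂ hd).f c ≫ p₁, l, ?_, ?_⟩
  · rw [← cancel_mono ((ιKer L c p₂ hd).f c), Category.assoc, Category.assoc, hl, Category.id_comp]
    have : p₁ ≫ i₁ = 𝟙 _ - p₂ ≫ i₂ := by rw [← htot]; abel
    rw [this, Preadditive.comp_sub, Category.comp_id, ← Category.assoc, ιKer_f_comp, zero_comp,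
      sub_zero]
  · rw [← Category.assoc, hl, h11]

variable [HasDerivedCategory.{w} A]

open DerivedCategory in
/-- lifting a morphism killed by `L ⟶ M₂[-c]` to the kernel complex -/
lemma exists_lift [Epi p₂] {K : DerivedCategory A} (φ : K ⟶ Q.obj L)
    (hφ : φ ≫ Q.map (toS L c p₂ hd) = 0) :
    ∃ φ' : K ⟶ Q.obj (Ker L c p₂ hd), φ = φ' ≫ Q.map (ιKer L c p₂ hd) := by
  have hT := DerivedCategory.triangleOfSES_distinguished (sc_shortExact L c p₂ hd)
  exact Pretriangulated.Triangle.coyoneda_exact₂ _ hT φ hφ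

end Groth.Agent.Lib.Helper30.CptKernel
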