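import Mathlib

/-!
# Splitting a coproduct along a finite subset of the index type (helper30)
-/

set_option autoImplicit false
set_option linter.unusedSectionVars false
universe t v u
open CategoryTheory CategoryTheory.Limits

namespace Groth.Agent.Lib.Helper30.CptSplit

variable {A : Type u} [Category.{v} A] [Abelian A] [HasCoproducts.{t} A] [HasFiniteBiproducts A]
  {Λ : Type t} (G : Λ → A) (F : Finset Λ)

/-- the restriction of the family to the complement of `F` -/
abbrev famC : {l : Λ // l ∉ F} → A := fun l => G l.1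

/-- the restriction of the family to `F` -/
abbrev famF : F → A := fun l => G l.1

/-- the coproduct over the complement of `F` -/
noncomputable abbrev compl : A := ∐ (famC G F)

/-- the (finite) direct sum over `F` -/
noncomputable abbrev fin : A := ⨁ (famF G F)

open Classical in
/-- projection onto the complement of `F` -/
noncomputable def projCompl : ∐ G ⟶ compl G F :=
  Sigma.desc (fun l => if h : l ∈ F then 0 else Sigma.ι (famC G F) ⟨l, h⟩)

/-- inclusion of the complement -/
noncomputable def inclCompl : compl G F ⟶ ∐ G :=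
  Sigma.desc (fun l => Sigma.ι G l.1)

/-- inclusion of the finite part -/
noncomputable def inclFin : fin G F ⟶ ∐ G :=
  biproduct.desc (fun l => Sigma.ι G l.1)

open Classical in
/-- projection onto the finite part -/
noncomputable def projFin : ∐ G ⟶ fin G F :=
  Sigma.desc (fun l => if h : l ∈ F then biproduct.ι (famF G F) ⟨l, h⟩ else 0)

@[reassoc]
lemma ι_projCompl_of_mem {l : Λ} (h : l ∈ F) : Sigma.ι G l ≫ projCompl G F = 0 := by
  unfold projCompl
  rw [Sigma.ι_desc, dif_pos h]

@[reassoc]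
lemma ι_projCompl_of_not_mem {l : Λ} (h : l ∉ F) :
    Sigma.ι G l ≫ projCompl G F = Sigma.ι (famC G F) ⟨l, h⟩ := by
  unfold projCompl
  rw [Sigma.ι_desc, dif_neg h]

@[reassoc]
lemma ι_projFin_of_mem {l : Λ} (h : l ∈ F) :
    Sigma.ι G l ≫ projFin G F = biproduct.ι (famF G F) ⟨l, h⟩ := by
  unfold projFin
  rw [Sigma.ι_desc, dif_pos h]

@[reassoc]
lemma ι_projFin_of_not_mem {l : Λ} (h : l ∉ F) : Sigma.ι G l ≫ projFin G F = 0 := by
  unfold projFin
  rw [Sigma.ι_desc, dif_neg h]

@[reassoc (attr := simp)]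
lemma inclCompl_projCompl : inclCompl G F ≫ projCompl G F = 𝟙 _ := by
  apply Sigma.hom_ext
  rintro ⟨l, h⟩
  unfold inclCompl
  rw [Sigma.ι_desc_assoc, ι_projCompl_of_not_mem G F h, Category.comp_id]

@[reassoc (attr := simp)]
lemma inclFin_projFin : inclFin G F ≫ projFin G F = 𝟙 _ := by
  apply biproduct.hom_ext'
  rintro ⟨l, h⟩
  unfold inclFin
  rw [biproduct.ι_desc_assoc, ι_projFin_of_mem G F h, Category.comp_id]

@[reassoc (attr := simp)]
lemma inclFin_projCompl : inclFin G F ≫ projCompl G F = 0 := by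
  apply biproduct.hom_ext'
  rintro ⟨l, h⟩
  unfold inclFin
  rw [biproduct.ι_desc_assoc, ι_projCompl_of_mem G F h, comp_zero]

lemma total : projFin G F ≫ inclFin G F + projCompl G F ≫ inclCompl G F = 𝟙 _ := by
  apply Sigma.hom_ext
  intro l
  rw [Preadditive.comp_add, Category.comp_id]
  by_cases h : l ∈ F
  · rw [ι_projFin_of_mem_assoc G F h, ι_projCompl_of_mem_assoc G F h, zero_comp, add_zero]
    unfold inclFin
    rw [biproduct.ι_desc]
  · rw [ι_projFin_of_not_mem_assoc G F h, ι_projCompl_of_not_mem_assoc G F h, zero_comp, zero_add]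
    unfold inclCompl
    rw [Sigma.ι_desc]

instance : Epi (projCompl G F) := epi_of_epi_fac (inclCompl_projCompl G F)

/-- Composite of two successive projections onto complements, compared with the projection onto
the complement of the union. -/
lemma exists_projCompl_comp (F₁ : Finset {l : Λ // l ∉ F}) :
    ∃ (F' : Finset Λ) (ρ : compl (famC G F) F₁ ⟶ compl G F'), F ⊆ F' ∧
      projCompl G F' = projCompl G F ≫ projCompl (famC G F) F₁ ≫ ρ := by
  classical
  let F' : Finset Λ := F ∪ F₁.map (Function.Embedding.subtype _)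
  have hmem : ∀ l : Λ, l ∈ F' ↔ l ∈ F ∨ ∃ h : l ∉ F, (⟨l, h⟩ : {l : Λ // l ∉ F}) ∈ F₁ := by
    intro l
    simp only [F', Finset.mem_union, Finset.mem_map, Function.Embedding.coe_subtype,
      Subtype.exists, exists_and_right, exists_eq_right]
  have hnot : ∀ (m : {m : {l : Λ // l ∉ F} // m ∉ F₁}), m.1.1 ∉ F' := by
    rintro ⟨⟨l, h⟩, h'⟩
    rw [hmem]
    rintro (h'' | ⟨_, h''⟩)
    · exact h h''
    · exact h' h''
  let ρ : compl (famC G F) F₁ ⟶ compl G F' :=
    Sigma.desc (fun m => Sigma.ι (famC G F') ⟨m.1.1, hnot m⟩)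
  refine ⟨F', ρ, Finset.subset_union_left, ?_⟩
  apply Sigma.hom_ext
  intro l
  by_cases h : l ∈ F
  · rw [ι_projCompl_of_mem G F' ((hmem l).2 (Or.inl h)), ι_projCompl_of_mem_assoc G F h, zero_comp]
  · rw [ι_projCompl_of_not_mem_assoc G F h]
    by_cases h' : (⟨l, h⟩ : {l : Λ // l ∉ F}) ∈ F₁
    · rw [ι_projCompl_of_mem G F' ((hmem l).2 (Or.inr ⟨h, h'⟩)),
        ι_projCompl_of_mem_assoc (famC G F) F₁ h', zero_comp]
    · have hl : l ∉ F' := hnot ⟨⟨l, h⟩, h'⟩
      rw [ι_projCompl_of_not_mem G F' hl, ι_projCompl_of_not_mem_assoc (famC G F) F₁ h']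
      exact (Sigma.ι_desc (f := famC (famC G F) F₁)
        (fun m => Sigma.ι (famC G F') ⟨m.1.1, hnot m⟩) ⟨⟨l, h⟩, h'⟩).symm

/-- monotonicity of vanishing after projection to the complement -/
lemma comp_projCompl_eq_zero_of_subset {F F' : Finset Λ} (hFF' : F ⊆ F') {T : A} (f : T ⟶ ∐ G)
    (hf : f ≫ projCompl G F = 0) : f ≫ projCompl G F' = 0 := by
  classical
  have hnot : ∀ l : Λ, l ∉ F' → l ∉ F := fun l h h' => h (hFF' h')
  let r : compl G F ⟶ compl G F' :=
    Sigma.desc (fun m => if h : m.1 ∈ F' then 0 else Sigma.ι (famC G F') ⟨m.1, h⟩)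
  have hr : projCompl G F' = projCompl G F ≫ r := by
    apply Sigma.hom_ext
    intro l
    by_cases h' : l ∈ F'
    · rw [ι_projCompl_of_mem G F' h']
      by_cases h : l ∈ F
      · rw [ι_projCompl_of_mem_assoc G F h, zero_comp]
      · rw [ι_projCompl_of_not_mem_assoc G F h]
        simp only [r]
        rw [Sigma.ι_desc, dif_pos h']
    · rw [ι_projCompl_of_not_mem G F' h', ι_projCompl_of_not_mem_assoc G F (hnot l h')]
      simp only [r]
      rw [Sigma.ι_desc, dif_neg h']
  rw [hr, ← Category.assoc, hf, zero_comp]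

/-- the finite part is a direct sum indexed by `Fin n` -/
lemma exists_fin_iso : ∃ (n : ℕ) (E : Fin n → A), (∀ j, ∃ l, E j = G l) ∧ Nonempty (fin G F ≅ ⨁ E) := by
  classical
  let ε : Fin F.card ≃ F := F.equivFin.symm
  refine ⟨F.card, fun j => G (ε j).1, fun j => ⟨_, rfl⟩, ⟨?_⟩⟩
  exact (biproduct.whiskerEquiv (f := fun j => G (ε j).1) (g := famF G F) ε
    (fun j => Iso.refl _)).symm

end Groth.Agent.Lib.Helper30.CptSplit
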