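import Mathlib
import Groth.Agent.Lib.Helper30.CptDerived
import Groth.Agent.Lib.Helper30.SigmaGE
import Groth.Agent.Lib.Helper32.LeftRes
import Groth.Agent.S0985

/-!
# Compact objects: bounded-above resolutions and stupid truncations (helper30)
-/

set_option autoImplicit false
set_option linter.unusedSectionVars false
universe w t t' v u
open CategoryTheory CategoryTheory.Limits

namespace Groth.Agent.Lib.Helper30.CptDecomp

open Groth.Agent.Lib.Helper32.DCoprod DerivedCategory Groth.Agent.Lib.Helper30.SigmaGE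

section Resolution

variable {A : Type u} [Category.{v} A] [Abelian A] [HasDerivedCategory.{w} A]

/-- A complex with cohomology bounded above is isomorphic in `D(A)` to a strictly bounded above
complex with terms in a class of objects through which every object is a quotient. -/
theorem exists_resolution (P : A → Prop)
    (hP : ∀ X : A, ∃ (Y : A) (π : Y ⟶ X), P Y ∧ Epi π)
    (hP0 : ∃ Z : A, IsZero Z ∧ P Z)
    (X : CochainComplex A ℤ) (b : ℤ) [X.IsLE b] :
    ∃ (L : CochainComplex A ℤ), L.IsStrictlyLE b ∧ (∀ n, P (L.X n)) ∧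
      Nonempty (Q.obj L ≅ Q.obj X) := by
  obtain ⟨L, α, hL, hPL, _, hα⟩ :=
    Groth.Agent.Lib.Helper32.LeftRes.exists_of_isStrictlyLE P hP hP0 (X.truncLE b) b
  refine ⟨L, hL, hPL, ⟨?_⟩⟩
  have h1 : IsIso (Q.map α) := (isIso_Q_map_iff_quasiIso A _).2 hα
  have h2 : IsIso (Q.map (X.ιTruncLE b)) := (isIso_Q_map_iff_quasiIso A _).2 inferInstance
  exact asIso (Q.map α) ≪≫ asIso (Q.map (X.ιTruncLE b))

end Resolution

section Stupid

variable {A : Type u} [Category.{v} A] [Abelian A]

lemma ιGE_πLT_eq_zero (K : CochainComplex A ℤ) (m m' : ℤ) (h : m' ≤ m) :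
    ιGE K m ≫ πLT K m' = 0 := by
  ext i
  by_cases hi : i < m
  · exact (isZero_sigmaGE_X K m i hi).eq_of_src _ _
  · exact (isZero_sigmaLT_X K m' i (by omega)).eq_of_tgt _ _

/-- transition maps between stupid truncations -/
noncomputable def transGE (K : CochainComplex A ℤ) (m m' : ℤ) (h : m' ≤ m) :
    sigmaGE K m ⟶ sigmaGE K m' :=
  kernel.lift (πLT K m') (ιGE K m) (ιGE_πLT_eq_zero K m m' h)

@[reassoc (attr := simp)]
lemma transGE_ι (K : CochainComplex A ℤ) (m m' : ℤ) (h : m' ≤ m) :
    transGE K m m' h ≫ ιGE K m' = ιGE K m :=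
  kernel.lift_ι _ _ _

/-- the sequence of stupid truncations `σ_{≥ -n} K` -/
noncomputable def seqGE (K : CochainComplex A ℤ) : ℕ ⥤ CochainComplex A ℤ where
  obj n := sigmaGE K (-(n : ℤ))
  map {n m} φ := transGE K _ _ (by have := leOfHom φ; omega)
  map_id n := by
    rw [← cancel_mono (ιGE K _), transGE_ι, Category.id_comp]
  map_comp {n m k} φ ψ := by
    rw [← cancel_mono (ιGE K _), transGE_ι, Category.assoc, transGE_ι, transGE_ι]

lemma seqGE_map_ι (K : CochainComplex A ℤ) {n m : ℕ} (φ : n ⟶ m) :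
    (seqGE K).map φ ≫ ιGE K (-(m : ℤ)) = ιGE K (-(n : ℤ)) :=
  transGE_ι K _ _ (by have := leOfHom φ; omega)

/-- the cocone of inclusions -/
noncomputable def coconeGE (K : CochainComplex A ℤ) : Cocone (seqGE K) where
  pt := K
  ι :=
    { app := fun n => ιGE K (-(n : ℤ))
      naturality := fun n m φ => by
        dsimp
        rw [Category.comp_id]
        exact seqGE_map_ι K φ }

/-- the complex is the colimit of its stupid truncations -/
noncomputable def isColimitCoconeGE (K : CochainComplex A ℤ) : IsColimit (coconeGE K) := by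
  apply HomologicalComplex.isColimitOfEval
  intro k
  let F := seqGE K ⋙ HomologicalComplex.eval A (ComplexShape.up ℤ) k
  let i₀ : ℕ := (-k).toNat
  have hi₀ : -(i₀ : ℤ) ≤ k := by
    have := Int.self_le_toNat (-k)
    omega
  have hF : F.IsEventuallyConstantFrom i₀ := by
    intro j φ
    have hj : -(j : ℤ) ≤ k := by have := leOfHom φ; omega
    have h1 : IsIso ((ιGE K (-(i₀ : ℤ))).f k) := isIso_ιGE_f K _ k hi₀
    have h2 : IsIso ((ιGE K (-(j : ℤ))).f k) := isIso_ιGE_f K _ k hj
    have h3 : F.map φ ≫ (ιGE K (-(j : ℤ))).f k = (ιGE K (-(i₀ : ℤ))).f k := by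
      change ((seqGE K).map φ).f k ≫ _ = _
      rw [← HomologicalComplex.comp_f, seqGE_map_ι]
    have h4 : IsIso (F.map φ ≫ (ιGE K (-(j : ℤ))).f k) := by rw [h3]; exact h1
    exact @IsIso.of_isIso_comp_right _ _ _ _ _ (F.map φ) ((ιGE K (-(j : ℤ))).f k) h2 h4
  have : IsIso (((HomologicalComplex.eval A (ComplexShape.up ℤ) k).mapCocone (coconeGE K)).ι.app i₀) :=
    isIso_ιGE_f K _ k hi₀
  exact hF.isColimitOfIsIso _

end Stupid

section Factor

variable {A : Type u} [Category.{v} A] [Abelian A] [HasDerivedCategory.{w} A]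
  [HasColimitsOfShape (Discrete ℕ) A] [HasExactColimitsOfShape (Discrete ℕ) A]
  [HasColimitsOfShape ℕ A] [HasExactColimitsOfShape ℕ A]

/-- A morphism from an object with the countable decomposition property to `Q K` factors through a
stupid truncation `σ_{≥ -N} K`. -/
theorem exists_factor_sigmaGE (K : CochainComplex A ℤ) {C : DerivedCategory A}
    (hC : DecompAt C ℕ) (g : C ⟶ Q.obj K) :
    ∃ (N : ℕ) (g' : C ⟶ Q.obj (sigmaGE K (-(N : ℤ)))), g = g' ≫ Q.map (ιGE K (-(N : ℤ))) := by
  let L := seqGE K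
  let e : colimit L ≅ K := (colimit.isColimit L).coconePointUniqueUpToIso (isColimitCoconeGE K)
  have he : ∀ n, colimit.ι L n ≫ e.hom = ιGE K (-(n : ℤ)) := fun n =>
    (colimit.isColimit L).comp_coconePointUniqueUpToIso_hom (isColimitCoconeGE K) n
  have : HasCoproduct (fun n => Q.obj (L.obj n)) := hasCoproduct_derivedCategory _
  have hh := Groth.Agent.S0985.result L
  obtain ⟨N, g', hg'⟩ := isHocolim_factor hh C hC (g ≫ Q.map e.inv)
  refine ⟨N, g', ?_⟩
  have : g = (g ≫ Q.map e.inv) ≫ Q.map e.hom := by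
    rw [Category.assoc, ← Functor.map_comp, e.inv_hom_id, CategoryTheory.Functor.map_id,
      Category.comp_id]
  rw [this, hg', Category.assoc, ← Functor.map_comp, he]
  rfl

end Factor

end Groth.Agent.Lib.Helper30.CptDecomp
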