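import Mathlib
import Groth.Agent.Lib.Helper30.CptTrunc
import Groth.Agent.Lib.Helper30.CptKernel
import Groth.Agent.Lib.Helper30.CptSplit

/-!
# Compact objects of `D(A)` are retracts of bounded complexes of finite sums of generators (helper30)

Universe-flexible form (index types in `Type t`, morphisms of `D(A)` in `Type w`).
-/

set_option autoImplicit false
set_option linter.unusedSectionVars false
universe w t v u
open CategoryTheory CategoryTheory.Limits

namespace Groth.Agent.Lib.Helper30.CptMain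

open Groth.Agent.Lib.Helper30.CptDecomp Groth.Agent.Lib.Helper30.CptKernel
  Groth.Agent.Lib.Helper30.CptSplit Groth.Agent.Lib.Helper30.SigmaGE DerivedCategory

section Abelian

variable {A : Type u} [Category.{v} A] [Abelian A] [HasCoproducts.{t} A] [HasFiniteBiproducts A]

/-- finite support property: every morphism to a coproduct factors through a finite subcoproduct -/
def FinSupp (E : A) : Prop :=
  ∀ (Λ : Type t) (G : Λ → A) (f : E ⟶ ∐ G), ∃ F : Finset Λ, f ≫ projCompl G F = 0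

lemma FinSupp.of_iso {E E' : A} (e : E ≅ E') (h : FinSupp.{t} E) : FinSupp.{t} E' := by
  intro Λ G f
  obtain ⟨F, hF⟩ := h Λ G (e.hom ≫ f)
  refine ⟨F, ?_⟩
  rw [← cancel_epi e.hom, ← Category.assoc, hF, comp_zero]

lemma FinSupp.biproduct {n : ℕ} (E : Fin n → A) (h : ∀ j, FinSupp.{t} (E j)) :
    FinSupp.{t} (⨁ E) := by
  classical
  intro Λ G f
  choose Fj hFj using fun j => h j Λ G (biproduct.ι E j ≫ f)
  refine ⟨Finset.univ.biUnion Fj, ?_⟩
  apply biproduct.hom_ext'
  intro j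
  rw [comp_zero, ← Category.assoc]
  exact comp_projCompl_eq_zero_of_subset G
    (Finset.subset_biUnion_of_mem Fj (Finset.mem_univ j)) _ (hFj j)

/-- objects isomorphic to a `t`-small coproduct of members of `S` -/
def PSum (S : Set A) (M : A) : Prop :=
  ∃ (Λ : Type t) (G : Λ → A), (∀ l, G l ∈ S) ∧ Nonempty (M ≅ ∐ G)

/-- objects isomorphic to a finite direct sum of members of `S` -/
def PFin (S : Set A) (M : A) : Prop :=
  ∃ (n : ℕ) (E : Fin n → A), (∀ j, E j ∈ S) ∧ Nonempty (M ≅ ⨁ E)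

lemma PSum.of_iso {S : Set A} {M M' : A} (e : M ≅ M') (h : PSum.{t} S M) : PSum.{t} S M' := by
  obtain ⟨Λ, G, hG, ⟨θ⟩⟩ := h
  exact ⟨Λ, G, hG, ⟨e.symm ≪≫ θ⟩⟩

lemma PFin.of_iso {S : Set A} {M M' : A} (e : M ≅ M') (h : PFin S M) : PFin S M' := by
  obtain ⟨n, E, hE, ⟨θ⟩⟩ := h
  exact ⟨n, E, hE, ⟨e.symm ≪≫ θ⟩⟩

lemma PSum.of_isZero {S : Set A} {M : A} (h : IsZero M) : PSum.{t} S M := by
  refine ⟨PEmpty.{t + 1}, fun l => l.elim, fun l => l.elim, ⟨h.iso ?_⟩⟩
  rw [IsZero.iff_id_eq_zero]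
  apply Sigma.hom_ext
  intro l
  exact l.elim

lemma PFin.of_isZero {S : Set A} {M : A} (h : IsZero M) : PFin S M := by
  refine ⟨0, fun l => l.elim0, fun l => l.elim0, ⟨h.iso ?_⟩⟩
  rw [IsZero.iff_id_eq_zero]
  apply biproduct.hom_ext'
  intro l
  exact l.elim0

lemma PFin.finSupp {S : Set A} (hS : ∀ E ∈ S, FinSupp.{t} E) {M : A} (h : PFin S M) :
    FinSupp.{t} M := by
  obtain ⟨n, E, hE, ⟨θ⟩⟩ := h
  exact (FinSupp.biproduct E (fun j => hS _ (hE j))).of_iso θ.symm

end Abelian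

section Derived

variable {A : Type u} [Category.{v} A] [Abelian A] [HasDerivedCategory.{w} A]
  [HasCoproducts.{t} A] [HasFiniteBiproducts A]
  [∀ J : Type t, HasExactColimitsOfShape (Discrete J) A]

/-- compactness against coproducts placed in a single degree -/
lemma exists_finset_single (K : DerivedCategory A) (hK : ∀ J : Type t, DecompAt K J)
    {Λ : Type t} (G : Λ → A) (c : ℤ)
    (x : K ⟶ Q.obj ((HomologicalComplex.single A (ComplexShape.up ℤ) c).obj (∐ G))) :
    ∃ F : Finset Λ,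
      x ≫ Q.map ((HomologicalComplex.single A (ComplexShape.up ℤ) c).map (projCompl G F)) = 0 := by
  let Sg : A ⥤ DerivedCategory A := HomologicalComplex.single A (ComplexShape.up ℤ) c ⋙ Q
  let cof : Cofan (fun l => Sg.obj (G l)) :=
    Cofan.mk (Sg.obj (∐ G)) (fun l => Sg.map (Sigma.ι G l))
  have hcof : IsColimit cof :=
    isColimitCofanMkObjOfIsColimit Sg G (Sigma.ι G) (coproductIsCoproduct G)
  obtain ⟨F, y, hy⟩ := hK Λ _ cof hcof x
  refine ⟨F, ?_⟩
  change x ≫ Sg.map (projCompl G F) = 0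
  rw [hy, Preadditive.sum_comp]
  refine Finset.sum_eq_zero (fun l hl => ?_)
  change (y l ≫ Sg.map (Sigma.ι G l)) ≫ Sg.map (projCompl G F) = 0
  rw [Category.assoc, ← Sg.map_comp, ι_projCompl_of_mem G F hl, Functor.map_zero, comp_zero]

/-- the inductive step: making the term in degree `c` a finite sum -/
theorem step (S : Set A) (hS : ∀ E ∈ S, FinSupp.{t} E) {K : DerivedCategory A}
    (hK : ∀ J : Type t, DecompAt K J) (L : CochainComplex A ℤ) (c : ℤ)
    (h1 : PFin S (L.X (c - 1))) (h2 : PSum.{t} S (L.X c)) (φ : K ⟶ Q.obj L) :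
    ∃ (L' : CochainComplex A ℤ) (j : L' ⟶ L) (φ' : K ⟶ Q.obj L'),
      φ = φ' ≫ Q.map j ∧ (∀ k, k ≠ c → IsIso (j.f k)) ∧ (∀ k, Mono (j.f k)) ∧
        PFin S (L'.X c) := by
  obtain ⟨Λ, G, hG, ⟨θ⟩⟩ := h2
  -- stage 1: the differential into degree `c` has finite support
  obtain ⟨F₀, hF₀⟩ := (h1.finSupp hS) Λ G (L.d (c - 1) c ≫ θ.hom)
  have hd₀ : ∀ i : ℤ, (ComplexShape.up ℤ).Rel i c → L.d i c ≫ θ.hom ≫ projCompl G F₀ = 0 := by
    intro i hi
    have hi' : i = c - 1 := by
      have : i + 1 = c := hi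
      omega
    subst hi'
    rw [← Category.assoc]
    exact hF₀
  -- stage 2: compactness
  obtain ⟨F₁, hF₁⟩ := exists_finset_single K hK (famC G F₀) c
    (φ ≫ Q.map (toS L c (θ.hom ≫ projCompl G F₀) hd₀))
  obtain ⟨F, ρ, hsub, hρ⟩ := exists_projCompl_comp G F₀ F₁
  have hd : ∀ i : ℤ, (ComplexShape.up ℤ).Rel i c → L.d i c ≫ θ.hom ≫ projCompl G F = 0 := by
    intro i hi
    have := hd₀ i hi
    rw [← Category.assoc] at this ⊢
    exact comp_projCompl_eq_zero_of_subset G hsub _ this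
  have hπ : toS L c (θ.hom ≫ projCompl G F) hd =
      toS L c (θ.hom ≫ projCompl G F₀) hd₀ ≫
        (HomologicalComplex.single A (ComplexShape.up ℤ) c).map
          (projCompl (famC G F₀) F₁ ≫ ρ) := by
    apply HomologicalComplex.to_single_hom_ext
    rw [HomologicalComplex.comp_f, toS_f_self, toS_f_self,
      HomologicalComplex.single_map_f_self, hρ]
    simp only [Category.assoc, Iso.inv_hom_id_assoc]
  have hφ : φ ≫ Q.map (toS L c (θ.hom ≫ projCompl G F) hd) = 0 := by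
    rw [hπ, Functor.map_comp, Functor.map_comp, Functor.map_comp, ← Category.assoc,
      ← Category.assoc, hF₁, zero_comp]
  obtain ⟨φ', hφ'⟩ := exists_lift L c (θ.hom ≫ projCompl G F) hd φ hφ
  refine ⟨Ker L c (θ.hom ≫ projCompl G F) hd, ιKer L c (θ.hom ≫ projCompl G F) hd, φ', hφ',
    fun k hk => isIso_ιKer_f L c _ hd k hk, fun k => mono_ιKer_f L c _ hd k, ?_⟩
  let iso := kerXIso L c (θ.hom ≫ projCompl G F) hd (inclFin G F ≫ θ.inv) (θ.hom ≫ projFin G F)
    (inclCompl G F ≫ θ.inv)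
    (by simp)
    (by simp)
    (by
      have := total G F
      simp only [Category.assoc]
      rw [← Preadditive.comp_add, ← Category.assoc (projFin G F), ← Category.assoc (projCompl G F),
        ← Preadditive.add_comp, this, Category.id_comp, θ.hom_inv_id])
  obtain ⟨n, E, hE, ⟨e⟩⟩ := exists_fin_iso G F
  refine ⟨n, E, fun j => ?_, ⟨iso ≪≫ e⟩⟩
  obtain ⟨l, hl⟩ := hE j
  rw [hl]
  exact hG l

end Derived

end Groth.Agent.Lib.Helper30.CptMain
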