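import Mathlib
import Groth.Agent.Lib.Helper30.CptMain

/-!
# Main theorem: compact objects are retracts of bounded complexes of finite sums (helper30)
-/

set_option autoImplicit false
set_option linter.unusedSectionVars false
universe w t v u
open CategoryTheory CategoryTheory.Limits ZeroObject

namespace Groth.Agent.Lib.Helper30.CptMain

open Groth.Agent.Lib.Helper30.CptDecomp Groth.Agent.Lib.Helper30.CptKernel
  Groth.Agent.Lib.Helper30.CptSplit Groth.Agent.Lib.Helper30.SigmaGE DerivedCategory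

variable {A : Type u} [Category.{v} A] [Abelian A] [HasDerivedCategory.{w} A]
  [HasCoproducts.{t} A] [HasFiniteBiproducts A]
  [∀ J : Type t, HasExactColimitsOfShape (Discrete J) A]

/-- the invariant of the induction -/
def Inv (S : Set A) (K : DerivedCategory A) (a b : ℤ) (m : ℕ) : Prop :=
  ∃ (L : CochainComplex A ℤ) (φ : K ⟶ Q.obj L) (ψ : Q.obj L ⟶ K), φ ≫ ψ = 𝟙 K ∧
    (∀ k : ℤ, k < a ∨ b < k → IsZero (L.X k)) ∧
    (∀ k : ℤ, k < a + m → PFin S (L.X k)) ∧
    (∀ k : ℤ, a + m ≤ k → PSum.{t} S (L.X k))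

lemma inv_succ (S : Set A) (hS : ∀ E ∈ S, FinSupp.{t} E) {K : DerivedCategory A}
    (hK : ∀ J : Type t, DecompAt K J) (a b : ℤ) (m : ℕ) (h : Inv.{w, t} S K a b m) :
    Inv.{w, t} S K a b (m + 1) := by
  obtain ⟨L, φ, ψ, hφψ, hz, hfin, hsum⟩ := h
  obtain ⟨L', j, φ', hφ', hiso, hmono, hc⟩ :=
    step S hS hK L (a + m) (hfin _ (by omega)) (hsum _ le_rfl) φ
  refine ⟨L', φ', Q.map j ≫ ψ, ?_, ?_, ?_, ?_⟩
  · rw [← Category.assoc, ← hφ', hφψ]
  · intro k hk
    by_cases hkc : k = a + m
    · subst hkc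
      -- degree `c` is finite, but we need zero only outside `[a, b]`
      rcases hk with hk | hk
      · omega
      · -- `L'.X c` is a subobject of `L.X c`, which is zero
        have hm : Mono (j.f (a + m)) := hmono _
        exact IsZero.of_mono (j.f (a + m)) (hz _ (Or.inr hk))
    · have := hiso k hkc
      exact IsZero.of_iso (hz k hk) (asIso (j.f k))
  · intro k hk
    by_cases hkc : k = a + m
    · subst hkc
      exact hc
    · have := hiso k hkc
      exact (hfin k (by push_cast at hk; omega)).of_iso (asIso (j.f k)).symm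
  · intro k hk
    have hkc : k ≠ a + m := by push_cast at hk; omega
    have := hiso k hkc
    exact (hsum k (by push_cast at hk; omega)).of_iso (asIso (j.f k)).symm

lemma inv_add (S : Set A) (hS : ∀ E ∈ S, FinSupp.{t} E) {K : DerivedCategory A}
    (hK : ∀ J : Type t, DecompAt K J) (a b : ℤ) (h : Inv.{w, t} S K a b 0) (m : ℕ) :
    Inv.{w, t} S K a b m := by
  induction m with
  | zero => exact h
  | succ m ih => exact inv_succ S hS hK a b m ih

variable [HasColimitsOfShape (Discrete ℕ) A] [HasExactColimitsOfShape (Discrete ℕ) A]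
  [HasColimitsOfShape ℕ A] [HasExactColimitsOfShape ℕ A]
  [HasColimitsOfShape (Discrete ℤ) A] [HasExactColimitsOfShape (Discrete ℤ) A]

/-- **Main theorem.**  Let `S` be a set of objects of `A` with the finite support property such that
every object of `A` is a quotient of a coproduct of members of `S`.  Then every object of `D(A)`
with the decomposition property is a retract of the image of a bounded complex whose terms are
finite direct sums of members of `S`. -/
theorem exists_retract (S : Set A) (hS : ∀ E ∈ S, FinSupp.{t} E)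
    (hgen : ∀ X : A, ∃ (Y : A) (π : Y ⟶ X), PSum.{t} S Y ∧ Epi π)
    (K : DerivedCategory A) (hK : ∀ J : Type t, DecompAt K J) (hKN : DecompAt K ℕ)
    (hKZ : DecompAt K ℤ) :
    ∃ (L : CochainComplex A ℤ) (a b : ℤ), (∀ i : ℤ, i < a ∨ b < i → IsZero (L.X i)) ∧
      (∀ i : ℤ, PFin S (L.X i)) ∧ Nonempty (Retract K (Q.obj L)) := by
  let X : CochainComplex A ℤ := Q.objPreimage K
  let e : Q.obj X ≅ K := Q.objObjPreimageIso K
  obtain ⟨b, hb⟩ := exists_isLE X (hKZ.of_iso e.symm)
  obtain ⟨P, hPle, hPS, ⟨e'⟩⟩ := exists_resolution (PSum.{t} S) hgen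
    ⟨0, isZero_zero A, PSum.of_isZero (isZero_zero A)⟩ X b
  obtain ⟨N, g', hg'⟩ := exists_factor_sigmaGE P hKN (e.inv ≫ e'.inv)
  let a : ℤ := -(N : ℤ)
  have h0 : Inv.{w, t} S K a b 0 := by
    refine ⟨sigmaGE P a, g', Q.map (ιGE P a) ≫ e'.hom ≫ e.hom, ?_, ?_, ?_, ?_⟩
    · rw [← Category.assoc, ← hg']
      simp
    · intro k hk
      by_cases hka : k < a
      · exact isZero_sigmaGE_X P a k hka
      · have hkb : b < k := by omega
        have := isIso_ιGE_f P a k (by omega)
        exact IsZero.of_iso (P.isZero_of_isStrictlyLE b k hkb) (asIso ((ιGE P a).f k))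
    · intro k hk
      exact PFin.of_isZero (isZero_sigmaGE_X P a k (by simpa using hk))
    · intro k hk
      have := isIso_ιGE_f P a k (by simpa using hk)
      exact (hPS k).of_iso (asIso ((ιGE P a).f k)).symm
  obtain ⟨L, φ, ψ, hφψ, hz, hfin, -⟩ := inv_add S hS hK a b h0 (b + 1 - a).toNat
  refine ⟨L, a, b, hz, fun i => ?_, ⟨⟨φ, ψ, hφψ⟩⟩⟩
  by_cases hi : i < a ∨ b < i
  · exact PFin.of_isZero (hz i hi)
  · apply hfin
    have := Int.self_le_toNat (b + 1 - a)
    omega

end Groth.Agent.Lib.Helper30.CptMain
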