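import Mathlib
import Groth.Agent.Lib.Helper30.CptRetract

/-!
# Compact objects of `D(R)`: module-level inputs (helper30)
-/

set_option autoImplicit false
set_option linter.unusedSectionVars false
universe w t v u
open CategoryTheory CategoryTheory.Limits

namespace Groth.Agent.Lib.Helper30.CptModule

open Groth.Agent.Lib.Helper30.CptDecomp Groth.Agent.Lib.Helper30.CptSplit
  Groth.Agent.Lib.Helper30.CptMain Groth.Agent.Lib.Helper32.DCoprod DerivedCategory

section FinSupp

variable {R : Type u} [CommRing R]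

/-- every element of a coproduct of modules is killed by the projection to the complement of a
finite set of indices -/
lemma exists_finset_projCompl_apply {Λ : Type u} (G : Λ → ModuleCat.{u} R) (x : (∐ G : ModuleCat.{u} R)) :
    ∃ F : Finset Λ, (projCompl G F).hom x = 0 := by
  classical
  let T : Submodule R (∐ G : ModuleCat.{u} R) := ⨆ l : Λ, LinearMap.range (Sigma.ι G l).hom
  have hT : T = ⊤ := by
    let q : (∐ G : ModuleCat.{u} R) ⟶ ModuleCat.of R ((∐ G : ModuleCat.{u} R) ⧸ T) :=
      ModuleCat.ofHom T.mkQ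
    have hq : q = 0 := by
      apply Sigma.hom_ext
      intro l
      ext y
      change T.mkQ ((Sigma.ι G l).hom y) = 0
      rw [Submodule.mkQ_apply, Submodule.Quotient.mk_eq_zero]
      exact Submodule.mem_iSup_of_mem l ⟨y, rfl⟩
    rw [eq_top_iff]
    intro g _
    have := congrArg (fun z => z.hom g) hq
    change T.mkQ g = 0 at this
    rwa [Submodule.mkQ_apply, Submodule.Quotient.mk_eq_zero] at this
  have hx : x ∈ T := by rw [hT]; trivial
  have mono : ∀ (F F' : Finset Λ), F ⊆ F' → ∀ y : (∐ G : ModuleCat.{u} R),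
      (projCompl G F).hom y = 0 → (projCompl G F').hom y = 0 := by
    intro F F' hFF' y hy
    let φ : ModuleCat.of R R ⟶ ∐ G := ModuleCat.ofHom (LinearMap.toSpanSingleton R _ y)
    have hφ : φ ≫ projCompl G F = 0 := by
      ext
      change (projCompl G F).hom (LinearMap.toSpanSingleton R _ y 1) = 0
      rw [LinearMap.toSpanSingleton_apply_one, hy]
    have := comp_projCompl_eq_zero_of_subset G hFF' φ hφ
    have h1 := congrArg (fun z => z.hom (1 : R)) this
    change (projCompl G F').hom (LinearMap.toSpanSingleton R _ y 1) = 0 at h1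
    rwa [LinearMap.toSpanSingleton_apply_one] at h1
  refine Submodule.iSup_induction (fun l : Λ => LinearMap.range (Sigma.ι G l).hom)
    (motive := fun y => ∃ F : Finset Λ, (projCompl G F).hom y = 0) hx ?_ ?_ ?_
  · rintro l y ⟨z, rfl⟩
    refine ⟨{l}, ?_⟩
    change (Sigma.ι G l ≫ projCompl G {l}).hom z = 0
    rw [ι_projCompl_of_mem G {l} (Finset.mem_singleton_self l)]
    rfl
  · exact ⟨∅, map_zero _⟩
  · rintro y y' ⟨F, hF⟩ ⟨F', hF'⟩
    refine ⟨F ∪ F', ?_⟩
    rw [map_add, mono F _ Finset.subset_union_left y hF,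
      mono F' _ Finset.subset_union_right y' hF', add_zero]

lemma finSupp_self : FinSupp.{u} (ModuleCat.of R R) := by
  intro Λ G f
  obtain ⟨F, hF⟩ := exists_finset_projCompl_apply G (f.hom 1)
  refine ⟨F, ?_⟩
  ext
  exact hF

lemma finSupp_of_epi {N M : ModuleCat.{u} R} (π : N ⟶ M) [Epi π] (h : FinSupp.{u} N) :
    FinSupp.{u} M := by
  intro Λ G f
  obtain ⟨F, hF⟩ := h Λ G (π ≫ f)
  refine ⟨F, ?_⟩
  rw [← cancel_epi π, ← Category.assoc, hF, comp_zero]

lemma finSupp_of_finite (M : ModuleCat.{u} R) [Module.Finite R M] : FinSupp.{u} M := by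
  obtain ⟨n, f, hf⟩ := Module.Finite.exists_fin' R M
  let E : Fin n → ModuleCat.{u} R := fun _ => ModuleCat.of R R
  let π : (⨁ E) ⟶ M := (ModuleCat.biproductIsoPi E).hom ≫ ModuleCat.ofHom f
  have : Epi (ModuleCat.ofHom f) := (ModuleCat.epi_iff_surjective _).2 hf
  have : Epi π := epi_comp _ _
  exact finSupp_of_epi π (FinSupp.biproduct E (fun _ => finSupp_self))

end FinSupp

section Sigma

variable {A : Type u} [Category.{v} A] [Abelian A] [HasDerivedCategory.{w} A]
  {J : Type t} [HasColimitsOfShape (Discrete J) A] [HasExactColimitsOfShape (Discrete J) A]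

/-- The decomposition property can be tested on chain-level coproducts. -/
lemma decompAt_of_sigma (K : DerivedCategory A)
    (h : ∀ (X : J → CochainComplex A ℤ) (x : K ⟶ Q.obj (sigmaCx X)),
      ∃ (F : Finset J) (y : ∀ j, K ⟶ Q.obj (X j)), x = ∑ j ∈ F, y j ≫ Q.map (sigmaι X j)) :
    DecompAt K J := by
  intro E c hc x
  let X : J → CochainComplex A ℤ := fun j => Q.objPreimage (E j)
  let e : ∀ j, Q.obj (X j) ≅ E j := fun j => Q.objObjPreimageIso (E j)
  let c' : Cofan E := Cofan.mk (Q.obj (sigmaCx X)) (fun j => (e j).inv ≫ Q.map (sigmaι X j))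
  have hc' : IsColimit c' := by
    refine Cofan.IsColimit.mk c'
      (fun s => Cofan.IsColimit.desc (isColimitCofanQ X) (fun j => (e j).hom ≫ s.inj j))
      (fun s j => ?_) (fun s m hm => ?_)
    · change ((e j).inv ≫ Q.map (sigmaι X j)) ≫ _ = _
      rw [Category.assoc]
      have := Cofan.IsColimit.fac (isColimitCofanQ X) (fun j => (e j).hom ≫ s.inj j) j
      change Q.map (sigmaι X j) ≫ _ = _ at this
      rw [this, Iso.inv_hom_id_assoc]
    · apply Cofan.IsColimit.hom_ext (isColimitCofanQ X)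
      intro j
      rw [Cofan.IsColimit.fac]
      change Q.map (sigmaι X j) ≫ m = _
      rw [← hm j]
      change _ = (e j).hom ≫ ((e j).inv ≫ Q.map (sigmaι X j)) ≫ m
      rw [Category.assoc, Iso.hom_inv_id_assoc]
  let θ : c.pt ≅ c'.pt := hc.coconePointUniqueUpToIso hc'
  have hθ : ∀ j, c.inj j ≫ θ.hom = c'.inj j := fun j =>
    hc.comp_coconePointUniqueUpToIso_hom hc' ⟨j⟩
  obtain ⟨F, y, hy⟩ := h X (x ≫ θ.hom)
  refine ⟨F, fun j => y j ≫ (e j).hom, ?_⟩
  have hx : x = (x ≫ θ.hom) ≫ θ.inv := by rw [Category.assoc, Iso.hom_inv_id, Category.comp_id]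
  rw [hx, hy, Preadditive.sum_comp]
  refine Finset.sum_congr rfl (fun j _ => ?_)
  have h1 : Q.map (sigmaι X j) ≫ θ.inv = (e j).hom ≫ c.inj j := by
    have h2 : c'.inj j = (e j).inv ≫ Q.map (sigmaι X j) := rfl
    have h3 : c.inj j = c'.inj j ≫ θ.inv := by
      rw [← hθ j, Category.assoc, Iso.hom_inv_id, Category.comp_id]
    rw [h3, h2, Category.assoc, Iso.hom_inv_id_assoc]
  rw [Category.assoc, h1, Category.assoc]

/-- morphisms in the derived category from a K-projective complex come from chain maps -/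
lemma exists_Q_map_eq {P L : CochainComplex A ℤ} [P.IsKProjective] (φ : Q.obj P ⟶ Q.obj L) :
    ∃ f : P ⟶ L, Q.map f = φ := by
  obtain ⟨g, hg⟩ := (CochainComplex.IsKProjective.Qh_map_bijective P
    ((HomotopyCategory.quotient A (ComplexShape.up ℤ)).obj L)).surjective φ
  obtain ⟨f, rfl⟩ := (HomotopyCategory.quotient A (ComplexShape.up ℤ)).map_surjective g
  exact ⟨f, hg⟩

end Sigma

section ChainFin

variable {A : Type u} [Category.{v} A] [Abelian A] [HasCoproducts.{t} A] [HasFiniteBiproducts A]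
  [HasDerivedCategory.{w} A] {J : Type t}

/-- sum of the projection-inclusion idempotents over a finite set of indices -/
noncomputable def sumF (X : J → CochainComplex A ℤ) (F : Finset J) : sigmaCx X ⟶ sigmaCx X :=
  ∑ j ∈ F, sigmaπ X j ≫ sigmaι X j

lemma ι_sumF_of_mem (X : J → CochainComplex A ℤ) (F : Finset J) {l : J} (hl : l ∈ F) :
    sigmaι X l ≫ sumF X F = sigmaι X l := by
  classical
  unfold sumF
  rw [Preadditive.comp_sum, Finset.sum_eq_single l]
  · rw [ι_π_self_assoc]
  · intro j _ hjl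
    rw [ι_π_ne_assoc X (Ne.symm hjl), zero_comp]
  · intro h; exact absurd hl h

lemma ι_sumF_of_not_mem (X : J → CochainComplex A ℤ) (F : Finset J) {l : J} (hl : l ∉ F) :
    sigmaι X l ≫ sumF X F = 0 := by
  unfold sumF
  rw [Preadditive.comp_sum]
  refine Finset.sum_eq_zero (fun j hj => ?_)
  have : l ≠ j := fun h => hl (h ▸ hj)
  rw [ι_π_ne_assoc X this, zero_comp]

lemma sumF_f_add (X : J → CochainComplex A ℤ) (F : Finset J) (k : ℤ) :
    (sumF X F).f k + (projCompl (fun j => (X j).X k) F ≫ inclCompl (fun j => (X j).X k) F :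
      (sigmaCx X).X k ⟶ (sigmaCx X).X k) = 𝟙 ((sigmaCx X).X k) := by
  apply hom_ext_X
  intro l
  rw [Preadditive.comp_add, Category.comp_id, ← HomologicalComplex.comp_f]
  by_cases hl : l ∈ F
  · rw [ι_sumF_of_mem X F hl]
    have : (sigmaι X l).f k ≫ projCompl (fun j => (X j).X k) F = 0 :=
      ι_projCompl_of_mem (fun j => (X j).X k) F hl
    rw [reassoc_of% this, zero_comp, add_zero]
  · rw [ι_sumF_of_not_mem X F hl, HomologicalComplex.zero_f, zero_add]
    have : (sigmaι X l).f k ≫ projCompl (fun j => (X j).X k) F =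
        Sigma.ι (famC (fun j => (X j).X k) F) ⟨l, hl⟩ :=
      ι_projCompl_of_not_mem (fun j => (X j).X k) F hl
    rw [reassoc_of% this]
    exact Sigma.ι_desc (f := famC (fun j => (X j).X k) F)
      (fun l => Sigma.ι (fun j => (X j).X k) l.1) ⟨l, hl⟩

/-- A chain map from a bounded complex whose terms have the finite support property to a termwise
coproduct factors through a finite subcoproduct. -/
theorem exists_finset_eq_comp_sumF (P : CochainComplex A ℤ) (a b : ℤ)
    (hz : ∀ i : ℤ, i < a ∨ b < i → IsZero (P.X i)) (hfs : ∀ i : ℤ, FinSupp.{t} (P.X i))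
    (X : J → CochainComplex A ℤ) (g : P ⟶ sigmaCx X) :
    ∃ F : Finset J, g = g ≫ sumF X F := by
  classical
  choose Fk hFk using fun k : ℤ => hfs k J (fun j => (X j).X k) (g.f k)
  refine ⟨(Finset.Icc a b).biUnion Fk, ?_⟩
  ext k
  by_cases hk : k < a ∨ b < k
  · exact (hz k hk).eq_of_src _ _
  · have hk' : k ∈ Finset.Icc a b := by
      rw [Finset.mem_Icc]; omega
    have h0 : g.f k ≫ projCompl (fun j => (X j).X k) ((Finset.Icc a b).biUnion Fk) = 0 :=
      comp_projCompl_eq_zero_of_subset _ (Finset.subset_biUnion_of_mem Fk hk') _ (hFk k)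
    rw [HomologicalComplex.comp_f]
    have := sumF_f_add X ((Finset.Icc a b).biUnion Fk) k
    calc g.f k = g.f k ≫ 𝟙 _ := (Category.comp_id _).symm
      _ = g.f k ≫ ((sumF X ((Finset.Icc a b).biUnion Fk)).f k +
            (projCompl (fun j => (X j).X k) ((Finset.Icc a b).biUnion Fk) ≫
              inclCompl (fun j => (X j).X k) ((Finset.Icc a b).biUnion Fk) :
              (sigmaCx X).X k ⟶ (sigmaCx X).X k)) := by rw [this]
      _ = g.f k ≫ (sumF X ((Finset.Icc a b).biUnion Fk)).f k := by
          rw [Preadditive.comp_add, reassoc_of% h0, zero_comp, add_zero]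

variable [∀ J : Type t, HasExactColimitsOfShape (Discrete J) A]

/-- A bounded K-projective complex whose terms have the finite support property has the
decomposition property in `D(A)`. -/
theorem decompAt_of_bounded (P : CochainComplex A ℤ) [P.IsKProjective] (a b : ℤ)
    (hz : ∀ i : ℤ, i < a ∨ b < i → IsZero (P.X i)) (hfs : ∀ i : ℤ, FinSupp.{t} (P.X i)) :
    DecompAt (Q.obj P) J := by
  apply decompAt_of_sigma
  intro X x
  obtain ⟨g, rfl⟩ := exists_Q_map_eq x
  obtain ⟨F, hF⟩ := exists_finset_eq_comp_sumF P a b hz hfs X g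
  refine ⟨F, fun j => Q.map (g ≫ sigmaπ X j), ?_⟩
  conv_lhs => rw [hF]
  unfold sumF
  rw [Preadditive.comp_sum, Functor.map_sum]
  refine Finset.sum_congr rfl (fun j _ => ?_)
  rw [← Functor.map_comp, Category.assoc]

end ChainFin

end Groth.Agent.Lib.Helper30.CptModule
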