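import Mathlib
import Groth.Prelude.Def_ModSite
import Groth.Agent.Lib.Helper30.EqFlat
import Groth.Agent.Lib.Helper30.ModEpi
import Groth.Agent.Lib.Helper30.FreeTerminal

/-!
# Local factorisation of maps from finitely presented modules to flat modules
-/

set_option autoImplicit false
universe u
open CategoryTheory Limits Opposite

namespace Groth.Agent.Lib.Helper30.FlatFactor

open Groth.Agent.Lib.Helper30.FreeTerminal Groth.Agent.Lib.Helper30.ModEpi
  Groth.Agent.Lib.Helper30.EqFlat SheafOfModules

noncomputable section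

variable {C : Type u} [SmallCategory C] {J : GrothendieckTopology C} (O : Sheaf J CommRingCat.{u})
  (F H : ModSite.Mod O) (φ : F ⟶ H) (Y : C)

/-- the equational criterion of flatness with arbitrary finite index types. -/
theorem eqFlat_fintype (hH : ModSite.IsFlat H) (U : C) {ι κ : Type u} [Fintype ι] [Fintype κ]
    (A : ι → κ → O.obj.obj (op U)) (s : ι → H.val.obj (op U))
    (hrel : ∀ j, ∑ i, A i j • s i = 0) :
    ∃ S ∈ J U, ∀ ⦃V : C⦄ (g : V ⟶ U), S g →
      ∃ (l : ℕ) (t : Fin l → H.val.obj (op V)) (a : ι → Fin l → O.obj.obj (op V)),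
        (∀ i, H.val.map g.op (s i) = ∑ k, a i k • t k) ∧
        (∀ j k, ∑ i, a i k * (O.obj.map g.op).hom (A i j) = 0) := by
  let eι := Fintype.equivFin ι
  let eκ := Fintype.equivFin κ
  obtain ⟨S, hS, h⟩ := eqFlat O H hH U (fun i j => A (eι.symm i) (eκ.symm j))
    (fun i => s (eι.symm i)) (fun j => by
      rw [← hrel (eκ.symm j)]
      exact Equiv.sum_comp eι.symm (fun i' => A i' (eκ.symm j) • s i'))
  refine ⟨S, hS, fun V g hg => ?_⟩
  obtain ⟨l, t, a, h1, h2⟩ := h g hg
  refine ⟨l, t, fun i k => a (eι i) k, fun i => ?_, fun j k => ?_⟩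
  · have := h1 (eι i)
    rwa [Equiv.symm_apply_apply] at this
  · have := h2 (eκ j) k
    rw [Equiv.symm_apply_apply] at this
    rw [← this]
    exact (Equiv.sum_comp eι (fun i' => a i' k * (O.obj.map g.op).hom (A (eι.symm i') j))).symm.trans
      (Finset.sum_congr rfl (fun i _ => by rw [Equiv.symm_apply_apply])) |>.symm

/-- the terminal object of `C/Y`. -/
abbrev TY : Over Y := Over.mk (𝟙 Y)

def hTY : IsTerminal (TY Y) := Over.mkIdTerminal

variable (P : SheafOfModules.Presentation (F.over Y))

/-- the relations morphism of a presentation. -/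
abbrev rho : free (R := (ModSite.ringSh O).over Y) P.relations.I ⟶
    free (R := (ModSite.ringSh O).over Y) P.generators.I :=
  (freeHomEquiv _).symm P.relations.s ≫ kernel.ι P.generators.π

lemma rho_pi : rho O F Y P ≫ P.generators.π = 0 := by simp

/-- the generators, as sections of `F` over `Y`. -/
def gen (a : P.generators.I) : F.val.obj (op Y) :=
  P.generators.π.val.app (op (TY Y)) (eF a (TY Y))

variable [Fintype P.generators.I] [DecidableEq P.generators.I]

/-- the matrix of relations. -/
def relMat (r : P.relations.I) (a : P.generators.I) : O.obj.obj (op Y) :=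
  (pr (R := (ModSite.ringSh O).over Y) a).val.app (op (TY Y))
    ((rho O F Y P).val.app (op (TY Y)) (eF r (TY Y)))

lemma rel_gen (r : P.relations.I) : ∑ a, relMat O F Y P r a • gen O F Y P a = 0 := by
  have h1 := coords (TY Y) ((rho O F Y P).val.app (op (TY Y)) (eF r (TY Y)))
  have h2 : P.generators.π.val.app (op (TY Y))
      ((rho O F Y P).val.app (op (TY Y)) (eF r (TY Y))) = 0 := by
    have := congrArg (fun v : free P.relations.I ⟶ F.over Y =>
      v.val.app (op (TY Y)) (eF r (TY Y))) (rho_pi O F Y P)
    exact this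
  rw [h1, map_sum] at h2
  refine Eq.trans ?_ h2
  refine Finset.sum_congr rfl (fun a _ => ?_)
  exact ((P.generators.π.val.app (op (TY Y))).hom.map_smul _ _).symm

section OverV

variable {Y} {V : C} (k : V ⟶ Y)

/-- restriction from `C/Y` to `C/V`. -/
abbrev Gk : SheafOfModules.{u} ((ModSite.ringSh O).over Y) ⥤
    SheafOfModules.{u} ((ModSite.ringSh O).over V) :=
  SheafOfModules.overMap (ModSite.ringSh O) k

/-- the image in `C/Y` of the terminal object of `C/V`. -/
abbrev T' : Over Y := (Over.map k).obj (TY V)

/-- the morphism from `T'` to the terminal object of `C/Y`. -/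
abbrev tau : T' k ⟶ TY Y := Over.homMk k (by simp)

/-- the identification of the unit modules. -/
abbrev eta : unit ((ModSite.ringSh O).over V) ≅ (Gk O k).obj (unit ((ModSite.ringSh O).over Y)) :=
  Iso.refl _

variable {I : Type u} [Fintype I]

instance : PreservesColimitsOfShape (Discrete I) (Gk O k) := by
  have : PreservesFiniteColimits (Gk O k) := overMap_preservesFiniteColimits _ k
  infer_instance

/-- morphisms out of the restriction of a finite free module are determined by the images of the
basis elements. -/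
lemma Gfree_hom_ext {N : SheafOfModules.{u} ((ModSite.ringSh O).over V)}
    (v v' : (Gk O k).obj (free I) ⟶ N)
    (h : ∀ a : I, v.val.app (op (TY V)) (eF a (T' k)) = v'.val.app (op (TY V)) (eF a (T' k))) :
    v = v' := by
  rw [← cancel_epi (mapFreeIso (Gk O k) I (eta O k)).hom]
  refine free_hom_ext (hTY V) _ _ (fun a => ?_)
  have e : ∀ w : (Gk O k).obj (free I) ⟶ N,
      ((mapFreeIso (Gk O k) I (eta O k)).hom ≫ w).val.app (op (TY V)) (eF a (TY V)) =
        w.val.app (op (TY V)) (eF a (T' k)) := by
    intro w
    have h1 := ιFree_mapFreeIso_hom (Gk O k) I (eta O k) a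
    have h2 := congrArg (fun z : unit ((ModSite.ringSh O).over V) ⟶ N =>
      z.val.app (op (TY V)) (1 : ((ModSite.ringSh O).over V).obj.obj (op (TY V))))
      (congrArg (fun z => z ≫ w) h1)
    exact h2
  rw [e, e]
  exact h a

/-- the morphism out of the restriction of a finite free module with prescribed values on the
basis. -/
def GfreeDesc (N : SheafOfModules.{u} ((ModSite.ringSh O).over V))
    (x : I → N.val.obj (op (TY V))) : (Gk O k).obj (free I) ⟶ N :=
  (mapFreeIso (Gk O k) I (eta O k)).inv ≫ freeDesc (hTY V) N x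

lemma GfreeDesc_eF (N : SheafOfModules.{u} ((ModSite.ringSh O).over V))
    (x : I → N.val.obj (op (TY V))) (a : I) :
    (GfreeDesc O k N x).val.app (op (TY V)) (eF a (T' k)) = x a := by
  have h1 := map_ιFree_mapFreeIso_inv (Gk O k) I (eta O k) a
  have h2 : (Gk O k).map (ιFree a) ≫ GfreeDesc O k N x =
      (eta O k).inv ≫ unitHom (hTY V) N (x a) := by
    unfold GfreeDesc
    rw [← Category.assoc, h1, Category.assoc, ιFree_freeDesc]
  have h3 := congrArg (fun z : (Gk O k).obj (unit ((ModSite.ringSh O).over Y)) ⟶ N =>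
      z.val.app (op (TY V)) (1 : ((ModSite.ringSh O).over V).obj.obj (op (TY V)))) h2
  exact h3.trans (unitHom_app_one (hTY V) N (x a))

end OverV

section Restrict

variable {Y} {V : C} (k : V ⟶ Y)

omit [Fintype P.generators.I] [DecidableEq P.generators.I] in
lemma pi_eF_T' (a : P.generators.I) :
    P.generators.π.val.app (op (T' k)) (eF a (T' k)) = F.val.map k.op (gen O F Y P a) := by
  rw [← eF_map a (tau k)]
  exact PresheafOfModules.naturality_apply P.generators.π.val (tau k).op (eF a (TY Y))

lemma rho_eF_T' (r : P.relations.I) :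
    (rho O F Y P).val.app (op (T' k)) (eF r (T' k)) =
      ∑ a, (show ((ModSite.ringSh O).over Y).obj.obj (op (T' k)) from
        (O.obj.map k.op).hom (relMat O F Y P r a)) • eF a (T' k) := by
  rw [← eF_map r (tau k)]
  refine (PresheafOfModules.naturality_apply (rho O F Y P).val (tau k).op (eF r (TY Y))).trans ?_
  have h1 := coords (TY Y) ((rho O F Y P).val.app (op (TY Y)) (eF r (TY Y)))
  rw [h1, map_sum]
  refine Finset.sum_congr rfl (fun a _ => ?_)
  rw [← eF_map a (tau k)]
  exact PresheafOfModules.map_smul _ _ _ _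

variable [Fintype P.relations.I]

/-- from local data given by the equational criterion, a factorisation through a finite free
module. -/
theorem exists_factor_of_data {l : ℕ} (t : Fin l → H.val.obj (op V))
    (a' : P.generators.I → Fin l → O.obj.obj (op V))
    (h1 : ∀ a, H.val.map k.op (φ.val.app (op Y) (gen O F Y P a)) = ∑ c, a' a c • t c)
    (h2 : ∀ r c, ∑ a, a' a c * (O.obj.map k.op).hom (relMat O F Y P r a) = 0) :
    ∃ (α : F.over V ⟶ free (R := (ModSite.ringSh O).over V) (ULift.{u} (Fin l)))
      (β : free (R := (ModSite.ringSh O).over V) (ULift.{u} (Fin l)) ⟶ H.over V),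
      α ≫ β = (SheafOfModules.overFunctor (ModSite.ringSh O) V).map φ := by
  let L := free (R := (ModSite.ringSh O).over V) (ULift.{u} (Fin l))
  let x : P.generators.I → L.val.obj (op (TY V)) := fun a =>
    ∑ c : Fin l, (show ((ModSite.ringSh O).over V).obj.obj (op (TY V)) from a' a c) •
      eF (R := (ModSite.ringSh O).over V) (ULift.up c) (TY V)
  let α₀ := GfreeDesc O k L x
  have hα₀ : (Gk O k).map (rho O F Y P) ≫ α₀ = 0 := by
    refine Gfree_hom_ext O k _ _ (fun r => ?_)
    have e1 : ((Gk O k).map (rho O F Y P) ≫ α₀).val.app (op (TY V)) (eF r (T' k)) =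
        α₀.val.app (op (TY V)) ((rho O F Y P).val.app (op (T' k)) (eF r (T' k))) := rfl
    rw [e1, rho_eF_T' O F P k r]
    have e2 : ∀ (cc : P.generators.I → ((ModSite.ringSh O).over V).obj.obj (op (TY V))),
        α₀.val.app (op (TY V)) (∑ a, (show ((ModSite.ringSh O).over Y).obj.obj (op (T' k)) from
          cc a) • eF a (T' k)) = ∑ a, cc a • x a := by
      intro cc
      rw [map_sum]
      refine Finset.sum_congr rfl (fun a _ => ?_)
      refine ((α₀.val.app (op (TY V))).hom.map_smul (cc a) (eF a (T' k))).trans ?_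
      rw [GfreeDesc_eF]
    refine (e2 (fun a => (O.obj.map k.op).hom (relMat O F Y P r a))).trans ?_
    have e3 : ∀ c : Fin l, ∑ a, (show ((ModSite.ringSh O).over V).obj.obj (op (TY V)) from
        (O.obj.map k.op).hom (relMat O F Y P r a)) *
        (show ((ModSite.ringSh O).over V).obj.obj (op (TY V)) from a' a c) = 0 := by
      intro c
      refine Eq.trans ?_ (h2 r c)
      refine Finset.sum_congr rfl (fun a _ => ?_)
      exact mul_comm (G := O.obj.obj (op V)) _ _
    have e4 : ∑ a, (show ((ModSite.ringSh O).over V).obj.obj (op (TY V)) from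
        (O.obj.map k.op).hom (relMat O F Y P r a)) • x a = 0 := by
      simp only [x, Finset.smul_sum, smul_smul]
      rw [Finset.sum_comm]
      refine Finset.sum_eq_zero (fun c _ => ?_)
      rw [← Finset.sum_smul, e3 c, zero_smul]
    exact e4
  have hcol : IsColimit ((CokernelCofork.ofπ P.generators.π (rho_pi O F Y P)).map (Gk O k)) :=
    CokernelCofork.mapIsColimit _ P.isColimit (Gk O k)
  let d : (Gk O k).obj (F.over Y) ⟶ L := hcol.desc (CokernelCofork.ofπ α₀ hα₀)
  have hd : (Gk O k).map P.generators.π ≫ d = α₀ :=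
    hcol.fac (CokernelCofork.ofπ α₀ hα₀) WalkingParallelPair.one
  let e : (Gk O k).obj (F.over Y) ≅ F.over V :=
    (SheafOfModules.overFunctorMap (ModSite.ringSh O) k).app F
  let β : L ⟶ H.over V := freeDesc (hTY V) (H.over V) (fun c => t c.down)
  refine ⟨e.inv ≫ d, β, ?_⟩
  rw [Category.assoc, Iso.inv_comp_eq]
  have hepi : Epi ((Gk O k).map P.generators.π) := by
    have : Epi P.generators.π := P.generators.epi
    infer_instance
  rw [← cancel_epi ((Gk O k).map P.generators.π), ← Category.assoc, hd]
  refine Gfree_hom_ext O k _ _ (fun a => ?_)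
  have l1 : (α₀ ≫ β).val.app (op (TY V)) (eF a (T' k)) =
      β.val.app (op (TY V)) (α₀.val.app (op (TY V)) (eF a (T' k))) := rfl
  have l2 : β.val.app (op (TY V)) (x a) = ∑ c, a' a c • t c := by
    simp only [x]
    rw [map_sum]
    refine Finset.sum_congr rfl (fun c _ => ?_)
    refine ((β.val.app (op (TY V))).hom.map_smul _ _).trans ?_
    have := freeDesc_eF (hTY V) (H.over V) (fun c : ULift.{u} (Fin l) => t c.down) (ULift.up c)
    rw [this]
    rfl
  have r1 : ((Gk O k).map P.generators.π ≫ e.hom ≫
      (SheafOfModules.overFunctor (ModSite.ringSh O) V).map φ).val.app (op (TY V))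
        (eF a (T' k)) =
      φ.val.app (op V) (P.generators.π.val.app (op (T' k)) (eF a (T' k))) := rfl
  rw [l1, GfreeDesc_eF, l2, r1, pi_eF_T', ← h1]
  exact (PresheafOfModules.naturality_apply φ.val k.op _).symm

end Restrict

section Core

omit [Fintype P.generators.I] [DecidableEq P.generators.I] in
/-- a morphism from a module with a finite presentation over `C/Y` to a flat module factors,
locally on `Y`, through a finite free module. -/
theorem core (hH : ModSite.IsFlat H) [P.IsFinite] :
    ∃ S ∈ J Y, ∀ ⦃V : C⦄ (k : V ⟶ Y), S k →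
      ∃ (l : ℕ) (α : F.over V ⟶ free (R := (ModSite.ringSh O).over V) (ULift.{u} (Fin l)))
        (β : free (R := (ModSite.ringSh O).over V) (ULift.{u} (Fin l)) ⟶ H.over V),
        α ≫ β = (SheafOfModules.overFunctor (ModSite.ringSh O) V).map φ := by
  classical
  let _ : Fintype P.generators.I := Fintype.ofFinite _
  let _ : Fintype P.relations.I := Fintype.ofFinite _
  obtain ⟨S, hS, h⟩ := eqFlat_fintype O H hH Y
    (fun (a : P.generators.I) (r : P.relations.I) => relMat O F Y P r a)
    (fun a => φ.val.app (op Y) (gen O F Y P a)) (fun r => by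
      have h0 := rel_gen O F Y P r
      have h1 := congrArg (fun w => φ.val.app (op Y) w) h0
      simp only [map_sum, map_zero] at h1
      refine Eq.trans ?_ h1
      refine Finset.sum_congr rfl (fun a _ => ?_)
      exact ((φ.val.app (op Y)).hom.map_smul _ _).symm)
  refine ⟨S, hS, fun V k hk => ?_⟩
  obtain ⟨l, t, a', h1, h2⟩ := h k hk
  obtain ⟨α, β, hαβ⟩ := exists_factor_of_data O F H φ P k t a' h1 h2
  exact ⟨l, α, β, hαβ⟩

end Core

end

end Groth.Agent.Lib.Helper30.FlatFactor
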