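import Mathlib

/-!
Shared lemmas:
* the kernel of a surjection of a finite projective module onto a projective module is finite
  projective;
* the localization of a kernel is the kernel of the localized map (as modules over the localized
  ring).
-/

set_option autoImplicit false
universe u

namespace Groth.Agent.Lib.Helper30

theorem ker_finite_projective_of_surjective {T : Type u} [CommRing T] {A B : Type u}
    [AddCommGroup A] [Module T A] [AddCommGroup B] [Module T B] [Module.Finite T A]
    [Module.Projective T A] [Module.Projective T B] (Φ : A →ₗ[T] B) (hΦ : Function.Surjective Φ) :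
    Module.Finite T (LinearMap.ker Φ) ∧ Module.Projective T (LinearMap.ker Φ) := by
  obtain ⟨σ, hσ⟩ := Φ.exists_rightInverse_of_surjective (LinearMap.range_eq_top.mpr hΦ)
  let s : A →ₗ[T] LinearMap.ker Φ :=
    (LinearMap.id - σ.comp Φ).codRestrict (LinearMap.ker Φ) (fun x => by
      rw [LinearMap.mem_ker, LinearMap.sub_apply, map_sub, LinearMap.id_apply, LinearMap.comp_apply]
      have : Φ (σ (Φ x)) = Φ x := LinearMap.congr_fun hσ (Φ x)
      rw [this, sub_self])
  have hs : s.comp (LinearMap.ker Φ).subtype = LinearMap.id := by
    ext x
    have hx : Φ (x : A) = 0 := x.2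
    simp [s, hx]
  have hsurj : Function.Surjective s := by
    intro x
    exact ⟨(x : A), LinearMap.congr_fun hs x⟩
  exact ⟨Module.Finite.of_surjective s hsurj, Module.Projective.of_split _ s hs⟩

/-- Localization commutes with kernels, as modules over the localized ring. -/
noncomputable def localizedKerEquiv {R : Type u} [CommRing R] (S : Submonoid R) {M N : Type u}
    [AddCommGroup M] [Module R M] [AddCommGroup N] [Module R N] (φ : M →ₗ[R] N) :
    LocalizedModule S (LinearMap.ker φ) ≃ₗ[Localization S]
      LinearMap.ker (LocalizedModule.map S φ) :=
  (Submodule.localizedEquiv S (LinearMap.ker φ)).symm ≪≫ₗ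
    LinearEquiv.ofEq _ _ (LinearMap.localized'_ker_eq_ker_localizedMap (Localization S) S
      (LocalizedModule.mkLinearMap S M) (LocalizedModule.mkLinearMap S N) φ)

end Groth.Agent.Lib.Helper30
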