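import Mathlib

/-!
Shared lemma: the localization of an `R`-algebra `S` at the image of `R ∖ p` is the localization of
`S` at a prime `q` over `p` as soon as every prime of `S` disjoint from that image lies below `q`.
-/

set_option autoImplicit false
universe u

namespace Groth.Agent.Lib.Helper30

theorem isLocalization_atPrime_of_forall_le {R S : Type u} [CommRing R] [CommRing S] [Algebra R S]
    (p : Ideal R) [p.IsPrime] (q : Ideal S) [q.IsPrime] [q.LiesOver p]
    (h : ∀ q' : Ideal S, q'.IsPrime →
      Disjoint ((Algebra.algebraMapSubmonoid S p.primeCompl : Submonoid S) : Set S) (q' : Set S) →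
      q' ≤ q) :
    IsLocalization.AtPrime (Localization (Algebra.algebraMapSubmonoid S p.primeCompl)) q := by
  set T := Algebra.algebraMapSubmonoid S p.primeCompl with hT
  have h₁ : T ≤ q.primeCompl := by
    rintro t ⟨r, hr, rfl⟩ hmem
    apply hr
    have : r ∈ q.under R := hmem
    rwa [← Ideal.over_def q p] at this
  refine IsLocalization.of_le T q.primeCompl h₁ ?_
  intro s hs
  by_contra hnu
  obtain ⟨m, hm, hsm⟩ := exists_max_ideal_of_mem_nonunits
    (show algebraMap S (Localization T) s ∈ nonunits (Localization T) from hnu)
  have hprime := (IsLocalization.isPrime_iff_isPrime_disjoint T (Localization T) m).mp hm.isPrime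
  have hle := h (m.under S) hprime.1 hprime.2
  exact hs (hle hsm)

end Groth.Agent.Lib.Helper30
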