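import Mathlib

/-!
# Formal base-change identities for adjoint pairs (helper30)

Abstract setting: functors `F : A ⥤ B`, `F' : A' ⥤ B'`, `G : B' ⥤ B`, `G' : A' ⥤ A` with
`e : G' ⋙ F ≅ F' ⋙ G`, right adjoints `F ⊣ a`, `F' ⊣ a'` and left adjoints `L ⊣ G`, `L' ⊣ G'`.
* `xi`, `bcMap`, `bcPush`: the comparison maps (same shape as `Dual3.xi`, `Dual3.bcMap`,
  `Dual3.bcPush`).
* `trace_compat`: `bcPush (a K) ≫ F'(bcMap K) ≫ ε'_{L K} = L(ε_K)`.
* `unit_compat`: `η'_{L' M} = L'(η_M) ≫ bcMap (F M) ≫ a'(bcPush M)`.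
-/

set_option autoImplicit false
universe v₁ v₂ v₃ v₄ u₁ u₂ u₃ u₄
open CategoryTheory

namespace Groth.Agent.Lib.Helper30.MateBC

variable {A : Type u₁} [Category.{v₁} A] {B : Type u₂} [Category.{v₂} B]
  {A' : Type u₃} [Category.{v₃} A'] {B' : Type u₄} [Category.{v₄} B']
  {F : A ⥤ B} {F' : A' ⥤ B'} {G : B' ⥤ B} {G' : A' ⥤ A}
  {a : B ⥤ A} {a' : B' ⥤ A'} {L : B ⥤ B'} {L' : A ⥤ A'}

/-- `ξ_M : G' a' M ⟶ a G M`. -/
def xi (adj : F ⊣ a) (adj' : F' ⊣ a') (e : G' ⋙ F ≅ F' ⋙ G) (M : B') :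
    G'.obj (a'.obj M) ⟶ a.obj (G.obj M) :=
  (adj.homEquiv _ _) (e.hom.app (a'.obj M) ≫ G.map (adj'.counit.app M))

/-- the base-change map `L' a K ⟶ a' L K`. -/
noncomputable def bcMap (adj : F ⊣ a) (adj' : F' ⊣ a') (e : G' ⋙ F ≅ F' ⋙ G)
    (adjg : L ⊣ G) (adjg' : L' ⊣ G') (K : B) (hξ : IsIso (xi adj adj' e (L.obj K))) :
    L'.obj (a.obj K) ⟶ a'.obj (L.obj K) :=
  haveI := hξ
  L'.map (a.map (adjg.unit.app K)) ≫ L'.map (inv (xi adj adj' e (L.obj K))) ≫
    adjg'.counit.app (a'.obj (L.obj K))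

/-- the base-change map `L F K ⟶ F' L' K`. -/
def bcPush (e : G' ⋙ F ≅ F' ⋙ G) (adjg : L ⊣ G) (adjg' : L' ⊣ G') (K : A) :
    L.obj (F.obj K) ⟶ F'.obj (L'.obj K) :=
  (adjg.homEquiv _ _).symm (F.map (adjg'.unit.app K) ≫ e.hom.app (L'.obj K))

variable (adj : F ⊣ a) (adj' : F' ⊣ a') (e : G' ⋙ F ≅ F' ⋙ G) (adjg : L ⊣ G) (adjg' : L' ⊣ G')

lemma xi_eq (M : B') :
    xi adj adj' e M = adj.unit.app _ ≫ a.map (e.hom.app (a'.obj M) ≫ G.map (adj'.counit.app M)) := by
  simp [xi, Adjunction.homEquiv_unit]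

lemma map_xi_counit (M : B') :
    F.map (xi adj adj' e M) ≫ adj.counit.app _ = e.hom.app (a'.obj M) ≫ G.map (adj'.counit.app M) := by
  have := (adj.homEquiv _ _).symm_apply_apply (e.hom.app (a'.obj M) ≫ G.map (adj'.counit.app M))
  rw [Adjunction.homEquiv_counit] at this
  exact this

/-- `η^{g'}_{aK} ≫ G'(bcMap K) = a(η^g_K) ≫ ξ⁻¹` -/
lemma unit_comp_map_bcMap (K : B) (hξ : IsIso (xi adj adj' e (L.obj K))) :
    adjg'.unit.app (a.obj K) ≫ G'.map (bcMap adj adj' e adjg adjg' K hξ) =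
      a.map (adjg.unit.app K) ≫ inv (xi adj adj' e (L.obj K)) := by
  have h1 := adjg'.unit.naturality (a.map (adjg.unit.app K) ≫ inv (xi adj adj' e (L.obj K)))
  simp only [Functor.id_obj, Functor.id_map, Functor.comp_obj, Functor.comp_map] at h1
  unfold bcMap
  rw [← Functor.map_comp_assoc, G'.map_comp, ← Category.assoc, ← h1, Category.assoc,
    adjg'.right_triangle_components, Category.comp_id]

theorem trace_compat (K : B) (hξ : IsIso (xi adj adj' e (L.obj K))) :
    bcPush e adjg adjg' (a.obj K) ≫ F'.map (bcMap adj adj' e adjg adjg' K hξ) ≫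
      adj'.counit.app (L.obj K) = L.map (adj.counit.app K) := by
  apply (adjg.homEquiv _ _).injective
  rw [Adjunction.homEquiv_naturality_right]
  unfold bcPush
  rw [Equiv.apply_symm_apply]
  rw [Adjunction.homEquiv_unit]
  have h2 := e.hom.naturality (bcMap adj adj' e adjg adjg' K hξ)
  simp only [Functor.comp_obj, Functor.comp_map] at h2
  rw [G.map_comp, Category.assoc, ← reassoc_of% h2, ← F.map_comp_assoc,
    unit_comp_map_bcMap, F.map_comp, Category.assoc, ← map_xi_counit adj adj' e (L.obj K),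
    ← F.map_comp_assoc (inv _), IsIso.inv_hom_id, F.map_id, Category.id_comp]
  have h3 := adj.counit.naturality (adjg.unit.app K)
  simp only [Functor.comp_obj, Functor.id_obj, Functor.comp_map, Functor.id_map] at h3
  rw [h3]
  have h4 := adjg.unit.naturality (adj.counit.app K)
  simp only [Functor.comp_obj, Functor.id_obj, Functor.comp_map, Functor.id_map] at h4
  exact h4

lemma xi_naturality {M N : B'} (φ : M ⟶ N) :
    G'.map (a'.map φ) ≫ xi adj adj' e N = xi adj adj' e M ≫ a.map (G.map φ) := by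
  rw [xi_eq, xi_eq]
  have h1 := adj.unit.naturality (G'.map (a'.map φ))
  simp only [Functor.id_obj, Functor.id_map, Functor.comp_obj, Functor.comp_map] at h1
  rw [← Category.assoc, h1, Category.assoc, Category.assoc, ← a.map_comp, ← a.map_comp]
  congr 2
  have h2 := e.hom.naturality (a'.map φ)
  simp only [Functor.comp_obj, Functor.comp_map] at h2
  rw [← Category.assoc, h2, Category.assoc, Category.assoc, ← G.map_comp, ← G.map_comp]
  congr 2
  exact adj'.counit.naturality φ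

theorem unit_compat (M : A) (hξ : IsIso (xi adj adj' e (L.obj (F.obj M))))
    (hξ' : IsIso (xi adj adj' e (F'.obj (L'.obj M)))) :
    adj'.unit.app (L'.obj M) = L'.map (adj.unit.app M) ≫
      bcMap adj adj' e adjg adjg' (F.obj M) hξ ≫ a'.map (bcPush e adjg adjg' M) := by
  apply (adjg'.homEquiv _ _).injective
  rw [Adjunction.homEquiv_unit, Adjunction.homEquiv_unit]
  -- right hand side
  have hR : adjg'.unit.app M ≫ G'.map (L'.map (adj.unit.app M) ≫
      bcMap adj adj' e adjg adjg' (F.obj M) hξ ≫ a'.map (bcPush e adjg adjg' M)) =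
      adj.unit.app M ≫ a.map (adjg.unit.app (F.obj M)) ≫ a.map (G.map (bcPush e adjg adjg' M)) ≫
        inv (xi adj adj' e (F'.obj (L'.obj M))) := by
    have h1 := adjg'.unit.naturality (adj.unit.app M)
    simp only [Functor.id_obj, Functor.id_map, Functor.comp_obj, Functor.comp_map] at h1
    rw [G'.map_comp, G'.map_comp, ← Category.assoc, ← h1, Category.assoc,
      ← Category.assoc (adjg'.unit.app _), unit_comp_map_bcMap, Category.assoc]
    congr 2
    rw [IsIso.eq_comp_inv, Category.assoc, xi_naturality, IsIso.inv_hom_id_assoc]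
  rw [hR]
  -- cancel the isomorphism `ξ`
  rw [← Category.assoc, ← Category.assoc, IsIso.eq_comp_inv]
  -- `η^g ≫ G(bcPush)`
  have h2 : adjg.unit.app (F.obj M) ≫ G.map (bcPush e adjg adjg' M) =
      F.map (adjg'.unit.app M) ≫ e.hom.app (L'.obj M) := by
    have := (adjg.homEquiv _ _).apply_symm_apply
      (F.map (adjg'.unit.app M) ≫ e.hom.app (L'.obj M))
    rw [Adjunction.homEquiv_unit] at this
    exact this
  rw [Category.assoc (adj.unit.app M), ← a.map_comp, h2, xi_eq]
  have h3 := adj.unit.naturality (adjg'.unit.app M ≫ G'.map (adj'.unit.app (L'.obj M)))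
  simp only [Functor.id_obj, Functor.id_map, Functor.comp_obj, Functor.comp_map] at h3
  rw [Category.assoc] at h3
  rw [Category.assoc, reassoc_of% h3, ← a.map_comp]
  congr 2
  have h4 := e.hom.naturality (adj'.unit.app (L'.obj M))
  simp only [Functor.comp_obj, Functor.comp_map] at h4
  rw [F.map_comp, Category.assoc, reassoc_of% h4,
    ← G.map_comp, adj'.left_triangle_components, G.map_id, Category.comp_id]

end Groth.Agent.Lib.Helper30.MateBC
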