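import Mathlib
import Groth.Agent.Lib.Helper30.ModTensorAdj

/-!
# Associativity of the tensor product of sheaves of modules (as functors in the first variable)
-/

set_option autoImplicit false
universe u
open CategoryTheory MonoidalCategory Limits Opposite
open Groth.Agent.Lib.Helper30.ModTensor Groth.Agent.Lib.Helper30.ModTensorAdj

namespace Groth.Agent.Lib.Helper30.ModAssoc

variable {C : Type u} [SmallCategory C] {J : GrothendieckTopology C} (O : Sheaf J CommRingCat.{u})
  (G F : ModSite.Mod O)

/-- the functor `M ↦ sheafify (M ⊗ (G ⊗ F))` (presheaf tensor products). -/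
noncomputable abbrev tripleFunctor : ModSite.Mod O ⥤ ModSite.Mod O where
  obj M := (shf O).obj (valObj O M ⊗ (valObj O G ⊗ valObj O F))
  map f := (shf O).map (valHom O f ▷ (valObj O G ⊗ valObj O F))
  map_id M := by
    have : valHom O (𝟙 M) = 𝟙 (valObj O M) := rfl
    rw [this, id_whiskerRight, CategoryTheory.Functor.map_id]
  map_comp f g := by
    have : valHom O (f ≫ g) = valHom O f ≫ valHom O g := rfl
    rw [this, comp_whiskerRight, CategoryTheory.Functor.map_comp]

/-- `G ⊗_O F` -/
noncomputable abbrev GF : ModSite.Mod O := ((ModSite.tensorBi O).obj G).obj F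

/-- `sheafify (M ⊗ (G ⊗ F)) ≅ M ⊗_O (G ⊗_O F)` -/
noncomputable def iso₁ : tripleFunctor O G F ≅ (ModSite.tensorBi O).flip.obj (GF O G F) :=
  NatIso.ofComponents
    (fun M => @asIso _ _ _ _
      ((shf O).map (valObj O M ◁ shfUnit (valObj O G ⊗ valObj O F)))
      (isIso_shf_map_whiskerLeft _ _ (isIso_shf_map_unit _)))
    (by
      intro M M' f
      show (shf O).map (valHom O f ▷ (valObj O G ⊗ valObj O F)) ≫
          (shf O).map (valObj O M' ◁ shfUnit (valObj O G ⊗ valObj O F)) =
        (shf O).map (valObj O M ◁ shfUnit (valObj O G ⊗ valObj O F)) ≫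
          (shf O).map (valHom O f ▷ valObj O (GF O G F))
      rw [← Functor.map_comp, ← Functor.map_comp]
      exact congrArg (shf O).map (whisker_exchange (valHom O f)
        (shfUnit (valObj O G ⊗ valObj O F))).symm)

/-- `sheafify (M ⊗ (G ⊗ F)) ≅ (M ⊗_O G) ⊗_O F` -/
noncomputable def iso₂ : tripleFunctor O G F ≅
    (ModSite.tensorBi O).flip.obj G ⋙ (ModSite.tensorBi O).flip.obj F :=
  NatIso.ofComponents
    (fun M => (shf O).mapIso (α_ (valObj O M) (valObj O G) (valObj O F)).symm ≪≫
      @asIso _ _ _ _
        ((shf O).map (shfUnit (valObj O M ⊗ valObj O G) ▷ valObj O F))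
        (isIso_shf_map_whiskerRight _ _ (isIso_shf_map_unit _)))
    (by
      intro M M' f
      show (shf O).map (valHom O f ▷ (valObj O G ⊗ valObj O F)) ≫
          ((shf O).map (α_ (valObj O M') (valObj O G) (valObj O F)).inv ≫
            (shf O).map (shfUnit (valObj O M' ⊗ valObj O G) ▷ valObj O F)) =
        ((shf O).map (α_ (valObj O M) (valObj O G) (valObj O F)).inv ≫
            (shf O).map (shfUnit (valObj O M ⊗ valObj O G) ▷ valObj O F)) ≫
          (shf O).map (valHom O ((shf O).map (valHom O f ▷ valObj O G)) ▷ valObj O F)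
      have hnat : (valHom O f ▷ valObj O G) ≫ shfUnit (valObj O M' ⊗ valObj O G) =
          shfUnit (valObj O M ⊗ valObj O G) ≫
            valHom O ((shf O).map (valHom O f ▷ valObj O G)) :=
        (PresheafOfModules.sheafificationAdjunction.{u} (𝟙 (RS O).obj)).unit.naturality
          (valHom O f ▷ valObj O G)
      have h1 : valHom O f ▷ (valObj O G ⊗ valObj O F) ≫
            (α_ (valObj O M') (valObj O G) (valObj O F)).inv ≫
              shfUnit (valObj O M' ⊗ valObj O G) ▷ valObj O F =
          (α_ (valObj O M) (valObj O G) (valObj O F)).inv ≫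
            shfUnit (valObj O M ⊗ valObj O G) ▷ valObj O F ≫
              valHom O ((shf O).map (valHom O f ▷ valObj O G)) ▷ valObj O F := by
        rw [← Category.assoc, associator_inv_naturality_left, Category.assoc,
          ← comp_whiskerRight, hnat, comp_whiskerRight]
      rw [← Functor.map_comp, ← Functor.map_comp, ← Functor.map_comp, ← Functor.map_comp,
        Category.assoc]
      exact congrArg (shf O).map h1)

/-- `M ⊗_O (G ⊗_O F) ≅ (M ⊗_O G) ⊗_O F`, naturally in `M`. -/
noncomputable def assocIso : (ModSite.tensorBi O).flip.obj (GF O G F) ≅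
    (ModSite.tensorBi O).flip.obj G ⋙ (ModSite.tensorBi O).flip.obj F :=
  (iso₁ O G F).symm ≪≫ iso₂ O G F

end Groth.Agent.Lib.Helper30.ModAssoc
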