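import Mathlib
import Groth.Prelude.Def_ModSite
import Groth.Agent.Lib.Helper30.ModAssoc
import Groth.Agent.Lib.Helper30.ExtZeroFlat

/-!
# Invertible modules on a small ringed site (formal consequences of associativity, symmetry and the
unit of the tensor product)
-/

set_option autoImplicit false
universe u
open CategoryTheory Limits Opposite

namespace Groth.Agent.Lib.Helper30.ModInvertible

open Groth.Agent.Lib.Helper30.ModTensorAdj Groth.Agent.Lib.Helper30.ModAssoc
  Groth.Agent.Lib.Helper30.ExtZero

variable {C : Type u} [SmallCategory C] {J : GrothendieckTopology C} (O : Sheaf J CommRingCat.{u})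

/-- `(L ⊗ N) ⊗ - ≅ N ⊗ (L ⊗ -)`... as functors: `(L ⊗ N) ⊗ - ≅ (- ⊗ L) ⊗ N`. -/
noncomputable def objTensorIso (L N : ModSite.Mod O) :
    (ModSite.tensorBi O).obj (((ModSite.tensorBi O).obj L).obj N) ≅
      (ModSite.tensorBi O).obj L ⋙ (ModSite.tensorBi O).obj N :=
  tensorBiSymm O _ ≪≫ assocIso O L N ≪≫
    Functor.isoWhiskerRight (tensorBiSymm O L).symm _ ≪≫
    Functor.isoWhiskerLeft _ (tensorBiSymm O N).symm

lemma isEquivalence_obj_tensor (L N : ModSite.Mod O)
    (hL : ((ModSite.tensorBi O).obj L).IsEquivalence)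
    (hN : ((ModSite.tensorBi O).obj N).IsEquivalence) :
    ((ModSite.tensorBi O).obj (((ModSite.tensorBi O).obj L).obj N)).IsEquivalence :=
  Functor.isEquivalence_of_iso (objTensorIso O L N).symm

lemma isEquivalence_flip_obj (L : ModSite.Mod O)
    (hL : ((ModSite.tensorBi O).obj L).IsEquivalence) :
    ((ModSite.tensorBi O).flip.obj L).IsEquivalence :=
  Functor.isEquivalence_of_iso (tensorBiSymm O L)

variable {O} in
lemma isEquivalence_sheafHom (L : ModSite.Mod O) [ModSite.HasSheafHom L]
    (hL : ((ModSite.tensorBi O).obj L).IsEquivalence) : (ModSite.sheafHom L).IsEquivalence := by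
  have := isEquivalence_flip_obj O L hL
  exact (ModSite.sheafHomAdj L).isEquivalence_right_of_isEquivalence_left

variable {O} in
lemma isIso_counit_app (L : ModSite.Mod O) [ModSite.HasSheafHom L]
    (hL : ((ModSite.tensorBi O).obj L).IsEquivalence) (M : ModSite.Mod O) :
    IsIso ((ModSite.sheafHomAdj L).counit.app M) := by
  have := isEquivalence_sheafHom L hL
  infer_instance

variable {O} in
/-- the dual of an invertible module is invertible. -/
lemma isEquivalence_obj_dual (L : ModSite.Mod O) [ModSite.HasSheafHom L]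
    (hL : ((ModSite.tensorBi O).obj L).IsEquivalence) :
    ((ModSite.tensorBi O).obj ((ModSite.sheafHom L).obj (ModSite.unit O))).IsEquivalence := by
  have hT := isEquivalence_flip_obj O L hL
  have hH := isEquivalence_sheafHom L hL
  have hc := isIso_counit_app L hL (ModSite.unit O)
  -- `L' ⊗ L ≅ O` with `L' = Hom(L, O)`
  let L' := (ModSite.sheafHom L).obj (ModSite.unit O)
  let e : ((ModSite.tensorBi O).flip.obj L).obj L' ≅ ModSite.unit O :=
    asIso ((ModSite.sheafHomAdj L).counit.app (ModSite.unit O))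
  -- `(- ⊗ L') ⊗ L ≅ - ⊗ (L' ⊗ L) ≅ - ⊗ O ≅ id`
  let i1 : (ModSite.tensorBi O).flip.obj L' ⋙ (ModSite.tensorBi O).flip.obj L ≅
      𝟭 (ModSite.Mod O) :=
    (assocIso O L' L).symm ≪≫ (ModSite.tensorBi O).flip.mapIso e ≪≫ tensorUnitIso O
  have h1 : ((ModSite.tensorBi O).flip.obj L' ⋙ (ModSite.tensorBi O).flip.obj L).IsEquivalence :=
    Functor.isEquivalence_of_iso i1.symm
  have h2 : ((ModSite.tensorBi O).flip.obj L').IsEquivalence :=
    Functor.isEquivalence_of_comp_right _ ((ModSite.tensorBi O).flip.obj L)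
  exact Functor.isEquivalence_of_iso (tensorBiSymm O L').symm

end Groth.Agent.Lib.Helper30.ModInvertible
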