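import Mathlib
import Groth.Agent.Lib.Helper30.PerfRegular
import Groth.Agent.Lib.Helper49.StalkExact
import Groth.Agent.Lib.Helper49.StalkNbhd

/-!
# Perfect objects with supports: dévissage

* `support_subset_of_mono`, `support_subset_of_epi`, `support_X₂_subset`.
* `cohSuppP X Y'`: coherent modules with support in `Y'`, a thick class on locally Noetherian `X`.
* `isPerfect_of_bounded_of_homology`: if every module in a class `Q` (closed under isomorphisms,
  containing zero objects) is perfect when placed in degree `0`, then every bounded object whose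
  cohomology sheaves lie in `Q` is perfect.
-/

set_option autoImplicit false
universe u
open CategoryTheory Limits Opposite TopologicalSpace AlgebraicGeometry Pretriangulated ZeroObject
attribute [local instance] HasDerivedCategory.standard

namespace Groth.Agent.Lib.Helper30.PerfSupport
open Groth.Agent.Lib.Helper30.PerfRestrict Groth.Agent.Lib.Helper30.PCTriangle
open Groth.Agent.Lib.Helper30.PCSummand Groth.Agent.Lib.Helper30.SinglePC
open Groth.Agent.Lib.Helper30.PerfNoeth Groth.Agent.Lib.Helper30.PCNoeth
open Groth.Agent.Lib.Helper30.PerfTriangle Groth.Agent.Lib.Helper30.PerfRegular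
open Groth.Agent.Lib.Helper49 Groth.Agent.Lib.Helper6 Groth.Agent.Lib.Helper16

noncomputable section

variable {X : Scheme.{u}}

lemma support_subset_of_mono {M N : X.Modules} (φ : M ⟶ N) [Mono φ] :
    CohB1.support M ⊆ CohB1.support N := by
  intro x hx hN
  exact hx (Function.Injective.subsingleton (stalkMap_injective_of_mono φ x))

lemma support_subset_of_epi {M N : X.Modules} (φ : M ⟶ N) [Epi φ] :
    CohB1.support N ⊆ CohB1.support M := by
  intro x hx hM
  exact hx (Function.Surjective.subsingleton (stalkMap_surjective_of_epi φ x))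

lemma support_X₂_subset (S : ShortComplex X.Modules) (hS : S.ShortExact) :
    CohB1.support S.X₂ ⊆ CohB1.support S.X₁ ∪ CohB1.support S.X₃ := by
  intro x hx
  by_contra hne
  rw [Set.mem_union, not_or] at hne
  obtain ⟨h1, h3⟩ := hne
  have h1' : Subsingleton (S.X₁.presheaf.stalk x) := not_not.mp h1
  have h3' : Subsingleton (S.X₃.presheaf.stalk x) := not_not.mp h3
  apply hx
  refine ⟨fun a b => ?_⟩
  have key : ∀ c : S.X₂.presheaf.stalk x, c = 0 := by
    intro c
    obtain ⟨d, rfl⟩ := (stalkMap_exact_of_shortExact S hS x c).mp (Subsingleton.elim _ _)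
    rw [Subsingleton.elim d 0, map_zero]
  rw [key a, key b]

lemma support_eq_empty_of_isZero {M : X.Modules} (h : IsZero M) : CohB1.support M = ∅ := by
  ext x
  simp only [Set.mem_empty_iff_false, iff_false]
  intro hx
  apply hx
  refine ⟨fun a b => ?_⟩
  have key : ∀ c : M.presheaf.stalk x, c = 0 := by
    intro c
    obtain ⟨U, hxU, s, rfl⟩ := TopCat.Presheaf.exists_germ_eq M.presheaf c
    have hs : Subsingleton Γ(M, U) :=
      (Groth.Agent.Lib.Helper45.isZero_iff_sections_subsingleton M).mp h U
    rw [Subsingleton.elim s 0, map_zero]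
  rw [key a, key b]

/-- coherent modules with support in `Y'` -/
abbrev cohSuppP (X : Scheme.{u}) (Y' : Set X) : ObjectProperty X.Modules :=
  fun G : X.Modules => Coh.IsCoh G ∧ CohB1.support G ⊆ Y'

section Instances

variable (X) (Y' : Set X)

instance : (cohSuppP X Y').IsClosedUnderIsomorphisms where
  of_iso e h := ⟨CohThick.isCoh_of_iso e h.1,
    (support_subset_of_mono e.inv).trans h.2⟩

instance : (cohSuppP X Y').ContainsZero where
  exists_zero := ⟨0, isZero_zero _, CohThick.isCoh_of_isZero (isZero_zero _), by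
    rw [support_eq_empty_of_isZero (isZero_zero _)]; exact Set.empty_subset _⟩

instance : (cohSuppP X Y').IsClosedUnderExtensions where
  prop_X₂_of_shortExact {S} hS h1 h3 := ⟨CohThick.isCoh_of_extension _ hS h1.1 h3.1,
    (support_X₂_subset S hS).trans (Set.union_subset h1.2 h3.2)⟩

instance [IsLocallyNoetherian X] : (cohSuppP X Y').IsClosedUnderKernels where
  kernels_le := by
    rintro _ ⟨f, k, hk, hf⟩
    have := Fork.IsLimit.mono hk
    exact ⟨(CohThick.cohP X).prop_of_isLimit_kernelFork hk hf.1.1 hf.2.1,
      (support_subset_of_mono k.ι).trans hf.1.2⟩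

instance [IsLocallyNoetherian X] : (cohSuppP X Y').IsClosedUnderCokernels where
  cokernels_le := by
    rintro _ ⟨f, k, hk, hf⟩
    have := Cofork.IsColimit.epi hk
    exact ⟨(CohThick.cohP X).prop_of_isColimit_cokernelCofork hk hf.1.1 hf.2.1,
      (support_subset_of_epi k.π).trans hf.2.2⟩

end Instances

/-- dévissage for perfectness -/
theorem isPerfect_of_bounded_of_homology_aux (Q : ObjectProperty X.Modules)
    [Q.IsClosedUnderIsomorphisms] [Q.ContainsZero]
    (hsingle : ∀ F : X.Modules, Q F → DCoh.IsPerfect (DCoh.inD X F)) (k : ℕ) :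
    ∀ (E : DCoh.D X) (a b : ℤ), E.IsGE a → E.IsLE b → b < a + k →
      (∀ i, Q (DCoh.HD E i)) → DCoh.IsPerfect E := by
  induction k with
  | zero =>
    intro E a b ha hb hab _
    refine isPerfect_of_isZero (isZero_of_isZero_homology E fun i => ?_)
    by_cases hi : i < a
    · exact DerivedCategory.isZero_of_isGE E a i hi
    · exact DerivedCategory.isZero_of_isLE E b i (by push_cast at hab; omega)
  | succ k ih =>
    intro E a b ha hb hab hcoh
    let t := DerivedCategory.TStructure.t (C := X.Modules)
    let T := (t.triangleLEGE (b - 1) b (by omega)).obj E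
    have hT : T ∈ distTriang _ := t.triangleLEGE_distinguished (b - 1) b (by omega) E
    have hle1 : T.obj₁.IsLE (b - 1) := inferInstanceAs (t.IsLE ((t.truncLE (b - 1)).obj E) (b - 1))
    have hge1 : T.obj₁.IsGE a := inferInstanceAs (t.IsGE ((t.truncLE (b - 1)).obj E) a)
    have hge3 : T.obj₃.IsGE b := inferInstanceAs (t.IsGE ((t.truncGE b).obj E) b)
    have hle3 : T.obj₃.IsLE b := inferInstanceAs (t.IsLE ((t.truncGE b).obj E) b)
    have h1 : DCoh.IsPerfect T.obj₁ := by
      refine ih T.obj₁ a (b - 1) hge1 hle1 (by push_cast at hab; omega) (fun i => ?_)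
      by_cases hib : i < b
      · have hiso := isIso_homology_mor₁ T hT (i - 1) i (by omega)
          (DerivedCategory.isZero_of_isGE T.obj₃ b (i - 1) (by omega))
          (DerivedCategory.isZero_of_isGE T.obj₃ b i hib)
        exact Q.prop_of_iso (asIso ((DerivedCategory.homologyFunctor _ i).map T.mor₁)).symm
          (hcoh i)
      · exact Q.prop_of_isZero
          (DerivedCategory.isZero_of_isLE T.obj₁ (b - 1) i (by omega))
    obtain ⟨Y, ⟨e⟩⟩ := DerivedCategory.exists_iso_singleFunctor_obj_of_isGE_of_isLE T.obj₃ b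
    have hiso := isIso_homology_mor₂ T hT b (b + 1) rfl
      (DerivedCategory.isZero_of_isLE T.obj₁ (b - 1) b (by omega))
      (DerivedCategory.isZero_of_isLE T.obj₁ (b - 1) (b + 1) (by omega))
    have hY : Q Y :=
      Q.prop_of_iso (asIso ((DerivedCategory.homologyFunctor _ b).map T.mor₂) ≪≫
        (DerivedCategory.homologyFunctor _ b).mapIso e ≪≫
        (homologySingleIso' X.Modules b).app Y) (hcoh b)
    have h3 : DCoh.IsPerfect T.obj₃ := by
      have h := isPerfect_shift _ (-b) (hsingle Y hY)
      have e' : ((DCoh.inD X Y)⟦-b⟧) ≅ (DerivedCategory.singleFunctor X.Modules b).obj Y :=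
        ((DerivedCategory.singleFunctors X.Modules).shiftIso (-b) b 0 (by omega)).app Y
      exact isPerfect_of_iso (e' ≪≫ e.symm) h
    have h3' : DCoh.IsPerfect T.invRotate.obj₁ := isPerfect_shift T.obj₃ (-1) h3
    exact isPerfect_obj₃ T.invRotate (inv_rot_of_distTriang _ hT) h3' h1

theorem isPerfect_of_bounded_of_homology (Q : ObjectProperty X.Modules)
    [Q.IsClosedUnderIsomorphisms] [Q.ContainsZero]
    (hsingle : ∀ F : X.Modules, Q F → DCoh.IsPerfect (DCoh.inD X F))
    (E : DCoh.D X) (a b : ℤ) (ha : E.IsGE a) (hb : E.IsLE b) (h : ∀ i, Q (DCoh.HD E i)) :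
    DCoh.IsPerfect E :=
  isPerfect_of_bounded_of_homology_aux Q hsingle (b - a + 1).toNat E a b ha hb (by omega) h

end

end Groth.Agent.Lib.Helper30.PerfSupport
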