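import Mathlib

/-!
A projective resolution of a module with a prescribed first step: given an epimorphism
`π : X ⟶ Z` from a projective object in `ModuleCat R`, we build a projective resolution of `Z`
whose degree-zero term is `X`, whose augmentation is `π`, and whose higher terms are the free
modules on the successive syzygies.
-/

set_option autoImplicit false
universe u

open CategoryTheory CategoryTheory.Limits

namespace Groth.Agent.Lib.Helper30.Resolution

variable {R : Type u} [CommRing R]

variable (R) in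
/-- An epimorphism from a projective module, bundled. -/
structure Stage where
  /-- the target -/
  Z : ModuleCat.{u} R
  /-- the projective source -/
  X : ModuleCat.{u} R
  /-- the cover -/
  π : X ⟶ Z
  /-- it is an epimorphism -/
  epi : Epi π
  /-- the source is projective -/
  proj : Projective X

attribute [instance] Stage.epi Stage.proj

/-- the next stage: the free module on the kernel of the cover -/
noncomputable def Stage.next (s : Stage R) : Stage R where
  Z := kernel s.π
  X := ModuleCat.of R ((kernel s.π : ModuleCat.{u} R) →₀ R)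
  π := ModuleCat.ofHom (Finsupp.linearCombination R id)
  epi := (ModuleCat.epi_iff_surjective _).mpr (fun m => ⟨Finsupp.single m 1, by simp⟩)
  proj := by
    rw [← IsProjective.iff_projective]
    infer_instance

/-- the inclusion of the kernel -/
noncomputable def Stage.ι (t : Stage R) : t.next.Z ⟶ t.X := kernel.ι t.π

lemma Stage.ι_comp_π (t : Stage R) : t.ι ≫ t.π = 0 := kernel.condition t.π

instance (t : Stage R) : Mono t.ι := inferInstanceAs (Mono (kernel.ι t.π))

/-- `ι` is a kernel of `π` -/
noncomputable def Stage.isKernel (t : Stage R) :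
    IsLimit (KernelFork.ofι t.ι t.ι_comp_π) := kernelIsKernel t.π

/-- the differential at a stage -/
noncomputable def Stage.d (t : Stage R) : t.next.X ⟶ t.X := t.next.π ≫ t.ι

lemma Stage.d_comp_π (t : Stage R) : t.d ≫ t.π = 0 := by
  unfold Stage.d
  rw [Category.assoc, Stage.ι_comp_π, comp_zero]

lemma Stage.d_sq (t : Stage R) : t.next.d ≫ t.d = 0 := by
  have h := t.next.d_comp_π
  unfold Stage.d at h ⊢
  rw [Category.assoc] at h ⊢
  rw [← Category.assoc t.next.ι, Stage.ι_comp_π, zero_comp, comp_zero]

lemma Stage.exact_d_π (t : Stage R) : (ShortComplex.mk t.d t.π t.d_comp_π).Exact := by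
  let α : ShortComplex.mk t.d t.π t.d_comp_π ⟶ ShortComplex.mk t.ι t.π t.ι_comp_π :=
    { τ₁ := t.next.π
      τ₂ := 𝟙 _
      τ₃ := 𝟙 _
      comm₁₂ := by simp [Stage.d]
      comm₂₃ := by simp }
  have : Epi α.τ₁ := inferInstanceAs (Epi t.next.π)
  have : IsIso α.τ₂ := inferInstanceAs (IsIso (𝟙 _))
  have : Mono α.τ₃ := inferInstanceAs (Mono (𝟙 _))
  rw [ShortComplex.exact_iff_of_epi_of_isIso_of_mono α]
  exact ShortComplex.exact_of_f_is_kernel _ t.isKernel

lemma Stage.exact_d_d (t : Stage R) : (ShortComplex.mk t.next.d t.d t.d_sq).Exact := by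
  let α : ShortComplex.mk t.next.d t.next.π t.next.d_comp_π ⟶
      ShortComplex.mk t.next.d t.d t.d_sq :=
    { τ₁ := 𝟙 _
      τ₂ := 𝟙 _
      τ₃ := t.ι
      comm₁₂ := by simp
      comm₂₃ := by simp [Stage.d] }
  have : Epi α.τ₁ := inferInstanceAs (Epi (𝟙 _))
  have : IsIso α.τ₂ := inferInstanceAs (IsIso (𝟙 _))
  have : Mono α.τ₃ := inferInstanceAs (Mono t.ι)
  rw [← ShortComplex.exact_iff_of_epi_of_isIso_of_mono α]
  exact t.next.exact_d_π

lemma id_comp_eq_comp_id {C : Type*} [Category C] {A B : C} (f g : A ⟶ B) (h : f = g) :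
    𝟙 A ≫ f = g ≫ 𝟙 B := by
  rw [Category.id_comp, Category.comp_id, h]

/-- the sequence of syzygies -/
noncomputable def seq (s : Stage R) : ℕ → Stage R
  | 0 => s
  | n + 1 => (seq s n).next

/-- the terms of the resolution -/
noncomputable def cX (s : Stage R) (n : ℕ) : ModuleCat.{u} R := (seq s n).X

/-- the differentials of the resolution -/
noncomputable def cd (s : Stage R) (n : ℕ) : cX s (n + 1) ⟶ cX s n := (seq s n).d

lemma cd_comp_π (s : Stage R) (n : ℕ) : cd s n ≫ (seq s n).π = 0 := (seq s n).d_comp_π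

lemma cd_sq (s : Stage R) (n : ℕ) : cd s (n + 1) ≫ cd s n = 0 := (seq s n).d_sq

/-- the complex -/
noncomputable def cplx (s : Stage R) : ChainComplex (ModuleCat.{u} R) ℕ :=
  ChainComplex.of (cX s) (cd s) (cd_sq s)

lemma cplx_d (s : Stage R) (n : ℕ) : (cplx s).d (n + 1) n = cd s n :=
  ChainComplex.of_d _ _ n

lemma exact_cd_π (s : Stage R) (n : ℕ) :
    (ShortComplex.mk (cd s n) (seq s n).π (cd_comp_π s n)).Exact := (seq s n).exact_d_π

lemma exact_cd_cd (s : Stage R) (n : ℕ) :
    (ShortComplex.mk (cd s (n + 1)) (cd s n) (cd_sq s n)).Exact := (seq s n).exact_d_d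

lemma cplx_exactAt_succ (s : Stage R) (n : ℕ) : (cplx s).ExactAt (n + 1) := by
  rw [HomologicalComplex.exactAt_iff' _ (n + 1 + 1) (n + 1) n (by simp) (by simp)]
  refine ShortComplex.exact_of_iso ?_ (exact_cd_cd s n)
  refine ShortComplex.isoMk (Iso.refl _) (Iso.refl _) (Iso.refl _) ?_ ?_
  · exact id_comp_eq_comp_id _ _ (cplx_d s (n + 1))
  · exact id_comp_eq_comp_id _ _ (cplx_d s n)

/-- the augmentation -/
noncomputable def caug (s : Stage R) : cplx s ⟶ (ChainComplex.single₀ (ModuleCat.{u} R)).obj s.Z :=
  (ChainComplex.toSingle₀Equiv _ _).symm ⟨(seq s 0).π, by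
    rw [cplx_d]; exact cd_comp_π s 0⟩

lemma caug_f_zero (s : Stage R) : (caug s).f 0 = (seq s 0).π :=
  ChainComplex.toSingle₀Equiv_symm_apply_f_zero _ _

lemma caug_quasiIso (s : Stage R) : QuasiIso (caug s) := ⟨fun n => by
  cases n with
  | zero =>
    rw [ChainComplex.quasiIsoAt₀_iff, ShortComplex.quasiIso_iff_of_zeros']
    · refine (ShortComplex.exact_and_epi_g_iff_of_iso ?_).2
        ⟨exact_cd_π s 0, inferInstanceAs (Epi (seq s 0).π)⟩
      refine ShortComplex.isoMk (Iso.refl _) (Iso.refl _) (Iso.refl _) ?_ ?_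
      · exact id_comp_eq_comp_id _ _ (cplx_d s 0).symm
      · exact id_comp_eq_comp_id _ _ (caug_f_zero s).symm
    all_goals rfl
  | succ n =>
    rw [quasiIsoAt_iff_exactAt']
    · apply cplx_exactAt_succ
    · apply ChainComplex.exactAt_succ_single_obj⟩

instance (s : Stage R) (n : ℕ) : Projective ((cplx s).X n) :=
  inferInstanceAs (Projective (seq s n).X)

/-- the resolution -/
noncomputable def res (s : Stage R) : ProjectiveResolution s.Z where
  complex := cplx s
  π := caug s
  quasiIso := caug_quasiIso s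


@[simp] lemma res_complex (s : Stage R) : (res s).complex = cplx s := rfl

lemma res_d_one_zero (s : Stage R) : (res s).complex.d 1 0 = s.d := cplx_d s 0

lemma res_d_two_one (s : Stage R) : (res s).complex.d 2 1 = s.next.d := cplx_d s 1

end Groth.Agent.Lib.Helper30.Resolution
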