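import Mathlib

/-!
Shared lemmas: surjectivity of a localized / residue-field-tensored linear map in terms of the
support of the cokernel.
-/

set_option autoImplicit false
universe u

open scoped TensorProduct

namespace Groth.Agent.Lib.Helper30

variable {R : Type u} [CommRing R] {M N : Type u} [AddCommGroup M] [Module R M]
  [AddCommGroup N] [Module R N]

/-- `K ⊗ φ` is surjective iff `K ⊗ coker φ` vanishes. -/
theorem lTensor_surjective_iff_subsingleton_coker (K : Type u) [AddCommGroup K] [Module R K]
    (φ : M →ₗ[R] N) :
    Function.Surjective (φ.lTensor K) ↔ Subsingleton (K ⊗[R] (N ⧸ LinearMap.range φ)) := by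
  have hex : Function.Exact φ (LinearMap.range φ).mkQ := by
    rw [LinearMap.exact_iff, Submodule.ker_mkQ]
  have hex' := lTensor_exact K hex (Submodule.mkQ_surjective _)
  have hsurj : Function.Surjective ((LinearMap.range φ).mkQ.lTensor K) :=
    LinearMap.lTensor_surjective K (Submodule.mkQ_surjective _)
  constructor
  · intro h
    refine ⟨fun a b => ?_⟩
    obtain ⟨a', rfl⟩ := hsurj a
    obtain ⟨b', rfl⟩ := hsurj b
    obtain ⟨a'', rfl⟩ := h a'
    obtain ⟨b'', rfl⟩ := h b'
    rw [(hex' _).mpr ⟨a'', rfl⟩, (hex' _).mpr ⟨b'', rfl⟩]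
  · intro h y
    exact (hex' y).mp (Subsingleton.elim _ _)

theorem localizedMap_surjective_iff_notMem_support (φ : M →ₗ[R] N) (p : PrimeSpectrum R) :
    Function.Surjective (LocalizedModule.map p.asIdeal.primeCompl φ) ↔
      p ∉ Module.support R (N ⧸ LinearMap.range φ) := by
  rw [φ.localizedMap_surjective_iff_subsingleton_localized_coker, Module.notMem_support_iff]

theorem lTensor_residueField_surjective_iff_notMem_support [Module.Finite R N] (φ : M →ₗ[R] N)
    (p : PrimeSpectrum R) :
    Function.Surjective (φ.lTensor p.asIdeal.ResidueField) ↔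
      p ∉ Module.support R (N ⧸ LinearMap.range φ) := by
  rw [lTensor_surjective_iff_subsingleton_coker,
    Module.mem_support_iff_nontrivial_residueField_tensorProduct, not_nontrivial_iff_subsingleton]

theorem localizedMap_powers_surjective_of_basicOpen_subset (φ : M →ₗ[R] N) (f : R)
    (h : (↑(PrimeSpectrum.basicOpen f) : Set (PrimeSpectrum R)) ⊆
      (Module.support R (N ⧸ LinearMap.range φ))ᶜ) :
    Function.Surjective (LocalizedModule.map (Submonoid.powers f) φ) := by
  rw [φ.localizedMap_surjective_iff_subsingleton_localized_coker]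
  have := (LocalizedModule.subsingleton_iff_disjoint (M := N ⧸ LinearMap.range φ) (f := f)).mpr
    (Set.disjoint_left.mpr (fun x hx hx' => h hx hx'))
  exact this

end Groth.Agent.Lib.Helper30
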