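import Mathlib
import Groth.Prelude.Def_DRing2
import Groth.Agent.Lib.Helper30.TAmpDescentF
import Groth.Agent.Lib.Helper35.BCIso

/-!
# Relative descent of tor amplitude (helper30)

`R → A` a flat ring map, `K` a complex of `A`-modules.  If `L_j : Mod A ⥤ Mod B_j` is a family of exact
functors which sends `R`-flat `A`-modules to flat `B_j`-modules, jointly detects zero objects and
jointly detects `R`-flatness, and every `L_j K` has tor amplitude in `[a, b]` over `B_j`, then `K`
has tor amplitude in `[a, b]` as a complex of `R`-modules.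
-/

set_option autoImplicit false
universe w u
open CategoryTheory CategoryTheory.Limits DerivedCategory
attribute [local instance] HasDerivedCategory.standard

namespace Groth.Agent.Lib.Helper30.TAmpDescentRel

open Groth.Agent.Lib.Helper35.TA Groth.Agent.Lib.Helper6 Groth.Agent.Lib.Helper30.TAmpDescentF

variable {R A : Type u} [CommRing R] [CommRing A] [Algebra R A]

variable (R A) in
/-- restriction of scalars -/
noncomputable abbrev res : ModuleCat.{u} A ⥤ ModuleCat.{u} R := ModuleCat.restrictScalars.{u} (algebraMap R A)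

/-- A jointly faithfully flat family of exact functors, relative to `R`. -/
structure JFF {J : Type w} (B : J → Type u) [∀ j, CommRing (B j)]
    (L : ∀ j, ModuleCat.{u} A ⥤ ModuleCat.{u} (B j)) : Prop where
  flat : ∀ (j : J) (N : ModuleCat.{u} A), Module.Flat R ((res R A).obj N) →
    Module.Flat (B j) ((L j).obj N)
  zero : ∀ N : ModuleCat.{u} A, (∀ j, IsZero ((L j).obj N)) → IsZero N
  flatM : ∀ N : ModuleCat.{u} A, (∀ j, Module.Flat (B j) ((L j).obj N)) →
    Module.Flat R ((res R A).obj N)

section

variable {B : Type u} [CommRing B] (L : ModuleCat.{u} A ⥤ ModuleCat.{u} B) [L.Additive]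
  [PreservesFiniteLimits L] [PreservesFiniteColimits L]

theorem flat_L_opcycles_of_TAmp' (K P : DRing.Cx A) (π : P ⟶ K) [QuasiIso π] (b' : ℤ)
    (hPb : DRing.VanishesAbove P b') (hfl : ∀ i : ℤ, Module.Flat B (L.obj (P.X i))) (a b : ℤ)
    (h : TAmp a b (DRing.toD ((LCx L).obj K))) :
    Module.Flat B (L.obj (P.opcycles a)) := by
  have hq : QuasiIso ((LCx L).map π) := inferInstance
  have hiso : IsIso (Q.map ((LCx L).map π)) := by
    rw [isIso_Q_map_iff_quasiIso]; exact hq
  let e : DRing.toD ((LCx L).obj P) ≅ DRing.toD ((LCx L).obj K) := asIso (Q.map ((LCx L).map π))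
  have hP : TAmp a b (DRing.toD ((LCx L).obj P)) := h.of_iso e.symm
  have hv : DRing.VanishesAbove ((LCx L).obj P) b' := fun i hi => L.map_isZero (hPb i hi)
  have := flat_opcycles_of_TAmp' ((LCx L).obj P) b' hv hfl a b hP
  have hfl := this.2
  exact Module.Flat.of_linearEquiv (opcyclesLIso L P a).toLinearEquiv.symm

end

theorem TAmp_descent [Module.Flat R A] {J : Type w} (B : J → Type u) [∀ j, CommRing (B j)]
    (L : ∀ j, ModuleCat.{u} A ⥤ ModuleCat.{u} (B j)) [∀ j, (L j).Additive]
    [∀ j, PreservesFiniteLimits (L j)] [∀ j, PreservesFiniteColimits (L j)]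
    (hL : JFF (R := R) B L) (K : DRing.Cx A) (a b : ℤ)
    (hK : ∀ j, TAmp a b (DRing.toD ((LCx (L j)).obj K))) :
    TAmp a b (DRing.toD ((LCx (res R A)).obj K)) := by
  have hz : ∀ i : ℤ, (i < a ∨ b < i) → IsZero (K.homology i) := fun i hi =>
    hL.zero _ (fun j => isZero_L_homology_of_TAmp (L j) K a b (hK j) i hi)
  have hKLE : K.IsLE b := by
    rw [CochainComplex.isLE_iff]
    intro i hi
    rw [HomologicalComplex.exactAt_iff_isZero_homology]
    exact hz i (Or.inr hi)
  have hQLE : (Q.obj K).IsLE b := by rw [isLE_Q_obj_iff]; exact hKLE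
  obtain ⟨P, π, hPb, hPproj, hπ⟩ := exists_projective_resolution_cx K b
  have hPflat : ∀ i : ℤ, Module.Flat R ((res R A).obj (P.X i)) := fun i => by
    have := hPproj i
    have : Module.Flat A (P.X i) := inferInstance
    exact flat_restrictScalars_of_flat (P.X i)
  have hop : Module.Flat R ((res R A).obj (P.opcycles a)) :=
    hL.flatM _ (fun j => flat_L_opcycles_of_TAmp' (L j) K P π b hPb
      (fun i => hL.flat j _ (hPflat i)) a b (hK j))
  -- pass to `R`
  let KR := (LCx (res R A)).obj K
  let PR := (LCx (res R A)).obj P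
  let πR : PR ⟶ KR := (LCx (res R A)).map π
  have hqR : QuasiIso πR := inferInstance
  have hisoR : IsIso (Q.map πR) := by
    rw [isIso_Q_map_iff_quasiIso]; exact hqR
  have hzR : ∀ i : ℤ, (i < a ∨ b < i) → IsZero (KR.homology i) := fun i hi =>
    ((res R A).map_isZero (hz i hi)).of_iso ((ExactDC.homologyIsoCx (res R A) i).app K)
  have hzPR : ∀ i : ℤ, (i < a ∨ b < i) → IsZero (PR.homology i) := fun i hi => by
    have := (quasiIsoAt_iff_isIso_homologyMap πR i).mp (hqR.quasiIsoAt i)
    exact (hzR i hi).of_iso (asIso (HomologicalComplex.homologyMap πR i))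
  have hPRb : DRing.VanishesAbove PR b := fun i hi => (res R A).map_isZero (hPb i hi)
  have hPRflat : ∀ i : ℤ, Module.Flat R (PR.X i) := hPflat
  have hPRLE : PR.IsLE b := by
    rw [CochainComplex.isLE_iff]
    intro i hi
    rw [HomologicalComplex.exactAt_iff_isZero_homology]
    exact hzPR i (Or.inr hi)
  have hPRGE : PR.IsGE a := by
    rw [CochainComplex.isGE_iff]
    intro i hi
    rw [HomologicalComplex.exactAt_iff_isZero_homology]
    exact hzPR i (Or.inl hi)
  have hopR : Module.Flat R (PR.opcycles a) :=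
    Module.Flat.of_linearEquiv (opcyclesLIso (res R A) P a).toLinearEquiv
  exact (TAmp_of_flat_opcycles PR b hPRb hPRflat a b).of_iso (asIso (Q.map πR))

end Groth.Agent.Lib.Helper30.TAmpDescentRel
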