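import Mathlib
import Groth.Agent.Lib.Helper30.TildeTAmp
import Groth.Agent.Lib.Helper30.FlatRestrict2
import Groth.Agent.Lib.Helper30.PerfRestrict

/-!
# Local stalkwise criterion for the tor amplitude of `K` in terms of `K~` (helper30)

If, locally on `Spec R`, the complex `K~` is isomorphic in the derived category to a complex of flat
modules placed in `[a, b]`, then `K` has tor amplitude in `[a, b]`.
-/

set_option autoImplicit false
universe u
open CategoryTheory CategoryTheory.Limits AlgebraicGeometry
attribute [local instance] HasDerivedCategory.standard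

namespace Groth.Agent.Lib.Helper30.TildeTAmpLoc

open Groth.Agent.Lib.Helper30.TildeStalk Groth.Agent.Lib.Helper30.TildeTAmp
open Groth.Agent.Lib.Helper30.PerfRestrict Groth.Agent.Lib.Helper30.FlatRestrict
open Groth.Agent.Lib.Helper30.StalkExactF

variable (R : CommRingCat.{u}) [PreservesFiniteLimits (tilde.functor R)]

/-- the functor `M ↦ ((M~)|_V)_y` -/
noncomputable abbrev LV (V : (Spec R).Opens) (y : (V : Scheme.{u})) :
    ModuleCat.{u} R ⥤ ModuleCat.{u} ((V : Scheme.{u}).presheaf.stalk y) :=
  tilde.functor R ⋙ Scheme.Modules.restrictFunctor V.ι ⋙ DerSch.stalkFunctor (V : Scheme.{u}) y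

/-- comparison of the two ways of taking termwise stalks of the restriction of `K~` -/
noncomputable def stalkRestrictTildeCxIso (V : (Spec R).Opens) (y : (V : Scheme.{u}))
    (K : CochainComplex (ModuleCat.{u} R) ℤ) :
    ((DerSch.stalkFunctor (V : Scheme.{u}) y).mapHomologicalComplex (ComplexShape.up ℤ)).obj
        ((rC V.ι).obj ((tildeCx R).obj K)) ≅
      ((LV R V y).mapHomologicalComplex (ComplexShape.up ℤ)).obj K :=
  HomologicalComplex.Hom.isoOfComponents (fun i => Iso.refl _) (by
    intro i j _
    exact (Category.id_comp _).trans (Category.comp_id _).symm)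

theorem tAmp_of_locally (K : CochainComplex (ModuleCat.{u} R) ℤ) (a b : ℤ)
    (h : ∀ x : Spec R, ∃ (V : (Spec R).Opens) (_ : x ∈ V)
      (E : CochainComplex (V : Scheme.{u}).Modules ℤ),
      DCoh.VanishesOutside E a b ∧ (∀ i, FlatMod.IsFlat (E.X i)) ∧
      Nonempty (DerivedCategory.Q.obj ((rC V.ι).obj ((tildeCx R).obj K)) ≅
        DerivedCategory.Q.obj E)) :
    DRing.HasTorAmplitudeIn R a b (DerivedCategory.Q.obj K) := by
  choose V hx E hv hfl e using h
  let y : ∀ x : Spec R, (V x : Scheme.{u}) := fun x => ⟨x, hx x⟩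
  have hy : ∀ x : Spec R, (V x).ι (y x) = x := fun x => rfl
  refine Groth.Agent.Lib.Helper30.TAmpDescentF.TAmp_descent
    (fun x : Spec R => ((V x : Scheme.{u}).presheaf.stalk (y x) : Type u))
    (fun x => LV R (V x) (y x)) ?_ K a b ?_
  · refine ⟨fun x M hM => ?_, fun M hM => ?_, fun M hM => ?_⟩
    · exact isFlat_restrict (V x).ι (tilde M) (isFlat_tilde M) (y x)
    · have : Subsingleton M := subsingleton_of_stalks M (fun x => by
        have h1 : Subsingleton (((Scheme.Modules.restrictFunctor (V x).ι).obj (tilde M)).presheaf.stalk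
            (y x)) := ModuleCat.subsingleton_of_isZero (hM x)
        have h2 := (subsingleton_stalk_restrict_iff (V x).ι (tilde M) (y x)).mp h1
        rw [hy x] at h2
        exact h2)
      exact ModuleCat.isZero_of_subsingleton M
    · refine flat_of_isFlat_tilde M (fun x => ?_)
      have h1 : FlatMod.IsFlatAt ((Scheme.Modules.restrictFunctor (V x).ι).obj (tilde M)) (y x) :=
        hM x
      have h2 := (isFlatAt_restrict_iff (V x).ι (tilde M) (y x)).mp h1
      rw [hy x] at h2
      exact h2
  · intro x
    let S := DerSch.stalkFunctor (V x : Scheme.{u}) (y x)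
    refine ⟨(S.mapHomologicalComplex (ComplexShape.up ℤ)).obj (E x), ?_, ?_, ⟨?_⟩⟩
    · intro i hi
      exact S.map_isZero (hv x i hi)
    · intro i
      exact hfl x i (y x)
    · exact (S.mapDerivedCategoryFactors.app (E x)).symm ≪≫
        S.mapDerivedCategory.mapIso (e x).some.symm ≪≫
        S.mapDerivedCategoryFactors.app _ ≪≫
        DerivedCategory.Q.mapIso (stalkRestrictTildeCxIso R (V x) (y x) K)

end Groth.Agent.Lib.Helper30.TildeTAmpLoc
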