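import Mathlib
import Groth.Agent.Lib.Helper30.TildePC
import Groth.Agent.Lib.Helper30.TildeTAmpLoc
import Groth.Agent.Lib.Helper6.Resol3
import Groth.Agent.Lib.Helper35.TACore

/-!
# Perfectness of `M~` on `Spec R` versus perfectness of `M` (helper30)
-/

set_option autoImplicit false
universe u
open CategoryTheory CategoryTheory.Limits AlgebraicGeometry Pretriangulated
attribute [local instance] HasDerivedCategory.standard

namespace Groth.Agent.Lib.Helper30.TildePerf

open Groth.Agent.Lib.Helper30.TildeStalk Groth.Agent.Lib.Helper30.TildeTAmp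
open Groth.Agent.Lib.Helper30.PerfRestrict Groth.Agent.Lib.Helper30.PCTriangle
open Groth.Agent.Lib.Helper30.PCSummand Groth.Agent.Lib.Helper30.TildePC
open Groth.Agent.Lib.Helper6 Groth.Agent.Lib.Helper6.MPC

variable (R : CommRingCat.{u}) [PreservesFiniteLimits (tilde.functor R)]

theorem perfObj_tildeD (M : DerivedCategory (ModuleCat.{u} R)) (h : DRing.IsPerfect R M) :
    PerfObj ((DCoh.tildeD R).obj M) := by
  obtain ⟨E, a, b, hv, hE, ⟨e⟩⟩ := h
  exact ⟨(tildeCx R).obj E, isStrictlyPerfect_tildeCx R E a b hv hE,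
    ⟨(DCoh.tildeD R).mapIso e.symm ≪≫ tildeDQIso R E⟩⟩

/-- `M~` is perfect if `M` is -/
theorem isPerfect_tildeD (M : DerivedCategory (ModuleCat.{u} R)) (h : DRing.IsPerfect R M) :
    DCoh.IsPerfect ((DCoh.tildeD R).obj M) := by
  rw [isPerfect_iff]
  intro x
  exact ⟨⊤, trivial, (perfObj_tildeD R M h).restrict _⟩

/-- a perfect object is `m`-pseudo-coherent for every `m` -/
theorem isPseudoCoherentD_of_isPerfect {X : Scheme.{u}} (K : DCoh.D X) (h : DCoh.IsPerfect K)
    (m : ℤ) : DCoh.IsPseudoCoherentD m K := by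
  rw [isPerfect_iff] at h
  rw [isPseudoCoherentD_iff]
  intro x
  obtain ⟨V, hxV, hV⟩ := h x
  exact ⟨V, hxV, hV.pcObj m⟩

/-- `M` is perfect if `M~` is -/
theorem isPerfect_of_isPerfect_tildeD (M : DerivedCategory (ModuleCat.{u} R))
    (h : DCoh.IsPerfect ((DCoh.tildeD R).obj M)) : DRing.IsPerfect R M := by
  have hpc : ∀ m : ℤ, DRing.IsPseudoCoherent R m M := fun m =>
    isPC_of_isPseudoCoherentD_tildeD R M m (isPseudoCoherentD_of_isPerfect _ h m)
  have hpc' : DRing.IsPseudoCoherent' R M := Groth.Agent.Lib.Helper6.Resol.isPC'_of_forall_isPC M hpc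
  -- uniform bounds by quasi-compactness
  rw [isPerfect_iff] at h
  choose V hxV hV using h
  choose E hE f using hV
  choose ab hab using fun x => (hE x).1
  obtain ⟨t, ht⟩ := isCompact_univ.elim_finite_subcover
    (fun x : Spec R => ((V x : (Spec R).Opens) : Set (Spec R)))
    (fun x => (V x).isOpen) (fun x _ => Set.mem_iUnion.mpr ⟨x, hxV x⟩)
  let b : ℤ := ((t.sup (fun x => (Classical.choose (hab x)).toNat) : ℕ) : ℤ)
  let a : ℤ := -((t.sup (fun x => (-(ab x)).toNat) : ℕ) : ℤ)
  let K : CochainComplex (ModuleCat.{u} R) ℤ := DerivedCategory.Q.objPreimage M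
  let eK : DerivedCategory.Q.obj K ≅ M := DerivedCategory.Q.objObjPreimageIso M
  have hT : DRing.HasTorAmplitudeIn R a b (DerivedCategory.Q.obj K) := by
    refine Groth.Agent.Lib.Helper30.TildeTAmpLoc.tAmp_of_locally R K a b (fun z => ?_)
    obtain ⟨x, hx⟩ := Set.mem_iUnion.mp (ht (Set.mem_univ z))
    obtain ⟨hxt, hzx⟩ := Set.mem_iUnion.mp hx
    refine ⟨V x, hzx, E x, ?_, ?_, ⟨?_⟩⟩
    · intro i hi
      refine Classical.choose_spec (hab x) i ?_
      have h5 : (Classical.choose (hab x)).toNat ≤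
          t.sup (fun x => (Classical.choose (hab x)).toNat) :=
        Finset.le_sup (f := fun x => (Classical.choose (hab x)).toNat) hxt
      have h6 : Classical.choose (hab x) ≤ ((Classical.choose (hab x)).toNat : ℤ) :=
        Int.self_le_toNat _
      have h7 : (-(ab x)).toNat ≤ t.sup (fun x => (-(ab x)).toNat) :=
        Finset.le_sup (f := fun x => (-(ab x)).toNat) hxt
      have h8 : -(ab x) ≤ ((-(ab x)).toNat : ℤ) := Int.self_le_toNat _
      rcases hi with hi | hi
      · left
        change i < -((t.sup (fun x => (-(ab x)).toNat) : ℕ) : ℤ) at hi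
        omega
      · right
        change ((t.sup (fun x => (Classical.choose (hab x)).toNat) : ℕ) : ℤ) < i at hi
        omega
    · intro i
      exact Groth.Agent.Lib.Helper49.isFlat_of_isFinLocFree _ ((hE x).2 i)
    · exact ((rDQ (V x).ι).app _).symm ≪≫
        (rD (V x).ι).mapIso ((tildeDQIso R K).symm ≪≫ (DCoh.tildeD R).mapIso eK) ≪≫ (f x).some
  exact Groth.Agent.Lib.Helper35.TA.isPerfect_of_isPseudoCoherent'_of_TAmp M hpc' a b
    (Groth.Agent.Lib.Helper35.TA.TAmp.of_iso hT eK)

end Groth.Agent.Lib.Helper30.TildePerf
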