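import Mathlib
import Groth.Agent.Lib.Helper30.TildeTAmpLoc
import Groth.Agent.Lib.Helper30.FlatOverRestrict
import Groth.Agent.Lib.Helper30.TAmpDescentRel

/-!
# Local criterion for the tor amplitude over the base of `K` in terms of `K~` (helper30)

`R → A` a flat ring map, `f : Spec A ⟶ Spec R`.  If, locally on `Spec A`, the complex `K~` is
isomorphic in the derived category to a complex of modules flat over `Spec R` placed in `[a, b]`,
then `K`, as a complex of `R`-modules, has tor amplitude in `[a, b]`.
-/

set_option autoImplicit false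
universe u
open CategoryTheory CategoryTheory.Limits AlgebraicGeometry
attribute [local instance] HasDerivedCategory.standard

namespace Groth.Agent.Lib.Helper30.TildeRelTAmp

open Groth.Agent.Lib.Helper30.TildeStalk Groth.Agent.Lib.Helper30.TildeTAmp
open Groth.Agent.Lib.Helper30.PerfRestrict Groth.Agent.Lib.Helper30.FlatRestrict
open Groth.Agent.Lib.Helper30.StalkExactF Groth.Agent.Lib.Helper30.TAmpDescentRel
open Groth.Agent.Lib.Helper30.TAmpDescentF (LCx)

variable (R A : CommRingCat.{u}) [Algebra R A]

/-- the structure morphism -/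
noncomputable abbrev fS : Spec A ⟶ Spec R := Spec.map (CommRingCat.ofHom (algebraMap R A))

/-- the functor `N ↦ ((N~)|_V)_y`, as a module over `O_{S, f y}` -/
noncomputable abbrev LVS (V : (Spec A).Opens) (y : (V : Scheme.{u})) :
    ModuleCat.{u} A ⥤ ModuleCat.{u} ((Spec R).presheaf.stalk ((V.ι ≫ fS R A).base y)) :=
  tilde.functor A ⋙ Scheme.Modules.restrictFunctor V.ι ⋙ DerSch.stalkOver (V.ι ≫ fS R A) y

theorem isFlatOver_tilde_iff (N : ModuleCat.{u} A) :
    FlatMod.IsFlatOver (fS R A) (tilde N) ↔ Module.Flat R ((res R A).obj N) := by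
  let _ : Module R N := Module.compHom N (algebraMap R A)
  have : IsScalarTower R A N := IsScalarTower.of_compHom R A N
  exact Groth.Agent.Lib.Helper12.FlatOver.tilde_isFlatOver_iff' (R := R) (S := A) N

variable [PreservesFiniteLimits (tilde.functor A)]

/-- comparison of the two ways of taking termwise stalks of the restriction of `K~` -/
noncomputable def stalkOverRestrictTildeCxIso (V : (Spec A).Opens) (y : (V : Scheme.{u}))
    (K : CochainComplex (ModuleCat.{u} A) ℤ) :
    ((DerSch.stalkOver (V.ι ≫ fS R A) y).mapHomologicalComplex (ComplexShape.up ℤ)).obj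
        ((rC V.ι).obj ((tildeCx A).obj K)) ≅
      ((LVS R A V y).mapHomologicalComplex (ComplexShape.up ℤ)).obj K :=
  HomologicalComplex.Hom.isoOfComponents (fun i => Iso.refl _) (by
    intro i j _
    exact (Category.id_comp _).trans (Category.comp_id _).symm)

theorem tAmp_rel_of_locally [Module.Flat R A] (K : CochainComplex (ModuleCat.{u} A) ℤ) (a b : ℤ)
    (h : ∀ x : Spec A, ∃ (V : (Spec A).Opens) (_ : x ∈ V)
      (E : CochainComplex (V : Scheme.{u}).Modules ℤ),
      DCoh.VanishesOutside E a b ∧ (∀ i, FlatMod.IsFlatOver (V.ι ≫ fS R A) (E.X i)) ∧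
      Nonempty (DerivedCategory.Q.obj ((rC V.ι).obj ((tildeCx A).obj K)) ≅
        DerivedCategory.Q.obj E)) :
    DRing.HasTorAmplitudeIn R a b (DerivedCategory.Q.obj ((LCx (res R A)).obj K)) := by
  choose V hx E hv hfl e using h
  let y : ∀ x : Spec A, (V x : Scheme.{u}) := fun x => ⟨x, hx x⟩
  have hy : ∀ x : Spec A, (V x).ι (y x) = x := fun x => rfl
  refine Groth.Agent.Lib.Helper30.TAmpDescentRel.TAmp_descent (R := R) (A := A)
    (fun x : Spec A => ((Spec R).presheaf.stalk (((V x).ι ≫ fS R A).base (y x)) : Type u))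
    (fun x => LVS R A (V x) (y x)) ?_ K a b ?_
  · refine ⟨fun x N hN => ?_, fun N hN => ?_, fun N hN => ?_⟩
    · have h1 : FlatMod.IsFlatOver (fS R A) (tilde N) := (isFlatOver_tilde_iff R A N).mpr hN
      exact (isFlatOverAt_restrict_iff (V x).ι (fS R A) (tilde N) (y x)).mpr (h1 _)
    · have : Subsingleton N := subsingleton_of_stalks N (fun x => by
        have h1 : Subsingleton (((Scheme.Modules.restrictFunctor (V x).ι).obj (tilde N)).presheaf.stalk
            (y x)) := ModuleCat.subsingleton_of_isZero (hN x)
        have h2 := (subsingleton_stalk_restrict_iff (V x).ι (tilde N) (y x)).mp h1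
        rw [hy x] at h2
        exact h2)
      exact ModuleCat.isZero_of_subsingleton N
    · refine (isFlatOver_tilde_iff R A N).mp (fun x => ?_)
      have h1 : FlatMod.IsFlatOverAt ((V x).ι ≫ fS R A)
          ((Scheme.Modules.restrictFunctor (V x).ι).obj (tilde N)) (y x) := hN x
      have h2 := (isFlatOverAt_restrict_iff (V x).ι (fS R A) (tilde N) (y x)).mp h1
      rw [hy x] at h2
      exact h2
  · intro x
    let S := DerSch.stalkOver ((V x).ι ≫ fS R A) (y x)
    refine ⟨(S.mapHomologicalComplex (ComplexShape.up ℤ)).obj (E x), ?_, ?_, ⟨?_⟩⟩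
    · intro i hi
      exact S.map_isZero (hv x i hi)
    · intro i
      exact hfl x i (y x)
    · exact (S.mapDerivedCategoryFactors.app (E x)).symm ≪≫
        S.mapDerivedCategory.mapIso (e x).some.symm ≪≫
        S.mapDerivedCategoryFactors.app _ ≪≫
        DerivedCategory.Q.mapIso (stalkOverRestrictTildeCxIso R A (V x) (y x) K)

end Groth.Agent.Lib.Helper30.TildeRelTAmp
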