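import Mathlib
import Groth.Prelude.Def_DualSh
import Groth.Agent.Lib.Helper30.TildeRelTAmp
import Groth.Agent.Lib.Helper30.TildePerf

/-!
# Relative perfectness of `M~` on `Spec A` over `Spec R` versus relative perfectness of `M` (helper30)
-/

set_option autoImplicit false
universe u
open CategoryTheory CategoryTheory.Limits AlgebraicGeometry Pretriangulated
attribute [local instance] HasDerivedCategory.standard

namespace Groth.Agent.Lib.Helper30.TildeRelPerf

open Groth.Agent.Lib.Helper30.TildeStalk Groth.Agent.Lib.Helper30.TildeTAmp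
open Groth.Agent.Lib.Helper30.PerfRestrict Groth.Agent.Lib.Helper30.TildePC
open Groth.Agent.Lib.Helper30.TildeRelTAmp Groth.Agent.Lib.Helper30.TAmpDescentRel
open Groth.Agent.Lib.Helper30.FlatRestrict
open Groth.Agent.Lib.Helper30.TAmpDescentF (LCx opcyclesLIso)
open Groth.Agent.Lib.Helper35.TA Groth.Agent.Lib.Helper6

variable (R A : CommRingCat.{u}) [Algebra R A] [Module.Flat R A]
  [PreservesFiniteLimits (tilde.functor A)]

/-- restriction of scalars on derived categories, computed termwise -/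
noncomputable def resDQ (K : CochainComplex (ModuleCat.{u} A) ℤ) :
    (DRing.restrictD (algebraMap R A)).obj (DerivedCategory.Q.obj K) ≅
      DerivedCategory.Q.obj ((LCx (res R A)).obj K) :=
  (res R A).mapDerivedCategoryFactors.app K

theorem hasFiniteTorDimCx_of_tildeD (M : DerivedCategory (ModuleCat.{u} A))
    (h : DCoh.LocHasFiniteRelTorDim (fS R A) ((DCoh.tildeD A).obj M)) :
    DRing.HasFiniteTorDimCx R ((DRing.restrictD (algebraMap R A)).obj M) := by
  let K : CochainComplex (ModuleCat.{u} A) ℤ := DerivedCategory.Q.objPreimage M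
  let eK : DerivedCategory.Q.obj K ≅ M := DerivedCategory.Q.objObjPreimageIso M
  let F' := (tildeCx A).obj K
  let eF : DCoh.toD (Spec A) F' ≅ (DCoh.tildeD A).obj M :=
    (tildeDQIso A K).symm ≪≫ (DCoh.tildeD A).mapIso eK
  choose V av bv hxV hV using h
  have hV' := fun x => hV x F' ⟨eF⟩
  choose E hE hfl e using hV'
  obtain ⟨t, ht⟩ := isCompact_univ.elim_finite_subcover
    (fun x : Spec A => ((V x : (Spec A).Opens) : Set (Spec A)))
    (fun x => (V x).isOpen) (fun x _ => Set.mem_iUnion.mpr ⟨x, hxV x⟩)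
  let b : ℤ := ((t.sup (fun x => (bv x).toNat) : ℕ) : ℤ)
  let a : ℤ := -((t.sup (fun x => (-(av x)).toNat) : ℕ) : ℤ)
  have hT : DRing.HasTorAmplitudeIn R a b (DerivedCategory.Q.obj ((LCx (res R A)).obj K)) := by
    refine tAmp_rel_of_locally R A K a b (fun z => ?_)
    obtain ⟨x, hx⟩ := Set.mem_iUnion.mp (ht (Set.mem_univ z))
    obtain ⟨hxt, hzx⟩ := Set.mem_iUnion.mp hx
    refine ⟨V x, hzx, E x, ?_, hfl x, ⟨(e x).some.symm⟩⟩
    intro i hi
    refine hE x i ?_
    have h5 : (bv x).toNat ≤ t.sup (fun x => (bv x).toNat) :=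
      Finset.le_sup (f := fun x => (bv x).toNat) hxt
    have h6 : bv x ≤ ((bv x).toNat : ℤ) := Int.self_le_toNat _
    have h7 : (-(av x)).toNat ≤ t.sup (fun x => (-(av x)).toNat) :=
      Finset.le_sup (f := fun x => (-(av x)).toNat) hxt
    have h8 : -(av x) ≤ ((-(av x)).toNat : ℤ) := Int.self_le_toNat _
    rcases hi with hi | hi
    · left
      change i < -((t.sup (fun x => (-(av x)).toNat) : ℕ) : ℤ) at hi
      omega
    · right
      change ((t.sup (fun x => (bv x).toNat) : ℕ) : ℤ) < i at hi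
      omega
  exact ⟨a, b, TAmp.of_iso hT ((resDQ R A K).symm ≪≫ (DRing.restrictD (algebraMap R A)).mapIso eK)⟩

omit [Module.Flat R A] [PreservesFiniteLimits (tilde.functor A)] in
lemma flat_res_truncGE_X (P : DRing.Cx A) (a i : ℤ)
    (hP : a < i → Module.Flat R ((res R A).obj (P.X i)))
    (hop : i = a → Module.Flat R ((res R A).obj (P.opcycles a))) :
    Module.Flat R ((res R A).obj ((P.truncGE a).X i)) := by
  by_cases hia : a < i
  · have := hP hia
    exact Module.Flat.of_linearEquiv ((res R A).mapIso (P.truncGEXIso a i hia)).toLinearEquiv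
  · by_cases hia' : i < a
    · have hz := (P.truncGE a).isZero_of_isStrictlyGE a i hia'
      have : Subsingleton ((P.truncGE a).X i) := ModuleCat.subsingleton_of_isZero hz
      have : Subsingleton ((res R A).obj ((P.truncGE a).X i)) := this
      infer_instance
    · have : i = a := by omega
      subst this
      have := hop rfl
      exact Module.Flat.of_linearEquiv
        ((res R A).mapIso (P.truncGEXIsoOpcycles i)).toLinearEquiv

omit [PreservesFiniteLimits (tilde.functor A)] in
/-- a pseudo-coherent complex of `A`-modules which has tor amplitude in `[a, b]` over `R` is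
represented by a bounded complex of `R`-flat `A`-modules -/
theorem exists_res_flat_of_TAmp (M : DerivedCategory (ModuleCat.{u} A))
    (hpc : DRing.IsPseudoCoherent' A M) (a b : ℤ)
    (ht : DRing.HasTorAmplitudeIn R a b ((DRing.restrictD (algebraMap R A)).obj M)) :
    ∃ (E₀ : DRing.Cx A) (b' : ℤ), DRing.VanishesOutside E₀ a b' ∧
      (∀ i, Module.Flat R ((res R A).obj (E₀.X i))) ∧ Nonempty (DerivedCategory.Q.obj E₀ ≅ M) := by
  obtain ⟨P, b', hPb, hP, ⟨e⟩⟩ := hpc
  let PR := (LCx (res R A)).obj P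
  have hPRb : DRing.VanishesAbove PR b' := fun i hi => (res R A).map_isZero (hPb i hi)
  have hPflat : ∀ i : ℤ, Module.Flat R ((res R A).obj (P.X i)) := fun i => by
    have := (hP i).2
    have : Module.Flat A (P.X i) := inferInstance
    exact flat_restrictScalars_of_flat (P.X i)
  have hT : TAmp a b (DRing.toD PR) :=
    TAmp.of_iso ht ((DRing.restrictD (algebraMap R A)).mapIso e.symm ≪≫ resDQ R A P)
  obtain ⟨hG, hF⟩ := flat_opcycles_of_TAmp' PR b' hPRb hPflat a b hT
  have hPG : P.IsGE a := by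
    rw [CochainComplex.isGE_iff]
    intro i hi
    rw [HomologicalComplex.exactAt_iff_isZero_homology]
    have h1 : IsZero (PR.homology i) := by
      rw [← HomologicalComplex.exactAt_iff_isZero_homology]
      exact PR.exactAt_of_isGE a i hi
    have h2 : IsZero ((res R A).obj (P.homology i)) :=
      h1.of_iso ((ExactDC.homologyIsoCx (res R A) i).app P).symm
    have : Subsingleton ((res R A).obj (P.homology i)) := ModuleCat.subsingleton_of_isZero h2
    have : Subsingleton (P.homology i) := this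
    exact ModuleCat.isZero_of_subsingleton _
  have hop : Module.Flat R ((res R A).obj (P.opcycles a)) :=
    Module.Flat.of_linearEquiv (opcyclesLIso (res R A) P a).toLinearEquiv.symm
  have hq : QuasiIso (P.πTruncGE a) := inferInstance
  have hiso : IsIso (DerivedCategory.Q.map (P.πTruncGE a)) := by
    rw [DerivedCategory.isIso_Q_map_iff_quasiIso]
    exact hq
  refine ⟨P.truncGE a, b', ?_, fun i => flat_res_truncGE_X R A P a i (fun _ => hPflat i)
    (fun _ => hop), ⟨(asIso (DerivedCategory.Q.map (P.πTruncGE a))).symm ≪≫ e⟩⟩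
  intro i hi
  rcases hi with hi | hi
  · exact (P.truncGE a).isZero_of_isStrictlyGE a i hi
  · exact isZero_truncGE_X_of_vanishesAbove P b' hPb a i hi

theorem locHasFiniteRelTorDim_tildeD (M : DerivedCategory (ModuleCat.{u} A))
    (hpc : DRing.IsPseudoCoherent' A M)
    (ht : DRing.HasFiniteTorDimCx R ((DRing.restrictD (algebraMap R A)).obj M)) :
    DCoh.LocHasFiniteRelTorDim (fS R A) ((DCoh.tildeD A).obj M) := by
  obtain ⟨a, b, ht⟩ := ht
  obtain ⟨E₀, b', hv, hfl, ⟨e⟩⟩ := exists_res_flat_of_TAmp R A M hpc a b ht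
  intro x
  refine ⟨⊤, a, b', trivial, fun F' ⟨eF⟩ => ?_⟩
  refine ⟨(rC (⊤ : (Spec A).Opens).ι).obj ((tildeCx A).obj E₀), ?_, ?_, ⟨?_⟩⟩
  · intro i hi
    exact (Scheme.Modules.restrictFunctor _).map_isZero ((tilde.functor A).map_isZero (hv i hi))
  · intro i y
    exact (isFlatOverAt_restrict_iff (⊤ : (Spec A).Opens).ι (fS R A) (tilde (E₀.X i)) y).mpr
      ((isFlatOver_tilde_iff R A (E₀.X i)).mpr (hfl i) _)
  · exact ((rDQ (⊤ : (Spec A).Opens).ι).app _).symm ≪≫
      (rD (⊤ : (Spec A).Opens).ι).mapIso ((tildeDQIso A E₀).symm ≪≫ (DCoh.tildeD A).mapIso e ≪≫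
        eF.symm) ≪≫ (rDQ (⊤ : (Spec A).Opens).ι).app F'

/-- the two descriptions of relative perfectness on `Spec A` over `Spec R` -/
theorem relPerfect_iff (M : DerivedCategory (ModuleCat.{u} A)) :
    ((∀ m : ℤ, DCoh.IsPseudoCoherentD m ((DCoh.tildeD A).obj M)) ∧
      DCoh.LocHasFiniteRelTorDim (fS R A) ((DCoh.tildeD A).obj M)) ↔
    (DRing.IsPseudoCoherent' A M ∧
      DRing.HasFiniteTorDimCx R ((DRing.restrictD (algebraMap R A)).obj M)) := by
  constructor
  · rintro ⟨h1, h2⟩
    exact ⟨Resol.isPC'_of_forall_isPC M (fun m => isPC_of_isPseudoCoherentD_tildeD A M m (h1 m)),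
      hasFiniteTorDimCx_of_tildeD R A M h2⟩
  · rintro ⟨h1, h2⟩
    exact ⟨fun m => isPseudoCoherentD_tildeD A M m ((Resol.isPC'_iff M).mp h1 m),
      locHasFiniteRelTorDim_tildeD R A M h1 h2⟩

end Groth.Agent.Lib.Helper30.TildeRelPerf
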