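import Mathlib

/-!
Shared lemmas on universally injective maps and flatness (stated without the Prelude definition:
"universally injective" is spelled out as `∀ Q, Function.Injective (f.rTensor Q)`).
-/

set_option autoImplicit false
universe u

open scoped TensorProduct

namespace Groth.Agent.Lib.Helper30

variable {R : Type u} [CommRing R]

/-- If `K → F → M → 0` is exact with `F` flat and `K → F` universally injective, then `M` is
flat. -/
theorem flat_of_exact_of_univInj {K F M : Type u} [AddCommGroup K] [Module R K]
    [AddCommGroup F] [Module R F] [AddCommGroup M] [Module R M] [Module.Flat R F]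
    (i : K →ₗ[R] F) (π : F →ₗ[R] M) (hex : Function.Exact i π) (hπ : Function.Surjective π)
    (hi : ∀ (Q : Type u) [AddCommGroup Q] [Module R Q], Function.Injective (i.rTensor Q)) :
    Module.Flat R M := by
  rw [Module.Flat.iff_lTensor_preserves_injective_linearMap]
  intro N' N _ _ _ _ φ hφ
  have hNexact : Function.Exact φ (LinearMap.range φ).mkQ := by
    rw [LinearMap.exact_iff, Submodule.ker_mkQ]
  have h1 : Function.Injective (i.rTensor (N ⧸ LinearMap.range φ)) := hi _
  have h2 : Function.Injective (φ.lTensor F) :=
    Module.Flat.lTensor_preserves_injective_linearMap _ hφ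
  exact lTensor_injective_of_exact_of_exact_of_rTensor_injective hex hπ hNexact
    (Submodule.mkQ_surjective _) h1 h2

/-- A universally injective submodule of a flat module is flat. -/
theorem flat_of_univInj_of_flat {K F : Type u} [AddCommGroup K] [Module R K]
    [AddCommGroup F] [Module R F] [Module.Flat R F] (i : K →ₗ[R] F)
    (hi : ∀ (Q : Type u) [AddCommGroup Q] [Module R Q], Function.Injective (i.rTensor Q)) :
    Module.Flat R K := by
  rw [Module.Flat.iff_lTensor_preserves_injective_linearMap]
  intro N' N _ _ _ _ φ hφ
  have h1 : Function.Injective ((φ.lTensor F).comp (i.rTensor N')) := by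
    rw [LinearMap.coe_comp]
    exact (Module.Flat.lTensor_preserves_injective_linearMap _ hφ).comp (hi N')
  rw [LinearMap.lTensor_comp_rTensor, ← LinearMap.rTensor_comp_lTensor, LinearMap.coe_comp] at h1
  exact Function.Injective.of_comp h1

end Groth.Agent.Lib.Helper30
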